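import Mathlib.LinearAlgebra.Matrix.Symmetric
import Mathlib.Algebra.BigOperators.Fin
import Mathlib.Algebra.Order.BigOperators.Group.Finset
import Mathlib.Algebra.Order.Field.Basic
import Mathlib.Tactic.Ring
import Mathlib.Tactic.FieldSimp
import Mathlib.Tactic.Linarith

/-! Semi-definiteness of symmetric matrices with non-negative off-diagonal entries killing a
positive vector. -/

namespace Groth.Agent.NumType

open Finset

variable {K : Type*} [Field K] [LinearOrder K] [IsStrictOrderedRing K] {n : ℕ}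
variable {A : Matrix (Fin n) (Fin n) K} {m : Fin n → K}

lemma quad_identity (hs : A.IsSymm) (hm : ∀ i, 0 < m i) (x : Fin n → K) :
    2 * dotProduct x (A.mulVec x) =
      (∑ i, ∑ j, -(A i j * m i * m j * (x i / m i - x j / m j) ^ 2)) +
        2 * ∑ i, x i ^ 2 / m i * A.mulVec m i := by
  have h : ∀ i j, -(A i j * m i * m j * (x i / m i - x j / m j) ^ 2) =
      2 * (x i * (A i j * x j)) - (x i ^ 2 / m i * (A i j * m j) + x j ^ 2 / m j * (A i j * m i)) := by
    intro i j
    have := (hm i).ne'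
    have := (hm j).ne'
    field_simp
    ring
  have e1 : dotProduct x (A.mulVec x) = ∑ i, ∑ j, x i * (A i j * x j) := by
    simp [dotProduct, Matrix.mulVec, Finset.mul_sum]
  have e2 : ∑ i, x i ^ 2 / m i * A.mulVec m i = ∑ i, ∑ j, x i ^ 2 / m i * (A i j * m j) := by
    simp [dotProduct, Matrix.mulVec, Finset.mul_sum]
  have e3 : ∑ i, ∑ j, x j ^ 2 / m j * (A i j * m i) = ∑ i, ∑ j, x i ^ 2 / m i * (A i j * m j) := by
    rw [Finset.sum_comm]
    exact sum_congr rfl fun i _ => sum_congr rfl fun j _ => by rw [hs.apply]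
  simp only [h, sum_sub_distrib, sum_add_distrib, ← Finset.mul_sum]
  rw [e1, e2, e3]
  simp only [← Finset.mul_sum]
  ring

variable (hs : A.IsSymm) (hA : ∀ i j, i ≠ j → 0 ≤ A i j) (hm : ∀ i, 0 < m i)
include hs hA hm

lemma quad_term_nonneg (x : Fin n → K) (i j : Fin n) :
    0 ≤ A i j * m i * m j * (x i / m i - x j / m j) ^ 2 := by
  by_cases hij : i = j
  · subst hij; simp
  · have := hA i j hij; have := hm i; have := hm j
    positivity

lemma quad_nonpos (hle : ∀ i, A.mulVec m i ≤ 0) (x : Fin n → K) :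
    dotProduct x (A.mulVec x) ≤ 0 := by
  have h1 : ∑ i, ∑ j, -(A i j * m i * m j * (x i / m i - x j / m j) ^ 2) ≤ 0 :=
    sum_nonpos fun i _ => sum_nonpos fun j _ => neg_nonpos.2 (quad_term_nonneg hs hA hm x i j)
  have h2 : ∑ i, x i ^ 2 / m i * A.mulVec m i ≤ 0 :=
    sum_nonpos fun i _ => mul_nonpos_of_nonneg_of_nonpos
      (div_nonneg (sq_nonneg _) (hm i).le) (hle i)
  have := quad_identity hs hm x
  linarith

lemma eq_smul_of_quad_nonneg (hle : ∀ i, A.mulVec m i ≤ 0)
    (x : Fin n → K) (hx : 0 ≤ dotProduct x (A.mulVec x)) :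
    (∀ i j, A i j ≠ 0 → i ≠ j → x i / m i = x j / m j) ∧ ∀ i, x i ≠ 0 → A.mulVec m i = 0 := by
  have hS : ∀ i, ∑ j, -(A i j * m i * m j * (x i / m i - x j / m j) ^ 2) ≤ 0 :=
    fun i => sum_nonpos fun j _ => neg_nonpos.2 (quad_term_nonneg hs hA hm x i j)
  have h2 : ∀ i, x i ^ 2 / m i * A.mulVec m i ≤ 0 := fun i =>
    mul_nonpos_of_nonneg_of_nonpos (div_nonneg (sq_nonneg _) (hm i).le) (hle i)
  have hid := quad_identity hs hm x
  have a1 := sum_nonpos (s := univ) fun i _ => hS i
  have a2 := sum_nonpos (s := univ) fun i _ => h2 i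
  refine ⟨fun i j hij hne => ?_, fun i hi => ?_⟩
  · have z := (sum_eq_zero_iff_of_nonpos (s := univ) fun i _ => hS i).1 (by linarith) i (mem_univ _)
    have z' := (sum_eq_zero_iff_of_nonpos (s := univ) fun j _ =>
      neg_nonpos.2 (quad_term_nonneg hs hA hm x i j)).1 z j (mem_univ _)
    rw [neg_eq_zero, mul_eq_zero, mul_eq_zero, mul_eq_zero] at z'
    rcases z' with ((h | h) | h) | h
    · exact absurd h hij
    · exact absurd h (hm i).ne'
    · exact absurd h (hm j).ne'
    · exact sub_eq_zero.1 ((pow_eq_zero_iff (by norm_num)).1 h)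
  · have z := (sum_eq_zero_iff_of_nonpos (s := univ) fun i _ => h2 i).1 (by linarith) i (mem_univ _)
    rw [mul_eq_zero, div_eq_zero_iff] at z
    rcases z with (h | h) | h
    · exact absurd ((pow_eq_zero_iff (by norm_num)).1 h) hi
    · exact absurd h (hm i).ne'
    · exact h

/-- In the connected case the form vanishes only on multiples of `m`. -/
lemma exists_smul_of_quad_nonneg (hAm : A.mulVec m = 0)
    (hconn : ∀ I : Finset (Fin n), I.Nonempty → I ≠ univ → ∃ i ∈ I, ∃ j ∉ I, A i j ≠ 0)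
    (x : Fin n → K) (hx : 0 ≤ dotProduct x (A.mulVec x)) :
    ∃ q : K, x = q • m := by
  rcases isEmpty_or_nonempty (Fin n) with h | ⟨⟨i0⟩⟩
  · exact ⟨0, funext fun i => h.elim i⟩
  classical
  let I : Finset (Fin n) := univ.filter fun i => x i / m i = x i0 / m i0
  have hI : I = univ := by
    by_contra hne
    obtain ⟨i, hi, j, hj, hij⟩ := hconn I ⟨i0, by simp [I]⟩ hne
    have := (eq_smul_of_quad_nonneg hs hA hm (fun i => by simp [hAm]) x hx).1 i j hij
      (fun e => hj (e ▸ hi))
    simp only [I, mem_filter, mem_univ, true_and] at hi hj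
    exact hj (this ▸ hi)
  refine ⟨x i0 / m i0, funext fun i => ?_⟩
  have : i ∈ I := hI ▸ mem_univ i
  simp only [I, mem_filter, mem_univ, true_and] at this
  simp [← this, (hm i).ne']

end Groth.Agent.NumType
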