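import Groth.Prelude.Def_Models
import Groth.Agent.Lib.NumType.Quad
import Mathlib.Algebra.Order.BigOperators.Ring.Finset
import Mathlib.Algebra.Ring.Parity
import Mathlib.Analysis.Real.Sqrt
import Mathlib.Tactic.Push
import Mathlib.Combinatorics.SimpleGraph.Acyclic

/-! Elementary properties of numerical types. -/

namespace Groth.Agent.NumType

open Finset Models

variable {n : ℕ} (T : NumericalType n)

lemma a_symm (i j : Fin n) : T.a i j = T.a j i := T.symm.apply j i

lemma row_sum (i : Fin n) : ∑ j, T.a i j * T.m j = 0 := congrFun T.mulVec_m i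

lemma row_sum_erase (i : Fin n) :
    ∑ j ∈ univ.erase i, T.a i j * T.m j = -(T.a i i * T.m i) := by
  have h := row_sum T i
  rw [← sum_erase_add _ _ (mem_univ i)] at h
  linarith

lemma diag_neg (hn : 1 < n) (i : Fin n) : T.a i i < 0 := by
  obtain ⟨k, hk, j, hj, hij⟩ := T.connected {i} (singleton_nonempty i) (fun h => by
    have := congrArg Finset.card h
    simp at this; omega)
  simp only [mem_singleton] at hk hj
  subst hk
  have h1 : 0 < ∑ l ∈ univ.erase k, T.a k l * T.m l :=
    sum_pos' (fun l hl => mul_nonneg (T.offDiag_nonneg k l (fun e => (ne_of_mem_erase hl) e.symm)) (T.m_pos l).le)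
      ⟨j, mem_erase.2 ⟨hj, mem_univ _⟩,
        mul_pos (lt_of_le_of_ne (T.offDiag_nonneg k j (Ne.symm hj)) (Ne.symm hij)) (T.m_pos j)⟩
  rw [row_sum_erase] at h1
  nlinarith [T.m_pos k]

lemma diag_nonpos (i : Fin n) : T.a i i ≤ 0 := by
  have h : (0 : ℤ) ≤ ∑ l ∈ univ.erase i, T.a i l * T.m l :=
    sum_nonneg fun l hl => mul_nonneg (T.offDiag_nonneg i l (fun e => (ne_of_mem_erase hl) e.symm)) (T.m_pos l).le
  rw [row_sum_erase] at h
  nlinarith [T.m_pos i]

lemma ne_of_pos {i j : Fin n} (h : 0 < T.a i j) : i ≠ j := by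
  rintro rfl
  exact (diag_nonpos T i).not_gt h

lemma pos_of_ne {i j : Fin n} (hij : i ≠ j) (h : T.a i j ≠ 0) : 0 < T.a i j :=
  lt_of_le_of_ne (T.offDiag_nonneg i j hij) (Ne.symm h)

lemma w_le_left {i j : Fin n} (h : 0 < T.a i j) : T.w i ≤ T.a i j :=
  Int.le_of_dvd h (T.w_dvd i j)

lemma w_le_right {i j : Fin n} (h : 0 < T.a i j) : T.w j ≤ T.a i j := by
  rw [a_symm T i j] at h ⊢
  exact w_le_left T h

/-- The contribution of the index `i` to twice the genus minus two. -/
def contr (i : Fin n) : ℤ := T.m i * (2 * T.w i * (T.g i - 1) - T.a i i)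

lemma two_dvd_sum : (2 : ℤ) ∣ ∑ i, T.m i * T.a i i := by
  have h2 : ∀ i, (2 : ℤ) ∣ T.m i * T.m i * T.a i i - T.m i * T.a i i := fun i => by
    obtain ⟨r, hr⟩ := (Int.even_mul_succ_self (T.m i - 1))
    exact ⟨r * T.a i i, by
      linear_combination T.a i i * hr⟩
  have h3 : (2 : ℤ) ∣ ∑ i, T.m i * T.m i * T.a i i := by
    have key : ∀ s : Finset (Fin n), (2 : ℤ) ∣
        (∑ i ∈ s, ∑ j ∈ s, T.m i * T.a i j * T.m j) - ∑ i ∈ s, T.m i * T.m i * T.a i i := by
      intro s
      induction s using Finset.induction_on with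
      | empty => simp
      | insert b s hb ih =>
        simp only [sum_insert hb, sum_add_distrib]
        obtain ⟨r, hr⟩ := ih
        have e : ∑ i ∈ s, T.m i * T.a i b * T.m b = ∑ j ∈ s, T.m b * T.a b j * T.m j :=
          sum_congr rfl fun i _ => by rw [a_symm T i b]; ring
        exact ⟨r + ∑ j ∈ s, T.m b * T.a b j * T.m j, by rw [e]; linear_combination hr⟩
    have z : ∑ i, ∑ j, T.m i * T.a i j * T.m j = 0 := by
      simp only [mul_assoc, ← Finset.mul_sum, row_sum T, mul_zero, sum_const_zero]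
    simpa [z] using key univ
  have : (2 : ℤ) ∣ ∑ i, (T.m i * T.m i * T.a i i - T.m i * T.a i i) := dvd_sum fun i _ => h2 i
  rw [sum_sub_distrib] at this
  exact (dvd_sub_right h3).1 this

lemma two_mul_genus_sub_two : 2 * T.genus - 2 = ∑ i, contr T i := by
  have h := Int.ediv_mul_cancel (two_dvd_sum T)
  have e : ∑ i, contr T i = 2 * (∑ i, T.m i * T.w i * (T.g i - 1)) - ∑ i, T.m i * T.a i i := by
    rw [Finset.mul_sum, ← sum_sub_distrib]
    exact sum_congr rfl fun i _ => by unfold contr; ring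
  rw [e, NumericalType.genus]
  linarith

lemma isMinusOne_of_contr_neg (hn : 1 < n) {i : Fin n} (h : contr T i < 0) : T.IsMinusOne i := by
  unfold contr at h
  have hd := diag_neg T hn i
  have hg := T.g_nonneg i
  have hw := T.w_pos i
  have hneg : 2 * T.w i * (T.g i - 1) - T.a i i < 0 := by nlinarith [T.m_pos i]
  have hg0 : T.g i = 0 := by
    by_contra hne
    have : 1 ≤ T.g i := by omega
    nlinarith
  rw [hg0] at hneg
  obtain ⟨k, hk⟩ := T.w_dvd i i
  refine ⟨hg0, ?_⟩
  rw [hk] at hneg hd ⊢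
  have h1 : k < 0 := by nlinarith
  have h2 : -2 < k := by nlinarith
  have : k = -1 := by omega
  rw [this]; ring

lemma isMinusTwo_of_contr_zero (hn : 1 < n) {i : Fin n} (h : contr T i = 0) : T.IsMinusTwo i := by
  unfold contr at h
  have hd := diag_neg T hn i
  have hg := T.g_nonneg i
  have hw := T.w_pos i
  have hz : 2 * T.w i * (T.g i - 1) - T.a i i = 0 :=
    (mul_eq_zero.1 h).resolve_left (T.m_pos i).ne'
  have hg0 : T.g i = 0 := by
    by_contra hne
    have : 1 ≤ T.g i := by omega
    nlinarith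
  rw [hg0] at hz
  exact ⟨hg0, by linarith⟩

lemma contr_nonneg (hmin : T.IsMinimal) (hn : 1 < n) (i : Fin n) : 0 ≤ contr T i :=
  le_of_not_gt fun h => hmin i (isMinusOne_of_contr_neg T hn h)

lemma one_le_genus (hmin : T.IsMinimal) (hn : 1 < n) : 1 ≤ T.genus := by
  have h := two_mul_genus_sub_two T
  have : 0 ≤ ∑ i, contr T i := sum_nonneg fun i _ => contr_nonneg T hmin hn i
  omega

lemma mul_le_of_pos {i j : Fin n} (hij : 0 < T.a i j) :
    T.m i * T.a i j ≤ T.m j * |T.a j j| ∧ T.m i * T.w i ≤ T.m j * |T.a j j| := by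
  have h : T.a j i * T.m i ≤ ∑ l ∈ univ.erase j, T.a j l * T.m l :=
    single_le_sum (f := fun l => T.a j l * T.m l) (fun l hl => mul_nonneg
      (T.offDiag_nonneg j l (fun e => (ne_of_mem_erase hl) e.symm)) (T.m_pos l).le)
      (mem_erase.2 ⟨ne_of_pos T hij, mem_univ i⟩)
  rw [row_sum_erase, ← a_symm T i j] at h
  rw [abs_of_nonpos (diag_nonpos T j)]
  have := w_le_left T hij
  constructor <;> nlinarith [T.m_pos i]

/-! ### The form over `ℝ` -/

/-- The intersection matrix with real entries. -/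
def aR : Matrix (Fin n) (Fin n) ℝ := T.a.map (Int.cast)

@[simp] lemma aR_apply (i j : Fin n) : aR T i j = (T.a i j : ℝ) := rfl

lemma aR_symm : (aR T).IsSymm := Matrix.IsSymm.ext fun i j => by simp [a_symm T j i]

lemma aR_mulVec_m : (aR T).mulVec (fun i => (T.m i : ℝ)) = 0 := by
  funext i
  have h := congrArg (Int.cast (R := ℝ)) (row_sum T i)
  push_cast at h
  exact h

lemma aR_exists_smul (x : Fin n → ℝ) (hx : 0 ≤ dotProduct x ((aR T).mulVec x)) :
    ∃ q : ℝ, x = q • fun i => (T.m i : ℝ) :=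
  exists_smul_of_quad_nonneg (aR_symm T)
    (fun i j hij => by simpa using T.offDiag_nonneg i j hij)
    (fun i => by simpa using T.m_pos i) (aR_mulVec_m T)
    (fun I h1 h2 => by simpa using T.connected I h1 h2) x hx

lemma mulVec_eq_zero_iff (x : Fin n → ℤ) :
    T.a.mulVec x = 0 ↔ ∀ i j, x i * T.m j = x j * T.m i := by
  constructor
  · intro h i j
    have hx : (aR T).mulVec (fun i => (x i : ℝ)) = 0 := by
      funext i
      have h' : ∑ j, T.a i j * x j = 0 := congrFun h i
      have h'' := congrArg (Int.cast (R := ℝ)) h'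
      push_cast at h''
      exact h''
    obtain ⟨q, hq⟩ := aR_exists_smul T (fun i => (x i : ℝ)) (by simp [hx])
    have hi := congrFun hq i
    have hj := congrFun hq j
    simp only [Pi.smul_apply, smul_eq_mul] at hi hj
    have : (x i : ℝ) * T.m j = x j * T.m i := by rw [hi, hj]; ring
    exact_mod_cast this
  · intro h
    funext i
    have : T.m i * (∑ j, T.a i j * x j) = x i * ∑ j, T.a i j * T.m j := by
      simp only [Finset.mul_sum]
      exact sum_congr rfl fun j _ => by linear_combination (T.a i j) * (h j i)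
    rw [row_sum, mul_zero] at this
    exact (mul_eq_zero.1 this).resolve_left (T.m_pos i).ne'

/-! ### The dual graph -/

/-- The dual graph of a numerical type. -/
def graph : SimpleGraph (Fin n) where
  Adj i j := 0 < T.a i j
  symm := ⟨fun i j h => by rwa [a_symm T]⟩
  loopless := ⟨fun i h => ne_of_pos T h rfl⟩

lemma graph_connected : (graph T).Connected := by
  classical
  have : Nonempty (Fin n) := ⟨⟨0, T.pos⟩⟩
  refine ⟨fun u v => ?_⟩
  let I : Finset (Fin n) := univ.filter ((graph T).Reachable u)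
  by_contra hv
  obtain ⟨i, hi, j, hj, hij⟩ := T.connected I ⟨u, by simp [I]⟩
    (fun h => hv (mem_filter.1 (h ▸ mem_univ v : v ∈ I)).2)
  simp only [I, mem_filter, mem_univ, true_and] at hi hj
  exact hj (hi.trans (SimpleGraph.Adj.reachable
    (show (graph T).Adj i j from pos_of_ne T (fun e => hj (by subst e; exact hi)) hij)))

lemma edgeCount_eq : T.edgeCount = Nat.card (graph T).edgeSet := by
  classical
  rw [NumericalType.edgeCount, Nat.card_eq_fintype_card, ← SimpleGraph.edgeFinset_card]
  refine card_bij (fun p _ => s(p.1, p.2)) ?_ ?_ ?_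
  · intro p hp
    simp only [mem_filter, mem_univ, true_and] at hp
    simpa [graph] using hp.2
  · intro p hp q hq h
    simp only [mem_filter, mem_univ, true_and] at hp hq
    rcases Sym2.eq_iff.1 h with ⟨e1, e2⟩ | ⟨e1, e2⟩
    · exact Prod.ext e1 e2
    · exact absurd hq.1 (not_lt.2 (e1 ▸ e2 ▸ hp.1.le))
  · intro e he
    induction e using Sym2.ind with
    | _ i j =>
      simp only [SimpleGraph.mem_edgeFinset, SimpleGraph.mem_edgeSet, graph] at he
      rcases lt_or_gt_of_ne (ne_of_pos T he) with h | h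
      · exact ⟨(i, j), by simpa using ⟨h, he⟩, rfl⟩
      · exact ⟨(j, i), by simpa using ⟨h, by rwa [a_symm T]⟩, Sym2.eq_swap⟩

lemma topGenus_nonneg : 0 ≤ T.topGenus := by
  have h := (graph_connected T).card_vert_le_card_edgeSet_add_one
  rw [← edgeCount_eq, Nat.card_eq_fintype_card, Fintype.card_fin] at h
  unfold NumericalType.topGenus
  omega

end Groth.Agent.NumType
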