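import Groth.Agent.Lib.NumType.Exists
import Mathlib.Data.Finset.Card

/-! The bound `768 g` on the entries of a minimal numerical type of genus `g ≥ 2`. -/

namespace Groth.Agent.NumType

open Finset Models

variable {n : ℕ} (T : NumericalType n)

/-- `v` is joined inside the `(-2)`-indices by a walk of length `L` to an index with a neighbour
outside the `(-2)`-indices. -/
def Reach (L : ℕ) (v : Fin n) : Prop :=
  ∃ p : ℕ → Fin n, p 0 = v ∧ (∀ k ≤ L, T.IsMinusTwo (p k)) ∧ (∀ k < L, 0 < T.a (p k) (p (k + 1))) ∧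
    ∃ y, ¬ T.IsMinusTwo y ∧ 0 < T.a (p L) y

variable {T}

lemma Reach.step {L : ℕ} {x v : Fin n} (h : Reach T L x) (hv : T.IsMinusTwo v) (hvx : 0 < T.a v x) :
    Reach T (L + 1) v := by
  obtain ⟨p, h0, h1, h2, h3⟩ := h
  refine ⟨fun k => if k = 0 then v else p (k - 1), by simp, fun k hk => ?_, fun k hk => ?_, by simpa using h3⟩
  · beta_reduce; split_ifs with h
    · exact hv
    · exact h1 _ (by omega)
  · beta_reduce
    rcases Nat.eq_zero_or_pos k with rfl | hk0
    · simpa [h0] using hvx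
    · rw [if_neg (by omega), if_neg (by omega)]
      have := h2 (k - 1) (by omega)
      rwa [show k - 1 + 1 = k + 1 - 1 by omega] at this

lemma exists_reach (hne : ∃ j, ¬ T.IsMinusTwo j) {v : Fin n} (hv : T.IsMinusTwo v) :
    ∃ L, Reach T L v := by
  classical
  by_contra hc
  obtain ⟨j, hj⟩ := hne
  let W := univ.filter fun x : Fin n => T.IsMinusTwo x ∧ ¬ ∃ L, Reach T L x
  obtain ⟨x, hx, y, hy, hxy⟩ := T.connected W ⟨v, mem_filter.2 ⟨mem_univ _, hv, hc⟩⟩
    (fun e => hj (mem_filter.1 (e ▸ mem_univ j : j ∈ W)).2.1)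
  simp only [W, mem_filter, mem_univ, true_and] at hx hy
  have hp : 0 < T.a x y := pos_of_ne T (fun e => hy (e ▸ hx)) hxy
  by_cases hy2 : T.IsMinusTwo y
  · push Not at hy
    obtain ⟨L, hL⟩ := hy hy2
    exact hx.2 ⟨L + 1, hL.step hx.1 hp⟩
  · exact hx.2 ⟨0, fun _ => x, rfl, fun _ _ => hx.1, fun k hk => absurd hk (by omega), y, hy2, hp⟩

/-- `m i * w i`. -/
def uOf (T : NumericalType n) (i : Fin n) : ℤ := T.m i * T.w i

lemma uOf_le_two_mul {i j : Fin n} (hi : T.IsMinusTwo i) (h : 0 < T.a i j) : uOf T j ≤ 2 * uOf T i := by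
  have h1 := row1 hi (ne_of_pos T h)
  have := w_le_right T h
  unfold uOf
  nlinarith [T.m_pos j]

lemma uOf_reach (hmin : T.IsMinimal) (hn : 1 < n) (hg : 2 ≤ T.genus) {L : ℕ} {v : Fin n}
    (h : Reach T L v) : uOf T v ≤ 2 ^ L * (6 * T.genus - 6) := by
  induction L generalizing v with
  | zero =>
    obtain ⟨p, h0, h1, -, y, hy, hp⟩ := h
    have := (bounds_non_minusTwo T hmin hn hg hy).2.2 (p 0)
    have := w_le_left T hp
    rw [pow_zero, one_mul, ← h0]
    unfold uOf
    nlinarith [T.m_pos (p 0)]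
  | succ L ih =>
    obtain ⟨p, h0, h1, h2, y, hy⟩ := h
    have h' := ih (v := p 1) ⟨fun k => p (k + 1), rfl, fun k hk => h1 _ (by omega),
      fun k hk => h2 _ (by omega), y, hy⟩
    have := uOf_le_two_mul (h1 1 (by omega)) (j := p 0) (by rw [a_symm T]; exact h2 0 (by omega))
    rw [← h0, pow_succ]
    nlinarith

lemma card_lt_of_minusTwo (hne : ∃ j, ¬ T.IsMinusTwo j) {k : ℕ} (v : Fin k → Fin n)
    (hinj : Function.Injective v) (hv : ∀ i, T.IsMinusTwo (v i)) : k < n := by
  obtain ⟨j, hj⟩ := hne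
  have := Fintype.card_lt_of_injective_of_notMem v hinj (b := j) (by rintro ⟨i, rfl⟩; exact hj (hv i))
  simpa using this

lemma row_eq_two {i : Fin n} (hi : T.IsMinusTwo i) (S : Finset (Fin n)) (hS : i ∉ S)
    (h0 : ∀ j, j ≠ i → j ∉ S → T.a i j = 0) : ∑ j ∈ S, T.a i j * T.m j = 2 * T.w i * T.m i := by
  have h : ∑ j ∈ S, T.a i j * T.m j = ∑ j ∈ univ.erase i, T.a i j * T.m j :=
    sum_subset (fun j hj => mem_erase.2 ⟨fun e => hS (e ▸ hj), mem_univ _⟩)
      fun j hj hjS => by rw [h0 j (ne_of_mem_erase hj) hjS, zero_mul]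
  rw [h, row_sum_erase, hi.2]
  ring

lemma no_triangle (hne : ∃ j, ¬ T.IsMinusTwo j) {a b c : Fin n} (ha : T.IsMinusTwo a)
    (hb : T.IsMinusTwo b) (hc : T.IsMinusTwo c) (hab : 0 < T.a a b) (hbc : 0 < T.a b c)
    (hca : 0 < T.a c a) : False := by
  have n1 := ne_of_pos T hab; have n2 := ne_of_pos T hbc; have n3 := ne_of_pos T hca
  have hlt := card_lt_of_minusTwo (T := T) hne ![a, b, c]
    (fun x y e => by fin_cases x <;> fin_cases y <;> first | rfl | simp_all)
    (fun x => by fin_cases x <;> assumption)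
  refine cycle_false (T := T) {a, b, c} ⟨a, by simp⟩ (lt_of_le_of_lt card_le_three hlt) (by simp [ha, hb, hc]) ?_
  intro i hi
  refine one_lt_card.2 ?_
  simp only [mem_insert, mem_singleton] at hi
  rcases hi with rfl | rfl | rfl
  · exact ⟨b, by simp [nbrs, hab], c, by simp [nbrs, a_symm T i c, hca], n2⟩
  · exact ⟨a, by simp [nbrs, a_symm T i a, hab], c, by simp [nbrs, hbc], n3.symm⟩
  · exact ⟨a, by simp [nbrs, hca], b, by simp [nbrs, a_symm T i b, hbc], n1⟩

lemma no_square (hne : ∃ j, ¬ T.IsMinusTwo j) {a b c d : Fin n} (ha : T.IsMinusTwo a)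
    (hb : T.IsMinusTwo b) (hc : T.IsMinusTwo c) (hd : T.IsMinusTwo d) (hab : 0 < T.a a b)
    (hbc : 0 < T.a b c) (hcd : 0 < T.a c d) (hda : 0 < T.a d a) (hac : a ≠ c) (hbd : b ≠ d) : False := by
  have n1 := ne_of_pos T hab; have n2 := ne_of_pos T hbc; have n3 := ne_of_pos T hcd; have n4 := ne_of_pos T hda
  have hlt := card_lt_of_minusTwo (T := T) hne ![a, b, c, d]
    (fun x y e => by fin_cases x <;> fin_cases y <;> first | rfl | simp_all)
    (fun x => by fin_cases x <;> assumption)
  refine cycle_false (T := T) {a, b, c, d} ⟨a, by simp⟩ (lt_of_le_of_lt card_le_four hlt)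
    (by simp [ha, hb, hc, hd]) ?_
  intro i hi
  refine one_lt_card.2 ?_
  simp only [mem_insert, mem_singleton] at hi
  rcases hi with rfl | rfl | rfl | rfl
  · exact ⟨b, by simp [nbrs, hab], d, by simp [nbrs, a_symm T i d, hda], hbd⟩
  · exact ⟨a, by simp [nbrs, a_symm T i a, hab], c, by simp [nbrs, hbc], hac⟩
  · exact ⟨b, by simp [nbrs, a_symm T i b, hbc], d, by simp [nbrs, hcd], hbd⟩
  · exact ⟨a, by simp [nbrs, hda], c, by simp [nbrs, a_symm T i c, hcd], hac⟩

lemma no_star (hne : ∃ j, ¬ T.IsMinusTwo j) {c a b d e : Fin n} (hc : T.IsMinusTwo c)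
    (ha : T.IsMinusTwo a) (hb : T.IsMinusTwo b) (hd : T.IsMinusTwo d) (he : T.IsMinusTwo e)
    (ca : 0 < T.a c a) (cb : 0 < T.a c b) (cd : 0 < T.a c d) (ce : 0 < T.a c e)
    (ab : a ≠ b) (ad : a ≠ d) (ae : a ≠ e) (bd : b ≠ d) (be : b ≠ e) (de : d ≠ e) : False := by
  have n1 := ne_of_pos T ca; have n2 := ne_of_pos T cb; have n3 := ne_of_pos T cd; have n4 := ne_of_pos T ce
  have hinj : Function.Injective ![c, a, b, d, e] := by
    intro i j h
    fin_cases i <;> fin_cases j <;> first | rfl | simp_all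
  have gv : ∀ i, T.IsMinusTwo (![c, a, b, d, e] i) := by
    intro i; fin_cases i <;> assumption
  refine diagram_false (T := T) ![c, a, b, d, e] hinj inferInstance
    (by simpa using card_lt_of_minusTwo hne _ hinj gv) gv (symE rD4) (symE_self _)
    (str_symE _ _ fun i j hij h => ?_) cD4 cD4_pos cD4_le
  fin_cases i <;> fin_cases j <;> simp [rD4, edgesR] at hij h ⊢ <;>
    first | exact str_one ca | exact str_one cb | exact str_one cd | exact str_one ce

lemma no_F4 (hne : ∃ j, ¬ T.IsMinusTwo j) {a b c d e : Fin n} (ha : T.IsMinusTwo a)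
    (hb : T.IsMinusTwo b) (hc : T.IsMinusTwo c) (hd : T.IsMinusTwo d) (he : T.IsMinusTwo e)
    (hab : 0 < T.a a b) (hbc : 0 < T.a b c) (hcd : Str T 2 c d) (hde : 0 < T.a d e)
    (ac : a ≠ c) (ad : a ≠ d) (ae : a ≠ e) (bd : b ≠ d) (be : b ≠ e) (ce : c ≠ e) : False := by
  have n1 := ne_of_pos T hab; have n2 := ne_of_pos T hbc; have n3 := ne_of_pos T hcd.1; have n4 := ne_of_pos T hde
  have hinj : Function.Injective ![a, b, c, d, e] := by
    intro i j h
    fin_cases i <;> fin_cases j <;> first | rfl | simp_all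
  have gv : ∀ i, T.IsMinusTwo (![a, b, c, d, e] i) := by
    intro i; fin_cases i <;> assumption
  exact F4_false (T := T) (card_lt_of_minusTwo hne _ hinj gv) _ hinj gv hab hbc hcd hde

lemma no_E8 (hne : ∃ j, ¬ T.IsMinusTwo j) (p : ℕ → Fin n) (h1 : ∀ k ≤ 5, T.IsMinusTwo (p k))
    (h2 : ∀ k < 5, 0 < T.a (p k) (p (k + 1))) (hinj : ∀ i j, i ≤ 5 → j ≤ 5 → p i = p j → i = j)
    {s s' r : Fin n} (hs : T.IsMinusTwo s) (hs' : T.IsMinusTwo s') (hr : T.IsMinusTwo r)
    (hps : 0 < T.a (p 0) s) (hss : 0 < T.a s s') (hpr : 0 < T.a (p 0) r)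
    (hrs : s' ≠ r) (hsr : s ≠ r) (hne' : s' ≠ s) (hs0 : s' ≠ p 0)
    (hsk : ∀ k, 1 ≤ k → k ≤ 5 → s ≠ p k) (hk : ∀ k, 1 ≤ k → k ≤ 5 → s' ≠ p k)
    (hrk : ∀ k, 1 ≤ k → k ≤ 5 → r ≠ p k) : False := by
  have hs0' := ne_of_pos T hps
  have hr0' := ne_of_pos T hpr
  have As : ∀ k ≤ 5, s ≠ p k := fun k hk' => by
    rcases Nat.eq_zero_or_pos k with rfl | h
    exacts [hs0'.symm, hsk k h hk']
  have As' : ∀ k ≤ 5, s' ≠ p k := fun k hk' => by
    rcases Nat.eq_zero_or_pos k with rfl | h
    exacts [hs0, hk k h hk']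
  have Ar : ∀ k ≤ 5, r ≠ p k := fun k hk' => by
    rcases Nat.eq_zero_or_pos k with rfl | h
    exacts [hr0'.symm, hrk k h hk']
  let g : Fin 9 → Fin n := fun i =>
    if i.val = 8 then r else if i.val = 7 then s' else if i.val = 6 then s else p (5 - i.val)
  have ginj : Function.Injective g := by
    intro a b e
    simp only [g] at e
    apply Fin.ext
    split_ifs at e with e1 e2 e3 e4 e5 e6 e7 e8 e9 <;>
      first
        | omega
        | exact absurd e hrs
        | exact absurd e.symm hrs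
        | exact absurd e hsr
        | exact absurd e.symm hsr
        | exact absurd e hne'
        | exact absurd e.symm hne'
        | exact absurd e (As _ (by omega))
        | exact absurd e.symm (As _ (by omega))
        | exact absurd e (As' _ (by omega))
        | exact absurd e.symm (As' _ (by omega))
        | exact absurd e (Ar _ (by omega))
        | exact absurd e.symm (Ar _ (by omega))
        | (have h5 := hinj _ _ (by omega) (by omega) e; omega)
  have gv : ∀ i, T.IsMinusTwo (g i) := fun i => by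
    simp only [g]; split_ifs
    exacts [hr, hs', hs, h1 _ (by omega)]
  refine diagram_false g ginj inferInstance (by simpa using card_lt_of_minusTwo hne g ginj gv) gv
    (symE rE8) (symE_self _) (str_symE _ _ fun i j hij h => ?_) cE8 cE8_pos cE8_le
  obtain ⟨hR1, hcase⟩ := rE8_cases hij h
  rw [hR1]
  refine str_one ?_
  simp only [g]
  rcases hcase with ⟨e1, e2⟩ | ⟨e1, e2⟩
  · rw [if_neg (show i.val ≠ 8 by omega), if_neg (show j.val ≠ 8 by omega), if_neg (show i.val ≠ 7 by omega)]
    rcases (show i.val < 5 ∨ i.val = 5 ∨ i.val = 6 by omega) with h' | h' | h'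
    · rw [if_neg (by omega), if_neg (by omega), if_neg (by omega), a_symm T,
        show 5 - i.val = 5 - j.val + 1 by omega]
      exact h2 _ (by omega)
    · rw [if_neg (by omega), if_neg (by omega), if_pos (by omega), h']
      exact hps
    · rw [if_pos h', if_pos (by omega)]
      exact hss
  · rw [if_neg (by omega), if_neg (by omega), if_neg (by omega), if_pos e2, e1]
    exact hpr

/-- At an index of maximal `m w`, far from the other indices, the next index on the way out has
the same value. -/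
lemma max_step (hne : ∃ j, ¬ T.IsMinusTwo j) {L : ℕ} (hL : 7 ≤ L) (p : ℕ → Fin n)
    (h1 : ∀ k ≤ L, T.IsMinusTwo (p k)) (h2 : ∀ k < L, 0 < T.a (p k) (p (k + 1)))
    (hinj : ∀ i j, i ≤ L → j ≤ L → p i = p j → i = j)
    (hin : ∀ y, 0 < T.a (p 0) y → T.IsMinusTwo y)
    (hin2 : ∀ x y, 0 < T.a (p 0) x → 0 < T.a x y → T.IsMinusTwo y)
    (hfar : ∀ x k, 0 < T.a (p 0) x → 2 ≤ k → k ≤ L → x ≠ p k)
    (hfar2 : ∀ x x' k, 0 < T.a (p 0) x → 0 < T.a x x' → 3 ≤ k → k ≤ L → x' ≠ p k)
    (hmax : ∀ j, T.IsMinusTwo j → uOf T j ≤ uOf T (p 0)) :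
    uOf T (p 1) = uOf T (p 0) := by
  classical
  have hv := h1 0 (by omega)
  have hp1 := h1 1 (by omega)
  have h01 := h2 0 (by omega)
  have hm1 := T.m_pos (p 1); have hm0 := T.m_pos (p 0)
  have hw1 := T.w_pos (p 1); have hw0 := T.w_pos (p 0)
  have e1max := hmax _ hp1
  unfold uOf at e1max hmax ⊢
  -- other neighbours
  let N := univ.filter fun x => 0 < T.a (p 0) x ∧ x ≠ p 1
  have hN : ∀ x, x ∈ N ↔ 0 < T.a (p 0) x ∧ x ≠ p 1 := fun x => by simp [N]
  have hleafcase : ∀ x ∈ N, ∀ x', x' ≠ p 0 → T.a x x' ≠ 0 → x' ≠ x →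
      T.IsMinusTwo x' ∧ 0 < T.a x x' ∧ (∀ k, 1 ≤ k → k ≤ L → x' ≠ p k) := by
    intro x hx x' hx0 hne' hxx
    obtain ⟨hx1, hx2⟩ := (hN x).1 hx
    have hpos := pos_of_ne T hxx.symm hne'
    refine ⟨hin2 x x' hx1 hpos, hpos, fun k hk hkL e => ?_⟩
    rcases (show k = 1 ∨ k = 2 ∨ 3 ≤ k by omega) with rfl | rfl | h
    · exact no_triangle hne hv (hin x hx1) hp1 hx1 (e ▸ hpos) (by rw [a_symm T]; exact h01)
    · exact no_square hne hv (hin x hx1) (h1 2 (by omega)) hp1 hx1 (e ▸ hpos)
        (by rw [a_symm T]; exact h2 1 (by omega)) (by rw [a_symm T]; exact h01)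
        (fun e' => by have := hinj 0 2 (by omega) (by omega) e'; omega) hx2
    · exact hfar2 x x' k hx1 hpos h hkL e
  -- the edge to `p 1` is simple as soon as there is another neighbour
  have hs01 : ∀ x ∈ N, Simple T (p 0) (p 1) := by
    intro x hx
    obtain ⟨hx1, hx2⟩ := (hN x).1 hx
    have hxk : ∀ k ≤ L, x ≠ p k := fun k hk => by
      rcases (show k = 0 ∨ k = 1 ∨ 2 ≤ k by omega) with rfl | rfl | h
      · exact (ne_of_pos T hx1).symm
      · exact hx2
      · exact hfar x k hx1 h hk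
    let g : Fin 6 → Fin n := fun i => if i.val = 0 then x else p (i.val - 1)
    have ginj : Function.Injective g := by
      intro a b e
      simp only [g] at e
      split_ifs at e with ea eb eb
      · exact Fin.ext (by omega)
      · exact absurd e (hxk _ (by omega))
      · exact absurd e.symm (hxk _ (by omega))
      · have := hinj _ _ (by omega) (by omega) e
        exact Fin.ext (by omega)
    have gv : ∀ i, T.IsMinusTwo (g i) := fun i => by
      simp only [g]; split_ifs
      · exact hin x hx1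
      · exact h1 _ (by omega)
    have := chain_internal (T := T) 6 (by omega) (card_lt_of_minusTwo hne g ginj gv) g ginj gv
      (fun i j hij => by
        simp only [g]; split_ifs with ea eb eb
        · omega
        · rw [show j.val - 1 = 0 by omega, a_symm T]; exact hx1
        · omega
        · rw [show j.val - 1 = i.val - 1 + 1 by omega]; exact h2 _ (by omega))
      1 2 rfl le_rfl (by decide)
    simpa [g] using this
  -- the equation at `p 0`
  have hrow : ∑ j ∈ insert (p 1) N, T.a (p 0) j * T.m j = 2 * T.w (p 0) * T.m (p 0) := by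
    refine row_eq_two hv _ ?_ fun j hj hjS => ?_
    · simp [hN, ne_of_pos T h01, (diag_nonpos T (p 0)).not_gt]
    · by_contra hne'
      simp only [mem_insert, hN, not_or, not_and, not_not] at hjS
      exact hjS.1 (hjS.2 (pos_of_ne T hj.symm hne'))
  rw [sum_insert (by simp [hN])] at hrow
  have h3 : N.card ≤ 2 := by
    by_contra hc
    obtain ⟨x, hx, y, hy, z, hz, hxy, hxz, hyz⟩ := two_lt_card.1 (not_le.1 hc)
    obtain ⟨hx1, hx2⟩ := (hN x).1 hx; obtain ⟨hy1, hy2⟩ := (hN y).1 hy; obtain ⟨hz1, hz2⟩ := (hN z).1 hz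
    exact no_star hne hv (hin x hx1) (hin y hy1) (hin z hz1) hp1 hx1 hy1 hz1 h01 hxy hxz hx2 hyz hy2 hz2
  rcases (show N.card = 0 ∨ N.card = 1 ∨ N.card = 2 by omega) with hc | hc | hc
  · rw [card_eq_zero.1 hc, sum_empty, add_zero] at hrow
    have n02 : p 0 ≠ p 2 := fun e => by have := hinj 0 2 (by omega) (by omega) e; omega
    rcases simple_or_double (card_lt_of_minusTwo hne (fun i : Fin 3 => p i.val)
        (fun a b e => Fin.ext (hinj _ _ (by omega) (by omega) e)) (fun i => h1 _ (by omega)))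
        h01 (h2 1 (by omega)) n02 hv hp1 (h1 2 (by omega)) with ⟨A, W⟩ | ⟨A, W⟩ | ⟨A, W⟩ <;>
      rw [A] at hrow
    · rw [W] at e1max ⊢; nlinarith
    · rw [W] at e1max ⊢; nlinarith
    · rw [W] at e1max hrow ⊢; nlinarith
  · obtain ⟨x, hx⟩ := card_eq_one.1 hc
    have hxN : x ∈ N := by simp [hx]
    obtain ⟨hx1, hx2⟩ := (hN x).1 hxN
    rw [hx, sum_singleton] at hrow
    obtain ⟨A1, W1⟩ := hs01 x hxN
    rw [A1] at hrow
    have hxm := hmax x (hin x hx1)
    have n02 : p 0 ≠ p 2 := fun e => by have := hinj 0 2 (by omega) (by omega) e; omega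
    have hn4 : 3 < n := card_lt_of_minusTwo hne (fun i : Fin 3 => p i.val)
      (fun a b e => Fin.ext (hinj _ _ (by omega) (by omega) e)) (fun i => h1 _ (by omega))
    rcases simple_or_double hn4 (a_symm T (p 0) x ▸ hx1) h01 hx2 (hin x hx1) hv hp1 with ⟨A, W⟩ | hd
    · rw [a_symm T (p 0) x, A] at hrow
      rw [W] at hxm hrow e1max ⊢
      rw [W1, W] at e1max ⊢
      have := T.w_pos x
      nlinarith
    · -- a double edge: `x` is a leaf
      have hleaf : ∀ x', x' ≠ p 0 → x' ≠ x → T.a x x' = 0 := by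
        intro x' hx0 hxx
        by_contra hne'
        obtain ⟨hv', hpos, hk⟩ := hleafcase x hxN x' hx0 hne' hxx
        have hns : ¬ Simple T (p 0) x := fun hs => by
          rcases hd with ⟨h3', h4'⟩ | ⟨h3', h4'⟩ <;> obtain ⟨h5', h6'⟩ := hs <;>
            (have := T.w_pos x; have := a_symm T x (p 0); omega)
        exact no_F4 hne (h1 2 (by omega)) hp1 hv (hin x hx1) hv'
          (by rw [a_symm T]; exact h2 1 (by omega)) (by rw [a_symm T]; exact h01)
          (str_two_of_not_simple hx1 hns) hpos n02.symm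
          (hfar x 2 hx1 le_rfl (by omega)).symm (hk 2 (by omega) (by omega)).symm hx2.symm
          (hk 1 le_rfl (by omega)).symm hx0.symm
      have hrowx := row_eq_two (hin x hx1) {p 0} (by simpa using (ne_of_pos T hx1).symm)
        (fun j hj hjS => hleaf j (by simpa using hjS) hj)
      rw [sum_singleton] at hrowx
      have := T.w_pos x
      rw [W1]
      rcases hd with ⟨A, W⟩ | ⟨A, W⟩
      · rw [a_symm T (p 0) x, A] at hrow
        rw [A] at hrowx
        rw [W] at hrow ⊢
        have q1 : T.m (p 0) = T.m x := by nlinarith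
        nlinarith
      · rw [a_symm T (p 0) x, A, W] at hrow
        rw [A] at hrowx
        rw [W] at hrowx
        have q1 : T.m (p 0) = 2 * T.m x := by nlinarith
        nlinarith
  · obtain ⟨x, y, hxy, hxyN⟩ := card_eq_two.1 hc
    have hxN : x ∈ N := by simp [hxyN]
    have hyN : y ∈ N := by simp [hxyN]
    obtain ⟨hx1, hx2⟩ := (hN x).1 hxN; obtain ⟨hy1, hy2⟩ := (hN y).1 hyN
    rw [hxyN, sum_pair hxy] at hrow
    obtain ⟨A1, W1⟩ := hs01 x hxN
    have hn4 : 4 < n := card_lt_of_minusTwo hne (fun i : Fin 4 => p i.val)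
      (fun a b e => Fin.ext (hinj _ _ (by omega) (by omega) e)) (fun i => h1 _ (by omega))
    have hleaf : ∀ s ∈ N, ∀ r ∈ N, s ≠ r → ∀ s', s' ≠ p 0 → s' ≠ s → T.a s s' = 0 := by
      intro s hs r hr hsr s' hs0 hss
      by_contra hne'
      obtain ⟨hv', hpos, hk⟩ := hleafcase s hs s' hs0 hne' hss
      obtain ⟨hs1, hs2⟩ := (hN s).1 hs; obtain ⟨hr1, hr2⟩ := (hN r).1 hr
      have hrs : s' ≠ r := fun e => no_triangle hne hv (hin s hs1) (hin r hr1) hs1 (e ▸ hpos) (by rw [a_symm T]; exact hr1)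
      have hsk : ∀ k, 1 ≤ k → k ≤ L → s ≠ p k := fun k hk1 hk2 => by
        rcases eq_or_lt_of_le hk1 with rfl | h
        · exact hs2
        · exact hfar s k hs1 (by omega) hk2
      have hrk : ∀ k, 1 ≤ k → k ≤ L → r ≠ p k := fun k hk1 hk2 => by
        rcases eq_or_lt_of_le hk1 with rfl | h
        · exact hr2
        · exact hfar r k hr1 (by omega) hk2
      exact no_E8 hne p (fun k hk => h1 k (by omega)) (fun k hk => h2 k (by omega))
        (fun i j hi hj => hinj i j (by omega) (by omega)) (hin s hs1) hv' (hin r hr1) hs1 hpos hr1 hrs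
        hsr hss hs0 (fun k h5 h6 => hsk k h5 (by omega)) (fun k h5 h6 => hk k h5 (by omega))
        (fun k h5 h6 => hrk k h5 (by omega))
    have rx := row_eq_two (hin x hx1) {p 0} (by simpa using (ne_of_pos T hx1).symm)
      (fun j hj hjS => hleaf x hxN y hyN hxy j (by simpa using hjS) hj)
    have ry := row_eq_two (hin y hy1) {p 0} (by simpa using (ne_of_pos T hy1).symm)
      (fun j hj hjS => hleaf y hyN x hxN hxy.symm j (by simpa using hjS) hj)
    obtain ⟨Ax, Wx⟩ := branch_simple hn4 h01 hy1 hx1 hy2.symm hx2.symm hxy.symm hv hp1 (hin y hy1) (hin x hx1)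
    obtain ⟨Ay, Wy⟩ := branch_simple hn4 h01 hx1 hy1 hx2.symm hy2.symm hxy hv hp1 (hin x hx1) (hin y hy1)
    rw [sum_singleton, a_symm T x, Ax, Wx] at rx
    rw [sum_singleton, a_symm T y, Ay, Wy] at ry
    rw [Ax, Ay, A1] at hrow
    rw [W1]
    nlinarith

theorem minusTwo_bound (hmin : T.IsMinimal) (hn : 1 < n) (hg : 2 ≤ T.genus) (v : Fin n)
    (hv : T.IsMinusTwo v) : uOf T v ≤ 384 * T.genus := by
  classical
  have hne : ∃ j, ¬ T.IsMinusTwo j := by
    by_contra hh
    push Not at hh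
    have h := two_mul_genus_sub_two T
    rw [sum_eq_zero fun i _ => by unfold contr; rw [(hh i).1, (hh i).2]; ring] at h
    omega
  obtain ⟨w, hw, hmax⟩ := (univ.filter fun i => T.IsMinusTwo i).exists_max_image (uOf T) ⟨v, by simp [hv]⟩
  simp only [mem_filter, mem_univ, true_and] at hw hmax
  suffices key : ∀ L, ∀ x, uOf T x = uOf T w → Reach T L x → uOf T w ≤ 384 * T.genus by
    obtain ⟨L, hL⟩ := exists_reach hne hw
    exact (hmax v hv).trans (key L w rfl hL)
  intro L
  induction L using Nat.strong_induction_on with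
  | _ L ih =>
    intro x hx hR
    by_cases hex : ∃ L', L' < L ∧ Reach T L' x
    · obtain ⟨L', h1, h2⟩ := hex
      exact ih L' h1 x hx h2
    push Not at hex
    rcases Nat.lt_or_ge L 7 with hL | hL
    · have h := uOf_reach hmin hn hg hR
      rw [hx] at h
      have : (2 : ℤ) ^ L ≤ 2 ^ 6 := pow_le_pow_right₀ (by norm_num) (by omega)
      nlinarith
    obtain ⟨p, rfl, h1, h2, hlast⟩ := hR
    have hsuf : ∀ k ≤ L, Reach T (L - k) (p k) := fun k hk =>
      ⟨fun i => p (k + i), rfl, fun i hi => h1 _ (by omega), fun i hi => h2 _ (by omega),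
        by simpa [show k + (L - k) = L by omega] using hlast⟩
    have hpre : ∀ k ≤ L, ∀ L', Reach T L' (p k) → Reach T (L' + k) (p 0) := by
      intro k
      induction k with
      | zero => intro _ L' h; exact h
      | succ k ihk =>
        intro hk L' h
        have := ihk (by omega) _ (h.step (h1 k (by omega)) (h2 k (by omega)))
        rwa [show L' + (k + 1) = L' + 1 + k by omega]
    have hinj : ∀ i j, i ≤ L → j ≤ L → p i = p j → i = j := by
      intro i j hi hj e
      by_contra hne'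
      rcases lt_or_gt_of_ne hne' with h | h
      · exact hex (L - j + i) (by omega) (hpre i hi _ (e ▸ hsuf j hj))
      · exact hex (L - i + j) (by omega) (hpre j hj _ (e.symm ▸ hsuf i hi))
    have hin : ∀ y, 0 < T.a (p 0) y → T.IsMinusTwo y := fun y hy => by
      by_contra hy'
      exact hex 0 (by omega) ⟨fun _ => p 0, rfl, fun _ _ => h1 0 (by omega), fun k hk => absurd hk (by omega), y, hy', hy⟩
    have step := max_step hne hL p h1 h2 hinj hin
      (fun a y ha hy => by
        by_contra hy'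
        refine hex 1 (by omega) (Reach.step ?_ (h1 0 (by omega)) ha)
        exact ⟨fun _ => a, rfl, fun _ _ => hin a ha, fun k hk => absurd hk (by omega), y, hy', hy⟩)
      (fun a k ha hk2 hkL e =>
        hex (L - k + 1) (by omega) (Reach.step (e ▸ hsuf k hkL) (h1 0 (by omega)) ha))
      (fun a b k ha hab hk3 hkL e =>
        hex (L - k + 1 + 1) (by omega)
          (Reach.step (Reach.step (e ▸ hsuf k hkL) (hin a ha) hab) (h1 0 (by omega)) ha))
      (fun j hj => hx ▸ hmax j hj)
    exact ih (L - 1) (by omega) (p 1) (step.trans hx) (hsuf 1 (by omega))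

theorem mul_abs_le (hmin : T.IsMinimal) (hg : 2 ≤ T.genus) (i j : Fin n) :
    T.m i * |T.a i j| ≤ 768 * T.genus := by
  rcases Nat.lt_or_ge 1 n with hn | hn
  · have hdiag : ∀ k, T.m k * |T.a k k| ≤ 768 * T.genus := fun k => by
      by_cases hk : T.IsMinusTwo k
      · have h := minusTwo_bound hmin hn hg k hk
        unfold uOf at h
        rw [hk.2, abs_of_nonpos (by linarith [T.w_pos k])]
        linarith
      · linarith [(bounds_non_minusTwo T hmin hn hg hk).2.1]
    rcases eq_or_ne i j with rfl | hij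
    · exact hdiag i
    · rcases eq_or_lt_of_le (T.offDiag_nonneg i j hij) with h | h
      · rw [← h]; simp; omega
      · rw [abs_of_pos h]; exact (mul_le_of_pos T h).1.trans (hdiag j)
  · have hn1 : n = 1 := by have := T.pos; omega
    subst hn1
    rw [Subsingleton.elim i 0, Subsingleton.elim j 0]
    have h0 : T.a 0 0 = 0 := by
      have h := row_sum T 0
      simp at h
      exact h.resolve_right (T.m_pos 0).ne'
    rw [h0]; simp; omega

end Groth.Agent.NumType
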