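import Groth.Agent.Lib.NumType.Sub

/-! Chains and forks of `(-2)`-indices. -/

namespace Groth.Agent.NumType

open Finset Models

variable {n : ℕ} {T : NumericalType n}

/-- In a fork (a chain with one branch at the second last vertex) all edges are simple. -/
lemma fork_simple (t : ℕ) (ht : 3 ≤ t) (hn : t + 1 < n) (v : Fin (t + 1) → Fin n)
    (hinj : Function.Injective v) (hv : ∀ i, T.IsMinusTwo (v i))
    (hchain : ∀ i j : Fin (t + 1), j.val = i.val + 1 → j.val < t → 0 < T.a (v i) (v j))
    (hbr : ∀ i j : Fin (t + 1), i.val + 2 = t → j.val = t → 0 < T.a (v i) (v j)) :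
    (∀ i j : Fin (t + 1), j.val = i.val + 1 → j.val < t → Simple T (v i) (v j)) ∧
    (∀ i j : Fin (t + 1), i.val + 2 = t → j.val = t → Simple T (v i) (v j)) := by
  have hne : ∀ a b : Fin (t + 1), a.val ≠ b.val → v a ≠ v b := fun a b h e => h (congrArg Fin.val (hinj e))
  refine ⟨fun i j hij hj => ?_, fun i j hi hj => ?_⟩
  · rcases Nat.lt_or_ge (j.val + 1) t with h | h
    · by_contra hs
      let g : Fin (t - i.val + 1) → Fin (t + 1) := fun k =>
        if k.val = 0 then ⟨t, by omega⟩ else if k.val = 1 then ⟨t - 1, by omega⟩ else ⟨t - k.val, by omega⟩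
      have gv : ∀ k, (g k).val = t - k.val := fun k => by
        simp only [g]; split_ifs with h1 h2 <;> simp [*]
      refine B_false (T := T) (t - i.val) (by omega) (by omega) (v ∘ g) ?_ (fun k => hv _) ?_ ?_ ?_
      · refine hinj.comp fun a b e => Fin.ext ?_
        have := congrArg Fin.val e
        rw [gv, gv] at this
        omega
      · intro a b ha hb _
        rw [Function.comp, Function.comp, a_symm T]
        exact hbr (g b) (g a) (by rw [gv]; omega) (by rw [gv]; omega)
      · intro a b ha hb hb'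
        rw [Function.comp, Function.comp, a_symm T]
        exact hchain (g b) (g a) (by rw [gv, gv]; omega) (by rw [gv]; omega)
      · intro a b ha hb
        have ea : g a = j := Fin.ext (by rw [gv]; omega)
        have eb : g b = i := Fin.ext (by rw [gv]; omega)
        rw [Function.comp, Function.comp, ea, eb]
        exact (str_two_of_not_simple (hchain i j hij hj) hs).symm
    · exact branch_simple (T := T) (x := v ⟨t - 3, by omega⟩) (y := v ⟨t, by omega⟩) (by omega)
        (by rw [a_symm T]; exact hchain _ i (by simp; omega) (by omega))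
        (hbr i _ (by omega) (by simp)) (hchain i j hij hj) (hne _ _ (by simp; omega))
        (hne _ _ (by simp; omega)) (hne _ _ (by simp; omega)) (hv _) (hv _) (hv _) (hv _)
  · exact branch_simple (T := T) (x := v ⟨t - 3, by omega⟩) (y := v ⟨t - 1, by omega⟩) (by omega)
      (by rw [a_symm T]; exact hchain _ i (by simp; omega) (by omega))
      (hchain i _ (by simp; omega) (by simp; omega)) (hbr i j hi hj) (hne _ _ (by simp; omega))
      (hne _ _ (by simp; omega)) (hne _ _ (by simp; omega)) (hv _) (hv _) (hv _) (hv _)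

lemma no_double_middle (hn : 5 < n) (v : Fin 5 → Fin n) (hinj : Function.Injective v)
    (hv : ∀ i, T.IsMinusTwo (v i)) (h01 : 0 < T.a (v 0) (v 1)) (h12 : 0 < T.a (v 1) (v 2))
    (h23 : 0 < T.a (v 2) (v 3)) (h34 : 0 < T.a (v 3) (v 4)) : Simple T (v 2) (v 3) := by
  by_contra hs
  exact F4_false hn v hinj hv h01 h12 (str_two_of_not_simple h23 hs) h34

/-- In a chain of at least five indices the internal edges are simple. -/
lemma chain_internal (t : ℕ) (ht : 5 ≤ t) (hn : t < n) (v : Fin t → Fin n)
    (hinj : Function.Injective v) (hv : ∀ i, T.IsMinusTwo (v i))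
    (hchain : ∀ i j : Fin t, j.val = i.val + 1 → 0 < T.a (v i) (v j)) (i j : Fin t)
    (hij : j.val = i.val + 1) (hi : 1 ≤ i.val) (hj : j.val + 1 < t) : Simple T (v i) (v j) := by
  by_cases h : 2 ≤ i.val
  · let g : Fin 5 → Fin t := fun k => ⟨i.val - 2 + k.val, by omega⟩
    have hg : ∀ k, (g k).val = i.val - 2 + k.val := fun k => rfl
    have := no_double_middle (T := T) (by omega) (v ∘ g)
      (hinj.comp fun a b e => Fin.ext (by have := congrArg Fin.val e; rw [hg, hg] at this; omega))
      (fun k => hv _) (hchain _ _ (by simp [g] <;> omega)) (hchain _ _ (by simp [g] <;> omega))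
      (hchain _ _ (by simp [g] <;> omega)) (hchain _ _ (by simp [g] <;> omega))
    have e2 : g 2 = i := Fin.ext (by simp [g] <;> omega)
    have e3 : g 3 = j := Fin.ext (by simp [g]; omega)
    simpa [e2, e3] using this
  · let g : Fin 5 → Fin t := fun k => ⟨4 - k.val, by omega⟩
    have hg : ∀ k, (g k).val = 4 - k.val := fun k => rfl
    have := no_double_middle (T := T) (by omega) (v ∘ g)
      (hinj.comp fun a b e => Fin.ext (by have := congrArg Fin.val e; rw [hg, hg] at this; omega))
      (fun k => hv _) (by rw [a_symm T]; exact hchain _ _ (by simp [g]))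
      (by rw [a_symm T]; exact hchain _ _ (by simp [g]))
      (by rw [a_symm T]; exact hchain _ _ (by simp [g]))
      (by rw [a_symm T]; exact hchain _ _ (by simp [g]))
    have e2 : g 2 = j := Fin.ext (by simp [g]; omega)
    have e3 : g 3 = i := Fin.ext (by simp [g]; omega)
    refine Simple.symm ?_
    simpa [e2, e3] using this

/-- The two end edges of a chain are not both multiple. -/
lemma chain_ends (t : ℕ) (ht : 3 ≤ t) (hn : t < n) (v : Fin t → Fin n) (hinj : Function.Injective v)
    (hv : ∀ i, T.IsMinusTwo (v i))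
    (hchain : ∀ i j : Fin t, j.val = i.val + 1 → 0 < T.a (v i) (v j)) :
    (∀ i j : Fin t, i.val = 0 → j.val = 1 → Simple T (v i) (v j)) ∨
      (∀ i j : Fin t, i.val + 2 = t → j.val + 1 = t → Simple T (v i) (v j)) := by
  obtain ⟨s, rfl⟩ : ∃ s, t = s + 1 := ⟨t - 1, by omega⟩
  by_contra h
  push Not at h
  obtain ⟨⟨i, j, hi, hj, h1⟩, i', j', hi', hj', h2⟩ := h
  refine C_false (T := T) s (by omega) (by omega) v hinj hv hchain ?_ ?_
  · intro a b ha hb
    obtain rfl : a = i := Fin.ext (by omega)
    obtain rfl : b = j := Fin.ext (by omega)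
    exact str_two_of_not_simple (hchain a b (by omega)) h1
  · intro a b ha hb
    obtain rfl : a = i' := Fin.ext (by omega)
    obtain rfl : b = j' := Fin.ext (by omega)
    exact str_two_of_not_simple (hchain a b (by omega)) h2

lemma chain_end_edge (t : ℕ) (ht : 3 ≤ t) (hn : t < n) (v : Fin t → Fin n) (hinj : Function.Injective v)
    (hv : ∀ i, T.IsMinusTwo (v i))
    (hchain : ∀ i j : Fin t, j.val = i.val + 1 → 0 < T.a (v i) (v j)) (i j : Fin t)
    (hi : i.val + 2 = t) (hj : j.val + 1 = t) : Simple T (v i) (v j) ∨ Double (v i) (v j) T := by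
  have hij : 0 < T.a (v i) (v j) := hchain i j (by omega)
  rcases edge_cases (by omega) hij (hv i) (hv j) with h | h | h
  · exact Or.inl h
  · exact Or.inr h
  · exact (G2_false (T := T) (by omega) (x := v ⟨i.val - 1, by omega⟩) (hchain _ i (by simp; omega)) h.str
      (fun e => absurd (congrArg Fin.val (hinj e)) (by simp; omega)) (hv _) (hv _) (hv _)).elim

/-- The three shapes of a chain whose edges other than the last are simple. -/
lemma chain_shape (t : ℕ) (ht : 2 ≤ t) (u : Fin t → Fin n)
    (hint : ∀ i j : Fin t, j.val = i.val + 1 → j.val + 1 < t → Simple T (u i) (u j))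
    (hlast : ∀ i j : Fin t, i.val + 2 = t → j.val + 1 = t → Simple T (u i) (u j) ∨ Double (u i) (u j) T) :
    ∃ w : ℤ,
      ((∀ j : Fin t, T.w (u j) = w) ∧ (∀ j j' : Fin t, j'.val = j.val + 1 → T.a (u j) (u j') = w)) ∨
        ((∀ j : Fin t, j.val + 1 < t → T.w (u j) = w) ∧ (∀ j : Fin t, j.val + 1 = t → T.w (u j) = 2 * w) ∧
          (∀ j j' : Fin t, j'.val = j.val + 1 → j'.val + 1 < t → T.a (u j) (u j') = w) ∧
          (∀ j j' : Fin t, j'.val = j.val + 1 → j'.val + 1 = t → T.a (u j) (u j') = 2 * w)) ∨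
        ((∀ j : Fin t, j.val + 1 < t → T.w (u j) = 2 * w) ∧ (∀ j : Fin t, j.val + 1 = t → T.w (u j) = w) ∧
          (∀ j j' : Fin t, j'.val = j.val + 1 → T.a (u j) (u j') = 2 * w)) := by
  let z : Fin t := ⟨0, by omega⟩
  let p : Fin t := ⟨t - 2, by omega⟩
  let q : Fin t := ⟨t - 1, by omega⟩
  have hw : ∀ j : Fin t, j.val + 1 < t → T.w (u j) = T.w (u z) := by
    intro j
    obtain ⟨j, hj⟩ := j
    induction j with
    | zero => intro _; rfl
    | succ k ih =>
      intro hk
      rw [(hint ⟨k, by omega⟩ ⟨k + 1, hj⟩ rfl hk).2]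
      exact ih (by omega) (by simp at hk ⊢; omega)
  have ha : ∀ j j' : Fin t, j'.val = j.val + 1 → j'.val + 1 < t → T.a (u j) (u j') = T.w (u z) :=
    fun j j' h h' => by rw [(hint j j' h h').1, hw j (by omega)]
  have hwp : T.w (u p) = T.w (u z) := hw p (by simp [p]; omega)
  have eq' : ∀ j : Fin t, j.val + 1 = t → j = q := fun j h => Fin.ext (by simp [q]; omega)
  have ep : ∀ j j' : Fin t, j'.val = j.val + 1 → j'.val + 1 = t → j = p := fun j j' h h' =>
    Fin.ext (by simp [p]; omega)
  have l := hlast p q (by simp [p]; omega) (by simp [q]; omega)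
  rcases l with ⟨h1, h2⟩ | ⟨h1, h2⟩ | ⟨h1, h2⟩
  · refine ⟨T.w (u z), Or.inl ⟨fun j => ?_, fun j j' h => ?_⟩⟩
    · rcases Nat.lt_or_ge (j.val + 1) t with hj | hj
      · exact hw j hj
      · rw [eq' j (by omega), h2, hwp]
    · rcases Nat.lt_or_ge (j'.val + 1) t with hj | hj
      · exact ha j j' h hj
      · rw [eq' j' (by omega), ep j j' h (by omega), h1, hwp]
  · refine ⟨T.w (u z), Or.inr (Or.inl ⟨hw, fun j hj => ?_, ha, fun j j' h h' => ?_⟩)⟩
    · rw [eq' j hj, h2, hwp]
    · rw [eq' j' h', ep j j' h h', h1, hwp]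
  · refine ⟨T.w (u q), Or.inr (Or.inr ⟨fun j hj => ?_, fun j hj => ?_, fun j j' h => ?_⟩)⟩
    · rw [hw j hj, ← hwp, h2]
    · rw [eq' j hj]
    · rcases Nat.lt_or_ge (j'.val + 1) t with hj | hj
      · rw [ha j j' h hj, ← hwp, h2]
      · rw [eq' j' (by omega), ep j j' h (by omega), h1, h2]

/-- Orient a chain of length at least five so that only its last edge may be double. -/
lemma chain_oriented (t : ℕ) (ht : 5 ≤ t) (hn : t < n) (v : Fin t → Fin n)
    (hinj : Function.Injective v) (hv : ∀ i, T.IsMinusTwo (v i))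
    (hchain : ∀ i j : Fin t, j.val = i.val + 1 → 0 < T.a (v i) (v j)) :
    ∃ u : Fin t → Fin n, ((∀ j, u j = v j) ∨ (∀ j, u j = v (Fin.rev j))) ∧
      Function.Injective u ∧ (∀ i, T.IsMinusTwo (u i)) ∧
      (∀ i j : Fin t, j.val = i.val + 1 → 0 < T.a (u i) (u j)) ∧
      (∀ i j : Fin t, j.val = i.val + 1 → j.val + 1 < t → Simple T (u i) (u j)) ∧
      (∀ i j : Fin t, i.val + 2 = t → j.val + 1 = t → Simple T (u i) (u j) ∨ Double (u i) (u j) T) := by
  rcases chain_ends t (by omega) hn v hinj hv hchain with h | h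
  · refine ⟨v, Or.inl fun _ => rfl, hinj, hv, hchain, fun i j hij hj => ?_,
      chain_end_edge t (by omega) hn v hinj hv hchain⟩
    by_cases hi : i.val = 0
    · exact h i j hi (by omega)
    · exact chain_internal t ht hn v hinj hv hchain i j hij (by omega) hj
  · have hinj' : Function.Injective (v ∘ Fin.rev) := hinj.comp Fin.rev_injective
    have hch' : ∀ i j : Fin t, j.val = i.val + 1 → 0 < T.a (v (Fin.rev i)) (v (Fin.rev j)) := fun i j hij => by
      rw [a_symm T]; exact hchain _ _ (by simp [Fin.val_rev]; omega)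
    refine ⟨v ∘ Fin.rev, Or.inr fun _ => rfl, hinj', fun i => hv _, hch', fun i j hij hj => ?_,
      chain_end_edge t (by omega) hn _ hinj' (fun i => hv _) hch'⟩
    refine Simple.symm ?_
    by_cases hi : i.val = 0
    · exact h _ _ (by simp [Fin.val_rev]; omega) (by simp [Fin.val_rev]; omega)
    · exact chain_internal t ht hn v hinj hv hchain _ _ (by simp [Fin.val_rev]; omega)
        (by simp [Fin.val_rev]; omega) (by simp [Fin.val_rev]; omega)

end Groth.Agent.NumType
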