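import Groth.Agent.Lib.NumType.Exists

/-! The classification of minimal numerical types of genus one. -/

namespace Groth.Agent.NumType

open Finset Models

variable {n : ℕ} {T : NumericalType n}

lemma isMinusTwo_of_genus_one (hmin : T.IsMinimal) (hg : T.genus = 1) (hn : 1 < n) (i : Fin n) :
    T.IsMinusTwo i := by
  have h := two_mul_genus_sub_two T
  rw [hg] at h
  exact isMinusTwo_of_contr_zero T hn ((sum_eq_zero_iff_of_nonneg
    fun i _ => contr_nonneg T hmin hn i).1 (by omega) i (mem_univ i))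

lemma edge_zero {i j : Fin n} (h : T.a i j ^ 2 = ((0 : ℕ) : ℤ) * (T.w i * T.w j)) : T.a i j = 0 := by
  simpa using h

lemma mul_of_sq {i j : Fin n} (e : ℕ) (he : 0 < e) (hij : i ≠ j)
    (h : T.a i j ^ 2 = (e : ℤ) * (T.w i * T.w j)) :
    ∃ k l : ℤ, 0 < k ∧ 0 < l ∧ T.a i j = k * T.w i ∧ T.a i j = l * T.w j ∧ k * l = e := by
  have hpos : 0 < T.a i j := pos_of_ne T hij (fun h0 => by
    rw [h0] at h
    have := mul_pos (show (0 : ℤ) < e by exact_mod_cast he) (mul_pos (T.w_pos i) (T.w_pos j))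
    rw [← h] at this
    simp at this)
  obtain ⟨k, l, hk, hl, e1, e2⟩ := exists_mul T i j hpos
  refine ⟨k, l, hk, hl, e1, e2, ?_⟩
  have hsq : T.a i j ^ 2 = (k * l) * (T.w i * T.w j) := by
    rw [pow_two]; nth_rewrite 2 [e2]; rw [e1]; ring
  exact mul_right_cancel₀ (mul_pos (T.w_pos i) (T.w_pos j)).ne' (hsq.symm.trans h)

lemma edge_one {i j : Fin n} (hij : i ≠ j) (h : T.a i j ^ 2 = ((1 : ℕ) : ℤ) * (T.w i * T.w j)) :
    Simple T i j := by
  obtain ⟨k, l, hk, hl, e1, e2, e3⟩ := mul_of_sq 1 one_pos hij h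
  push_cast at e3
  have k1 : k = 1 := Int.eq_one_of_mul_eq_one_right hk.le e3
  have l1 : l = 1 := Int.eq_one_of_mul_eq_one_left hl.le e3
  subst k1; subst l1
  unfold Simple
  omega

lemma edge_two {i j : Fin n} (hij : i ≠ j) (h : T.a i j ^ 2 = ((2 : ℕ) : ℤ) * (T.w i * T.w j)) :
    Double i j T := by
  obtain ⟨k, l, hk, hl, e1, e2, e3⟩ := mul_of_sq 2 two_pos hij h
  have hk3 : k ≤ 2 := by push_cast at e3; nlinarith
  have hl3 : l ≤ 2 := by push_cast at e3; nlinarith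
  unfold Double
  interval_cases k <;> interval_cases l <;> omega

lemma edge_three {i j : Fin n} (hij : i ≠ j) (h : T.a i j ^ 2 = ((3 : ℕ) : ℤ) * (T.w i * T.w j)) :
    Triple i j T := by
  obtain ⟨k, l, hk, hl, e1, e2, e3⟩ := mul_of_sq 3 (by norm_num) hij h
  have hk3 : k ≤ 3 := by push_cast at e3; nlinarith
  have hl3 : l ≤ 3 := by push_cast at e3; nlinarith
  unfold Triple
  interval_cases k <;> interval_cases l <;> omega

/-- Positive `x, y` with `x² u = c² (y² u)` satisfy `x = c y`. -/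
lemma eq_mul_of_sq {x y u c : ℤ} (hx : 0 < x) (hy : 0 < y) (hu : 0 < u) (hc : 0 < c)
    (h : x ^ 2 * u = c ^ 2 * (y ^ 2 * u)) : x = c * y := by
  have h2 : x ^ 2 = (c * y) ^ 2 := mul_right_cancel₀ hu.ne' (by rw [h]; ring)
  exact (pow_left_inj₀ hx.le (mul_pos hc hy).le two_ne_zero).1 h2

variable (T) in
/-- Family 1 of the genus one classification. -/
def FamA (σ : Equiv.Perm (Fin n)) (m w : ℤ) : Prop :=
  ((∀ i : Fin n, T.m (σ i) = m) ∧
        (∀ i : Fin n, T.w (σ i) = w) ∧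
        (∀ i j : Fin n, i.val < j.val → j.val = i.val + 1 → T.a (σ i) (σ j) = w) ∧
        (∀ i j : Fin n, i.val < j.val → i.val = 0 ∧ j.val + 1 = n → T.a (σ i) (σ j) = w) ∧
        (∀ i j : Fin n, i.val < j.val → ¬ (j.val = i.val + 1) → ¬ (i.val = 0 ∧ j.val + 1 = n) → T.a (σ i) (σ j) = 0))

variable (T) in
/-- Family 2 of the genus one classification. -/
def FamUp (σ : Equiv.Perm (Fin n)) (m w : ℤ) : Prop :=
  ((∀ i : Fin n, i.val + 1 < n → T.m (σ i) = 2 * m) ∧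
        (∀ i : Fin n, i.val + 1 = n → T.m (σ i) = m) ∧
        (∀ i : Fin n, i.val = 0 → T.w (σ i) = w) ∧
        (∀ i : Fin n, 0 < i.val ∧ i.val + 1 < n → T.w (σ i) = 2 * w) ∧
        (∀ i : Fin n, i.val + 1 = n → T.w (σ i) = 4 * w) ∧
        (∀ i j : Fin n, i.val < j.val → j.val = i.val + 1 ∧ j.val + 1 < n → T.a (σ i) (σ j) = 2 * w) ∧
        (∀ i j : Fin n, i.val < j.val → j.val = i.val + 1 ∧ j.val + 1 = n → T.a (σ i) (σ j) = 4 * w) ∧
        (∀ i j : Fin n, i.val < j.val → ¬ (j.val = i.val + 1 ∧ j.val + 1 < n) → ¬ (j.val = i.val + 1 ∧ j.val + 1 = n) → T.a (σ i) (σ j) = 0))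

variable (T) in
/-- Family 3 of the genus one classification. -/
def FamFlat (σ : Equiv.Perm (Fin n)) (m w : ℤ) : Prop :=
  ((∀ i : Fin n, T.m (σ i) = m) ∧
        (∀ i : Fin n, i.val = 0 → T.w (σ i) = w) ∧
        (∀ i : Fin n, 0 < i.val ∧ i.val + 1 < n → T.w (σ i) = 2 * w) ∧
        (∀ i : Fin n, i.val + 1 = n → T.w (σ i) = w) ∧
        (∀ i j : Fin n, i.val < j.val → j.val = i.val + 1 → T.a (σ i) (σ j) = 2 * w) ∧
        (∀ i j : Fin n, i.val < j.val → ¬ (j.val = i.val + 1) → T.a (σ i) (σ j) = 0))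

variable (T) in
/-- Family 4 of the genus one classification. -/
def FamDown (σ : Equiv.Perm (Fin n)) (m w : ℤ) : Prop :=
  ((∀ i : Fin n, i.val = 0 → T.m (σ i) = m) ∧
        (∀ i : Fin n, 0 < i.val ∧ i.val + 1 < n → T.m (σ i) = 2 * m) ∧
        (∀ i : Fin n, i.val + 1 = n → T.m (σ i) = m) ∧
        (∀ i : Fin n, i.val = 0 → T.w (σ i) = 2 * w) ∧
        (∀ i : Fin n, 0 < i.val ∧ i.val + 1 < n → T.w (σ i) = w) ∧
        (∀ i : Fin n, i.val + 1 = n → T.w (σ i) = 2 * w) ∧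
        (∀ i j : Fin n, i.val < j.val → i.val = 0 ∧ j.val = 1 → T.a (σ i) (σ j) = 2 * w) ∧
        (∀ i j : Fin n, i.val < j.val → j.val = i.val + 1 ∧ 1 ≤ i.val ∧ j.val + 2 ≤ n → T.a (σ i) (σ j) = w) ∧
        (∀ i j : Fin n, i.val < j.val → j.val = i.val + 1 ∧ j.val + 1 = n → T.a (σ i) (σ j) = 2 * w) ∧
        (∀ i j : Fin n, i.val < j.val → ¬ (i.val = 0 ∧ j.val = 1) → ¬ (j.val = i.val + 1 ∧ 1 ≤ i.val ∧ j.val + 2 ≤ n) → ¬ (j.val = i.val + 1 ∧ j.val + 1 = n) → T.a (σ i) (σ j) = 0))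

variable (T) in
/-- Family 5 of the genus one classification. -/
def FamB (σ : Equiv.Perm (Fin n)) (m w : ℤ) : Prop :=
  ((∀ i : Fin n, i.val = 0 → T.m (σ i) = m) ∧
        (∀ i : Fin n, 1 ≤ i.val ∧ i.val + 2 < n → T.m (σ i) = 2 * m) ∧
        (∀ i : Fin n, n ≤ i.val + 2 → T.m (σ i) = m) ∧
        (∀ i : Fin n, i.val = 0 → T.w (σ i) = 2 * w) ∧
        (∀ i : Fin n, 0 < i.val → T.w (σ i) = w) ∧
        (∀ i j : Fin n, i.val < j.val → i.val = 0 ∧ j.val = 1 → T.a (σ i) (σ j) = 2 * w) ∧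
        (∀ i j : Fin n, i.val < j.val → j.val = i.val + 1 ∧ 1 ≤ i.val ∧ j.val + 2 ≤ n → T.a (σ i) (σ j) = w) ∧
        (∀ i j : Fin n, i.val < j.val → i.val + 3 = n ∧ j.val + 1 = n → T.a (σ i) (σ j) = w) ∧
        (∀ i j : Fin n, i.val < j.val → ¬ (i.val = 0 ∧ j.val = 1) → ¬ (j.val = i.val + 1 ∧ 1 ≤ i.val ∧ j.val + 2 ≤ n) → ¬ (i.val + 3 = n ∧ j.val + 1 = n) → T.a (σ i) (σ j) = 0))

variable (T) in
/-- Family 6 of the genus one classification. -/
def FamB2 (σ : Equiv.Perm (Fin n)) (m w : ℤ) : Prop :=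
  ((∀ i : Fin n, i.val + 2 < n → T.m (σ i) = 2 * m) ∧
        (∀ i : Fin n, n ≤ i.val + 2 → T.m (σ i) = m) ∧
        (∀ i : Fin n, i.val = 0 → T.w (σ i) = w) ∧
        (∀ i : Fin n, 0 < i.val → T.w (σ i) = 2 * w) ∧
        (∀ i j : Fin n, i.val < j.val → j.val = i.val + 1 ∧ j.val + 2 ≤ n → T.a (σ i) (σ j) = 2 * w) ∧
        (∀ i j : Fin n, i.val < j.val → i.val + 3 = n ∧ j.val + 1 = n → T.a (σ i) (σ j) = 2 * w) ∧
        (∀ i j : Fin n, i.val < j.val → ¬ (j.val = i.val + 1 ∧ j.val + 2 ≤ n) → ¬ (i.val + 3 = n ∧ j.val + 1 = n) → T.a (σ i) (σ j) = 0))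

variable (T) in
/-- Family 7 of the genus one classification. -/
def FamD (σ : Equiv.Perm (Fin n)) (m w : ℤ) : Prop :=
  ((∀ i : Fin n, i.val ≤ 1 → T.m (σ i) = m) ∧
        (∀ i : Fin n, 2 ≤ i.val ∧ i.val + 2 < n → T.m (σ i) = 2 * m) ∧
        (∀ i : Fin n, n ≤ i.val + 2 → T.m (σ i) = m) ∧
        (∀ i : Fin n, T.w (σ i) = w) ∧
        (∀ i j : Fin n, i.val < j.val → i.val = 0 ∧ j.val = 2 → T.a (σ i) (σ j) = w) ∧
        (∀ i j : Fin n, i.val < j.val → i.val = 1 ∧ j.val = 2 → T.a (σ i) (σ j) = w) ∧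
        (∀ i j : Fin n, i.val < j.val → j.val = i.val + 1 ∧ 2 ≤ i.val ∧ j.val + 2 ≤ n → T.a (σ i) (σ j) = w) ∧
        (∀ i j : Fin n, i.val < j.val → i.val + 3 = n ∧ j.val + 1 = n → T.a (σ i) (σ j) = w) ∧
        (∀ i j : Fin n, i.val < j.val → ¬ (i.val = 0 ∧ j.val = 2) → ¬ (i.val = 1 ∧ j.val = 2) → ¬ (j.val = i.val + 1 ∧ 2 ≤ i.val ∧ j.val + 2 ≤ n) → ¬ (i.val + 3 = n ∧ j.val + 1 = n) → T.a (σ i) (σ j) = 0))
lemma sq_A {d : ℕ → ℤ} (hd : ∀ k, d k = 1) (σ : Equiv.Perm (Fin n)) {w : ℤ} (hw : ∀ i, T.w (σ i) = w)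
    (hm : ∀ i j : Fin n, d j.val * (T.m (σ i) ^ 2 * T.w (σ i)) = d i.val * (T.m (σ j) ^ 2 * T.w (σ j)))
    (i j : Fin n) : T.m (σ i) = T.m (σ j) := by
  have h := hm i j
  simp only [hd, hw, one_mul] at h
  have := eq_mul_of_sq (c := 1) (T.m_pos (σ i)) (T.m_pos (σ j)) (hw i ▸ T.w_pos (σ i)) one_pos (by rw [h]; ring)
  simpa using this

lemma famA_of_fills (hn : 3 ≤ n) (h : Fills T (rA n) fun _ => 1) : ∃ σ m w, FamA T σ m w := by
  obtain ⟨σ, hE, hm⟩ := h
  have hne : ∀ i j : Fin n, i.val < j.val → σ i ≠ σ j := fun i j h e => h.ne (congrArg Fin.val (σ.injective e))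
  have hs : ∀ i j : Fin n, i.val < j.val → (j.val = i.val + 1 ∨ i.val = 0 ∧ j.val + 1 = n) → Simple T (σ i) (σ j) :=
    fun i j h h' => edge_one (hne i j h) (by rw [hE i j h]; simp [rA, h'])
  let z : Fin n := ⟨0, by omega⟩
  have hw : ∀ i : Fin n, T.w (σ i) = T.w (σ z) := by
    intro ⟨k, hk⟩
    induction k with
    | zero => rfl
    | succ k ih => rw [(hs ⟨k, by omega⟩ ⟨k + 1, hk⟩ (Nat.lt_succ_self k) (Or.inl rfl)).2, ih]
  refine ⟨σ, T.m (σ z), T.w (σ z), fun i => sq_A (fun _ => rfl) σ hw hm i z, hw, fun i j h h' => ?_,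
    fun i j h h' => ?_, fun i j h h1 h2 => ?_⟩
  · rw [(hs i j h (Or.inl h')).1, hw]
  · rw [(hs i j h (Or.inr h')).1, hw]
  · exact edge_zero (by rw [hE i j h]; simp [rA, h1, h2])

/-- Squared null vector of `C̃`. -/
def dC (t : ℕ) (k : ℕ) : ℤ := if k = 0 ∨ k = t then 1 else 2

lemma fills_C_rev {t : ℕ} {T : NumericalType (t + 1)} {σ : Equiv.Perm (Fin (t + 1))}
    (hE : ∀ i j : Fin (t + 1), i.val < j.val → T.a (σ i) (σ j) ^ 2 = (rC t i.val j.val : ℤ) * (T.w (σ i) * T.w (σ j)))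
    (hm : ∀ i j : Fin (t + 1), dC t j.val * (T.m (σ i) ^ 2 * T.w (σ i)) = dC t i.val * (T.m (σ j) ^ 2 * T.w (σ j))) :
    (∀ i j : Fin (t + 1), i.val < j.val → T.a ((Fin.revPerm.trans σ) i) ((Fin.revPerm.trans σ) j) ^ 2 =
        (rC t i.val j.val : ℤ) * (T.w ((Fin.revPerm.trans σ) i) * T.w ((Fin.revPerm.trans σ) j))) ∧
    (∀ i j : Fin (t + 1), dC t j.val * (T.m ((Fin.revPerm.trans σ) i) ^ 2 * T.w ((Fin.revPerm.trans σ) i)) =
        dC t i.val * (T.m ((Fin.revPerm.trans σ) j) ^ 2 * T.w ((Fin.revPerm.trans σ) j))) := by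
  have hd : ∀ i : Fin (t + 1), dC t (Fin.rev i).val = dC t i.val := fun i => by
    simp only [dC, Fin.val_rev]; split_ifs <;> omega
  refine ⟨fun i j h => ?_, fun i j => ?_⟩
  · simp only [Equiv.trans_apply, Fin.revPerm_apply]
    have hr : rC t (Fin.rev j).val (Fin.rev i).val = rC t i.val j.val := by
      simp only [rC, Fin.val_rev]; split_ifs <;> omega
    rw [a_symm T, hE _ _ (by simp only [Fin.val_rev]; omega), hr]
    ring
  · simp only [Equiv.trans_apply, Fin.revPerm_apply]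
    have := hm (Fin.rev i) (Fin.rev j)
    rwa [hd, hd] at this

lemma famC_of_fills {t : ℕ} (ht : 2 ≤ t) {T : NumericalType (t + 1)} (h : Fills T (rC t) (dC t)) :
    ∃ σ m w, FamUp T σ m w ∨ FamFlat T σ m w ∨ FamDown T σ m w := by
  obtain ⟨σ, hE, hm⟩ := h
  suffices key : ∀ σ : Equiv.Perm (Fin (t + 1)),
      (∀ i j : Fin (t + 1), i.val < j.val → T.a (σ i) (σ j) ^ 2 = (rC t i.val j.val : ℤ) * (T.w (σ i) * T.w (σ j))) →
      (∀ i j : Fin (t + 1), dC t j.val * (T.m (σ i) ^ 2 * T.w (σ i)) = dC t i.val * (T.m (σ j) ^ 2 * T.w (σ j))) →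
      (T.w (σ ⟨1, by omega⟩) = 2 * T.w (σ ⟨0, by omega⟩) ∨
        T.w (σ ⟨t, by omega⟩) = 2 * T.w (σ ⟨t - 1, by omega⟩)) →
      ∃ σ m w, FamUp T σ m w ∨ FamFlat T σ m w ∨ FamDown T σ m w by
    have hne : ∀ a b : Fin (t + 1), a.val < b.val → σ a ≠ σ b := fun a b h e => h.ne (congrArg Fin.val (σ.injective e))
    have e0 : Double (σ ⟨0, by omega⟩) (σ ⟨1, by omega⟩) T :=
      edge_two (hne _ _ Nat.zero_lt_one) (by rw [hE _ _ Nat.zero_lt_one]; simp [rC, show 1 ≤ t by omega])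
    rcases e0 with ⟨-, h0⟩ | ⟨-, h0⟩
    · exact key σ hE hm (Or.inl h0)
    · obtain ⟨hE', hm'⟩ := fills_C_rev hE hm
      refine key _ hE' hm' (Or.inr ?_)
      simp only [Equiv.trans_apply, Fin.revPerm_apply]
      rw [show Fin.rev (⟨t, by omega⟩ : Fin (t + 1)) = ⟨0, by omega⟩ from Fin.ext (by simp [Fin.val_rev]),
        show Fin.rev (⟨t - 1, by omega⟩ : Fin (t + 1)) = ⟨1, by omega⟩ from Fin.ext (by simp only [Fin.val_rev]; omega)]
      exact h0
  intro σ hE hm hor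
  have hne : ∀ a b : Fin (t + 1), a.val < b.val → σ a ≠ σ b := fun a b h e => h.ne (congrArg Fin.val (σ.injective e))
  have hs : ∀ i j : Fin (t + 1), j.val = i.val + 1 → 1 ≤ i.val → j.val < t → Simple T (σ i) (σ j) := fun i j h h1 h2 =>
    edge_one (hne _ _ (by omega)) (by rw [hE i j (by omega)]; simp only [rC]; split_ifs <;> first | rfl | omega)
  have hz : ∀ i j : Fin (t + 1), i.val < j.val → j.val ≠ i.val + 1 → T.a (σ i) (σ j) = 0 := fun i j h h' =>
    edge_zero (by rw [hE i j h]; simp [rC, h'])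
  let p0 : Fin (t + 1) := ⟨0, by omega⟩
  let p1 : Fin (t + 1) := ⟨1, by omega⟩
  let pl : Fin (t + 1) := ⟨t, by omega⟩
  let pm : Fin (t + 1) := ⟨t - 1, by omega⟩
  have hw : ∀ i : Fin (t + 1), 0 < i.val → i.val + 1 < t + 1 → T.w (σ i) = T.w (σ p1) := by
    intro ⟨k, hk⟩
    induction k with
    | zero => intro h; simp at h
    | succ k ih =>
      intro _ h
      rcases Nat.eq_zero_or_pos k with rfl | hk0
      · rfl
      · rw [(hs ⟨k, by omega⟩ ⟨k + 1, hk⟩ rfl hk0 (by simp at h ⊢; omega)).2, ih (by omega) hk0 (by simp at h ⊢; omega)]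
  have e0 : Double (σ p0) (σ p1) T :=
    edge_two (hne _ _ Nat.zero_lt_one) (by rw [hE _ _ Nat.zero_lt_one]; simp [rC, p0, p1]; omega)
  have el : Double (σ pm) (σ pl) T :=
    edge_two (hne _ _ (by simp [pm, pl]; omega))
      (by rw [hE _ _ (by simp [pm, pl]; omega)]; simp [rC, pm, pl]; omega)
  have hwm : T.w (σ pm) = T.w (σ p1) := hw _ (by simp [pm]; omega) (by simp [pm]; omega)
  have ep0 : ∀ i : Fin (t + 1), i.val = 0 → i = p0 := fun i h => Fin.ext h
  have epl : ∀ i : Fin (t + 1), i.val + 1 = t + 1 → i = pl := fun i h => Fin.ext (by simp [pl]; omega)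
  have ea : ∀ i j : Fin (t + 1), i.val < j.val → j.val = i.val + 1 → T.a (σ i) (σ j) =
      if i.val = 0 then T.a (σ p0) (σ p1) else if j.val = t then T.a (σ pm) (σ pl) else T.w (σ p1) := by
    intro i j h h'
    by_cases h0 : i.val = 0
    · rw [if_pos h0, ep0 i h0, show j = p1 from Fin.ext (by simp [p1]; omega)]
    · rw [if_neg h0]
      by_cases hl : j.val = t
      · rw [if_pos hl, show i = pm from Fin.ext (by simp [pm]; omega), show j = pl from Fin.ext hl]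
      · rw [if_neg hl, (hs i j h' (by omega) (by omega)).1, hw i (by omega) (by omega)]
  have wp0 := T.w_pos (σ p0)
  have wp1 := T.w_pos (σ p1)
  have wpl := T.w_pos (σ pl)
  have mp0 := T.m_pos (σ p0)
  have mpl := T.m_pos (σ pl)
  have s0 : dC t p0.val = 1 := by simp [dC, p0]
  have sl : dC t pl.val = 1 := by simp [dC, pl]
  have smid : ∀ i : Fin (t + 1), 0 < i.val → i.val + 1 < t + 1 → dC t i.val = 2 := fun i h1 h2 => by
    simp only [dC]; rw [if_neg (by omega)]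
  have hends := hm p0 pl
  rw [s0, sl, one_mul, one_mul] at hends
  rcases e0 with ⟨A0, W0⟩ | ⟨A0, W0⟩ <;> rcases el with ⟨Al, Wl⟩ | ⟨Al, Wl⟩ <;> rw [hwm] at Al Wl
  · -- small at the start, large at the end
    refine ⟨σ, T.m (σ pl), T.w (σ p0), Or.inl ⟨fun i h => ?_, fun i h => by rw [epl i h],
      fun i h => by rw [ep0 i h], fun i h => by rw [hw i h.1 h.2, W0], fun i h => by rw [epl i h, Wl, W0]; ring,
      fun i j h h' => ?_, fun i j h h' => ?_, fun i j h h1 h2 => hz i j h (fun e => ?_)⟩⟩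
    · rcases Nat.eq_zero_or_pos i.val with h0 | h0
      · rw [ep0 i h0]
        refine eq_mul_of_sq mp0 mpl wp0 two_pos ?_
        rw [Wl, W0] at hends; rw [hends]; ring
      · have e := hm i pl
        rw [sl, smid i h0 h, one_mul, hw i h0 h, Wl] at e
        refine eq_mul_of_sq (T.m_pos _) mpl wp1 two_pos ?_
        rw [e]; ring
    · rw [ea i j h h'.1]
      split_ifs with h0 hl
      · exact A0
      · omega
      · exact W0
    · rw [ea i j h h'.1, if_neg (by omega), if_pos (by omega), Al, W0]; ring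
    · by_cases hl : j.val + 1 < t + 1
      · exact h1 ⟨e, hl⟩
      · exact h2 ⟨e, by omega⟩
  · -- small at both ends
    refine ⟨σ, T.m (σ p0), T.w (σ p0), Or.inr (Or.inl ⟨fun i => ?_, fun i h => by rw [ep0 i h],
      fun i h => by rw [hw i h.1 h.2, W0], fun i h => ?_, fun i j h h' => ?_, fun i j h h1 => hz i j h h1⟩)⟩
    · rcases Nat.eq_zero_or_pos i.val with h0 | h0
      · rw [ep0 i h0]
      · by_cases hl : i.val + 1 < t + 1
        · have e := hm i p0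
          rw [s0, smid i h0 hl, one_mul, hw i h0 hl, W0] at e
          have := eq_mul_of_sq (c := 1) (T.m_pos _) mp0 (u := 2 * T.w (σ p0)) (by omega) one_pos (by rw [e]; ring)
          simpa using this
        · rw [epl i (by omega)]
          have := eq_mul_of_sq (c := 1) mpl mp0 wpl one_pos (by
            rw [show T.w (σ p0) = T.w (σ pl) by omega] at hends
            rw [hends]; ring)
          simpa using this
    · rw [epl i h]; omega
    · rw [ea i j h h']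
      split_ifs <;> omega
  · -- large at both ends
    refine ⟨σ, T.m (σ p0), T.w (σ p1), Or.inr (Or.inr ⟨fun i h => by rw [ep0 i h], fun i h => ?_, fun i h => ?_,
      fun i h => by rw [ep0 i h, W0], fun i h => hw i h.1 h.2, fun i h => by rw [epl i h, Wl],
      fun i j h h' => ?_, fun i j h h' => ?_, fun i j h h' => ?_,
      fun i j h h1 h2 h3 => hz i j h (fun e => ?_)⟩)⟩
    · have e := hm i p0
      rw [s0, smid i h.1 h.2, one_mul, hw i h.1 h.2, W0] at e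
      exact eq_mul_of_sq (T.m_pos _) mp0 wp1 two_pos (by linear_combination e)
    · rw [epl i h]
      rw [W0, Wl] at hends
      simpa using eq_mul_of_sq (c := 1) mpl mp0 (u := 2 * T.w (σ p1)) (by omega) one_pos
        (by linear_combination -hends)
    · rw [ea i j h (by omega), if_pos h'.1, A0, W0]
    · rw [ea i j h h'.1, if_neg (by omega), if_neg (by omega)]
    · rw [ea i j h h'.1, if_neg (by omega), if_pos (by omega), Al]
    · by_cases hl : j.val + 1 < t + 1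
      · rcases Nat.eq_zero_or_pos i.val with h0 | h0
        · exact h1 ⟨h0, by omega⟩
        · exact h2 ⟨e, h0, by omega⟩
      · exact h3 ⟨e, by omega⟩
  · exfalso
    rcases hor with h | h
    · change T.w (σ p1) = 2 * T.w (σ p0) at h; omega
    · change T.w (σ pl) = 2 * T.w (σ pm) at h; rw [hwm] at h; omega

/-- Squared null vector of `B̃`. -/
def dB (t : ℕ) (k : ℕ) : ℤ := if k ≤ 1 then 1 else if k = t then 2 else 4

lemma famB_of_fills {t : ℕ} (ht : 3 ≤ t) {T : NumericalType (t + 1)} (h : Fills T (rB t) (dB t)) :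
    ∃ σ m w, FamB T σ m w ∨ FamB2 T σ m w := by
  obtain ⟨σ, hE, hm⟩ := h
  have hne : ∀ a b : Fin (t + 1), a.val < b.val → σ a ≠ σ b := fun a b h e => h.ne (congrArg Fin.val (σ.injective e))
  let pl : Fin (t + 1) := ⟨t, by omega⟩
  let pm : Fin (t + 1) := ⟨t - 1, by omega⟩
  let p0 : Fin (t + 1) := ⟨0, by omega⟩
  have hs : ∀ i j : Fin (t + 1), i.val < j.val → ((i.val = 0 ∧ j.val = 2) ∨ (1 ≤ i.val ∧ j.val = i.val + 1 ∧ j.val < t)) →
      Simple T (σ i) (σ j) := fun i j h h' => edge_one (hne _ _ h) (by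
    rw [hE i j h]
    rcases h' with h' | h' <;> simp only [rB] <;> split_ifs <;> first | rfl | omega)
  have hz : ∀ i j : Fin (t + 1), i.val < j.val → ¬ ((i.val = 0 ∧ j.val = 2) ∨ (1 ≤ i.val ∧ j.val = i.val + 1 ∧ j.val ≤ t)) →
      T.a (σ i) (σ j) = 0 := fun i j h h' => edge_zero (by
    rw [hE i j h]
    simp only [rB]
    split_ifs <;> first | rfl | omega)
  let p1 : Fin (t + 1) := ⟨1, by omega⟩
  have hw : ∀ i : Fin (t + 1), i.val < t → T.w (σ i) = T.w (σ p1) := by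
    have h12 : ∀ i : Fin (t + 1), 1 ≤ i.val → i.val < t → T.w (σ i) = T.w (σ p1) := by
      intro ⟨k, hk⟩
      induction k with
      | zero => intro h; simp at h
      | succ k ih =>
        intro _ h
        rcases Nat.eq_zero_or_pos k with rfl | hk0
        · rfl
        · rw [(hs ⟨k, by omega⟩ ⟨k + 1, hk⟩ (Nat.lt_succ_self k) (Or.inr ⟨hk0, rfl, h⟩)).2,
            ih (by omega) hk0 (by simp at h ⊢; omega)]
    intro i hi
    rcases Nat.eq_zero_or_pos i.val with h0 | h0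
    · rw [← (hs i ⟨2, by omega⟩ (by simp; omega) (Or.inl ⟨h0, rfl⟩)).2]
      exact h12 _ (by simp) (by simp; omega)
    · exact h12 i h0 hi
  have el : Double (σ pm) (σ pl) T :=
    edge_two (hne _ _ (by simp [pm, pl]; omega))
      (by rw [hE _ _ (by simp [pm, pl]; omega)]; simp [rB, pm, pl])
  have hwm : T.w (σ pm) = T.w (σ p1) := hw _ (by simp [pm]; omega)
  have epl : ∀ i : Fin (t + 1), i.val = t → i = pl := fun i h => Fin.ext h
  have hz' : ∀ a b : Fin (t + 1), b.val < a.val →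
      ¬ ((b.val = 0 ∧ a.val = 2) ∨ (1 ≤ b.val ∧ a.val = b.val + 1 ∧ a.val ≤ t)) → T.a (σ a) (σ b) = 0 :=
    fun a b h h' => by rw [a_symm T]; exact hz b a h h'
  have hsi : ∀ i j : Fin (t + 1), i.val < j.val → j.val = i.val + 1 → 1 ≤ i.val → j.val + 2 ≤ t + 1 →
      T.a (σ (Fin.rev i)) (σ (Fin.rev j)) = T.w (σ p1) := fun i j h h1 h2 h3 => by
    rw [a_symm T, (hs _ _ (by simp only [Fin.val_rev]; omega) (Or.inr ⟨by simp only [Fin.val_rev]; omega,
      by simp only [Fin.val_rev]; omega, by simp only [Fin.val_rev]; omega⟩)).1, hw _ (by simp only [Fin.val_rev]; omega)]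
  have hbr : ∀ i j : Fin (t + 1), i.val + 3 = t + 1 → j.val + 1 = t + 1 →
      T.a (σ (Fin.rev i)) (σ (Fin.rev j)) = T.w (σ p1) := fun i j h h' => by
    rw [a_symm T, (hs _ _ (by simp only [Fin.val_rev]; omega) (Or.inl ⟨by simp only [Fin.val_rev]; omega,
      by simp only [Fin.val_rev]; omega⟩)).1, hw _ (by simp only [Fin.val_rev]; omega)]
  have hfirst : ∀ i j : Fin (t + 1), i.val = 0 → j.val = 1 →
      T.a (σ (Fin.rev i)) (σ (Fin.rev j)) = T.a (σ pm) (σ pl) := fun i j h h' => by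
    rw [a_symm T, show Fin.rev j = pm from Fin.ext (by simp [Fin.val_rev, pm]; omega),
      show Fin.rev i = pl from Fin.ext (by simp [Fin.val_rev, pl]; omega)]
  have hzz : ∀ i j : Fin (t + 1), i.val < j.val → ¬ (i.val = 0 ∧ j.val = 1) →
      ¬ (j.val = i.val + 1 ∧ 1 ≤ i.val ∧ j.val + 2 ≤ t + 1) → ¬ (i.val + 3 = t + 1 ∧ j.val + 1 = t + 1) →
      T.a (σ (Fin.rev i)) (σ (Fin.rev j)) = 0 := fun i j h h1 h2 h3 =>
    hz' _ _ (by simp only [Fin.val_rev]; omega) (by simp only [Fin.val_rev]; omega)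
  have hd1 : dB t p0.val = 1 := by simp [dB, p0]
  have hdl : dB t pl.val = 2 := by simp [dB, pl]; omega
  have wp1 := T.w_pos (σ p1)
  have wpl := T.w_pos (σ pl)
  have mp0 := T.m_pos (σ p0)
  have mleaf : ∀ i : Fin (t + 1), i.val ≤ 1 → T.m (σ i) = T.m (σ p0) := fun i hi => by
    have e := hm i p0
    rw [hd1, show dB t i.val = 1 by simp [dB, hi], hw i (by omega), hw p0 (by simp [p0]; omega)] at e
    simpa using eq_mul_of_sq (c := 1) (T.m_pos _) mp0 wp1 one_pos (by linear_combination e)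
  have mmid : ∀ i : Fin (t + 1), 2 ≤ i.val → i.val < t → T.m (σ i) = 2 * T.m (σ p0) := fun i hi hi' => by
    have e := hm i p0
    rw [hd1, show dB t i.val = 4 by simp [dB]; omega, hw i hi', hw p0 (by simp [p0]; omega)] at e
    exact eq_mul_of_sq (T.m_pos _) mp0 wp1 two_pos (by linear_combination e)
  have elast := hm pl p0
  rw [hd1, hdl, hw p0 (by simp [p0]; omega)] at elast
  rcases el with ⟨Al, Wl⟩ | ⟨Al, Wl⟩ <;> rw [hwm] at Al Wl
  · refine ⟨Fin.revPerm.trans σ, T.m (σ p0), T.w (σ p1), Or.inl ⟨fun i h => ?_, fun i h => ?_, fun i h => ?_,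
      fun i h => ?_, fun i h => ?_, fun i j h h' => ?_, fun i j h h' => ?_, fun i j h h' => ?_,
      fun i j h h1 h2 h3 => hzz i j h h1 h2 h3⟩⟩ <;> simp only [Equiv.trans_apply, Fin.revPerm_apply]
    · rw [epl (Fin.rev i) (by simp only [Fin.val_rev]; omega)]
      rw [Wl] at elast
      simpa using eq_mul_of_sq (c := 1) (T.m_pos _) mp0 (u := 2 * T.w (σ p1)) (by omega) one_pos
        (by linear_combination elast)
    · exact mmid _ (by simp only [Fin.val_rev]; omega) (by simp only [Fin.val_rev]; omega)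
    · exact mleaf _ (by simp only [Fin.val_rev]; omega)
    · rw [epl (Fin.rev i) (by simp only [Fin.val_rev]; omega), Wl]
    · exact hw _ (by simp only [Fin.val_rev]; omega)
    · rw [hfirst i j h'.1 h'.2, Al]
    · exact hsi i j h h'.1 h'.2.1 h'.2.2
    · exact hbr i j h'.1 h'.2
  · refine ⟨Fin.revPerm.trans σ, T.m (σ p0), T.w (σ pl), Or.inr ⟨fun i h => ?_, fun i h => ?_, fun i h => ?_,
      fun i h => ?_, fun i j h h' => ?_, fun i j h h' => ?_,
      fun i j h h1 h2 => ?_⟩⟩ <;> simp only [Equiv.trans_apply, Fin.revPerm_apply]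
    · rcases Nat.eq_zero_or_pos i.val with h0 | h0
      · rw [epl (Fin.rev i) (by simp only [Fin.val_rev]; omega)]
        rw [Wl] at elast
        exact eq_mul_of_sq (T.m_pos _) mp0 wpl two_pos (by linear_combination elast)
      · exact mmid _ (by simp only [Fin.val_rev]; omega) (by simp only [Fin.val_rev]; omega)
    · exact mleaf _ (by simp only [Fin.val_rev]; omega)
    · rw [epl (Fin.rev i) (by simp only [Fin.val_rev]; omega)]
    · rw [hw _ (by simp only [Fin.val_rev]; omega), Wl]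
    · rcases Nat.eq_zero_or_pos i.val with h0 | h0
      · rw [hfirst i j h0 (by omega), Al, Wl]
      · rw [hsi i j h h'.1 h0 h'.2, Wl]
    · rw [hbr i j h'.1 h'.2, Wl]
    · exact hzz i j h (fun e => h1 ⟨by omega, by omega⟩) (fun e => h1 ⟨e.1, e.2.2⟩) h2

/-- Squared null vector of `D̃`. -/
def dD (t : ℕ) (k : ℕ) : ℤ := if k ≤ 1 ∨ t ≤ k then 1 else 4

lemma famD_of_fills {t : ℕ} (ht : 3 ≤ t) {T : NumericalType (t + 2)} (h : Fills T (rD t) (dD t)) :
    ∃ σ m w, FamD T σ m w := by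
  obtain ⟨σ, hE, hm⟩ := h
  have hne : ∀ a b : Fin (t + 2), a.val < b.val → σ a ≠ σ b := fun a b h e => h.ne (congrArg Fin.val (σ.injective e))
  have hs : ∀ i j : Fin (t + 2), i.val < j.val →
      ((i.val = 0 ∧ j.val = 2) ∨ (1 ≤ i.val ∧ j.val = i.val + 1 ∧ j.val ≤ t) ∨ (i.val = t - 1 ∧ j.val = t + 1)) →
      Simple T (σ i) (σ j) := fun i j h h' => edge_one (hne _ _ h) (by rw [hE i j h]; simp only [rD, if_pos h'])
  let p1 : Fin (t + 2) := ⟨1, by omega⟩
  have hw : ∀ i : Fin (t + 2), T.w (σ i) = T.w (σ p1) := by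
    have h12 : ∀ i : Fin (t + 2), 1 ≤ i.val → i.val ≤ t → T.w (σ i) = T.w (σ p1) := by
      intro ⟨k, hk⟩
      induction k with
      | zero => intro h; simp at h
      | succ k ih =>
        intro _ h
        rcases Nat.eq_zero_or_pos k with rfl | hk0
        · rfl
        · rw [(hs ⟨k, by omega⟩ ⟨k + 1, hk⟩ (Nat.lt_succ_self k) (Or.inr (Or.inl ⟨hk0, rfl, h⟩))).2,
            ih (by omega) hk0 (by simp at h ⊢; omega)]
    intro i
    rcases (show i.val = 0 ∨ (1 ≤ i.val ∧ i.val ≤ t) ∨ i.val = t + 1 by omega) with h | h | h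
    · rw [← (hs i ⟨2, by omega⟩ (by simp; omega) (Or.inl ⟨h, rfl⟩)).2]
      exact h12 _ (by simp) (by simp; omega)
    · exact h12 i h.1 h.2
    · rw [(hs ⟨t - 1, by omega⟩ i (by simp; omega) (Or.inr (Or.inr ⟨rfl, h⟩))).2]
      exact h12 _ (by simp; omega) (by simp)
  have hd1 : dD t p1.val = 1 := by simp [dD, p1]
  have wp1 := T.w_pos (σ p1)
  have mp1 := T.m_pos (σ p1)
  have mleaf : ∀ i : Fin (t + 2), (i.val ≤ 1 ∨ t ≤ i.val) → T.m (σ i) = T.m (σ p1) := fun i hi => by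
    have e := hm i p1
    rw [hd1, show dD t i.val = 1 by simp [dD, hi], hw i] at e
    simpa using eq_mul_of_sq (c := 1) (T.m_pos _) mp1 wp1 one_pos (by linear_combination e)
  have mmid : ∀ i : Fin (t + 2), 2 ≤ i.val → i.val < t → T.m (σ i) = 2 * T.m (σ p1) := fun i hi hi' => by
    have e := hm i p1
    rw [hd1, show dD t i.val = 4 by simp [dD]; omega, hw i] at e
    exact eq_mul_of_sq (T.m_pos _) mp1 wp1 two_pos (by linear_combination e)
  refine ⟨σ, T.m (σ p1), T.w (σ p1), fun i h => mleaf i (Or.inl h), fun i h => mmid i h.1 (by omega),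
    fun i h => mleaf i (Or.inr (by omega)), hw, fun i j h h' => ?_, fun i j h h' => ?_, fun i j h h' => ?_,
    fun i j h h' => ?_, fun i j h h1 h2 h3 h4 => ?_⟩
  · rw [(hs i j h (Or.inl h')).1, hw]
  · rw [(hs i j h (Or.inr (Or.inl (by omega)))).1, hw]
  · rw [(hs i j h (Or.inr (Or.inl (by omega)))).1, hw]
  · rw [(hs i j h (Or.inr (Or.inr (by omega)))).1, hw]
  · refine edge_zero ?_
    rw [hE i j h]
    simp only [rD]
    split_ifs with h'
    · omega
    · rfl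

variable (T) in
/-- The possible outcomes of the classification for at least three indices. -/
def Classified : Prop :=
  (∃ σ m w, FamA T σ m w) ∨ (∃ σ m w, FamUp T σ m w ∨ FamFlat T σ m w ∨ FamDown T σ m w) ∨
  (4 ≤ n ∧ ∃ σ m w, FamB T σ m w ∨ FamB2 T σ m w) ∨ (5 ≤ n ∧ ∃ σ m w, FamD T σ m w) ∨
  (n = 7 ∧ Fills T rE6 (fun k => ([1, 4, 9, 1, 4, 1, 4] : List ℤ).getD k 0)) ∨
  (n = 8 ∧ Fills T rE7 (fun k => ([1, 4, 9, 16, 9, 4, 1, 4] : List ℤ).getD k 0)) ∨
  (n = 9 ∧ Fills T rE8 (fun k => ([1, 4, 9, 16, 25, 36, 16, 4, 9] : List ℤ).getD k 0)) ∨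
  (n = 5 ∧ Fills T rF4 (fun k => ([1, 4, 9, 8, 2] : List ℤ).getD k 0)) ∨
  (n = 3 ∧ Fills T rG2 (fun k => ([1, 4, 3] : List ℤ).getD k 0))

theorem classify (hn : 3 ≤ n) (hall : ∀ i, T.IsMinusTwo i) : Classified T := by
  rcases hasDiagram hall hn with ⟨N, hN, h⟩ | ⟨t, ht, h⟩ | ⟨t, ht, h⟩ | ⟨t, ht, h⟩ | h | h | h | h | h
  · obtain ⟨rfl, hf⟩ := h.fills hall (by omega) (fun _ => 1) (fun _ => one_pos) (cA_le N hN) (fun _ => 1)
      (fun _ => by simp)
    exact Or.inl (famA_of_fills hn hf)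
  · obtain ⟨rfl, hf⟩ := h.fills hall (by omega) (cC t) (cC_pos t) (cC_le t ht) (dC t) (fun i => by
      simp only [cC, dC]; split_ifs <;> simp)
    exact Or.inr (Or.inl (famC_of_fills ht hf))
  · obtain ⟨rfl, hf⟩ := h.fills hall (by omega) (cB t) (cB_pos t) (cB_le t ht) (dB t) (fun i => by
      simp only [cB, dB]; split_ifs <;> norm_num)
    exact Or.inr (Or.inr (Or.inl ⟨by omega, famB_of_fills ht hf⟩))
  · obtain ⟨rfl, hf⟩ := h.fills hall (by omega) (cD t) (cD_pos t) (cD_le t ht) (dD t) (fun i => by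
      simp only [cD, dD]; split_ifs <;> norm_num)
    exact Or.inr (Or.inr (Or.inr (Or.inl ⟨by omega, famD_of_fills ht hf⟩)))
  · obtain ⟨rfl, hf⟩ := h.fills hall (by omega) cE6 cE6_pos cE6_le
      (fun k => ([1, 4, 9, 1, 4, 1, 4] : List ℤ).getD k 0) (fun i => by fin_cases i <;> simp [cE6] <;> norm_num)
    exact Or.inr (Or.inr (Or.inr (Or.inr (Or.inl ⟨rfl, hf⟩))))
  · obtain ⟨rfl, hf⟩ := h.fills hall (by omega) cE7 cE7_pos cE7_le
      (fun k => ([1, 4, 9, 16, 9, 4, 1, 4] : List ℤ).getD k 0) (fun i => by fin_cases i <;> simp [cE7] <;> norm_num)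
    exact Or.inr (Or.inr (Or.inr (Or.inr (Or.inr (Or.inl ⟨rfl, hf⟩)))))
  · obtain ⟨rfl, hf⟩ := h.fills hall (by omega) cE8 cE8_pos cE8_le
      (fun k => ([1, 4, 9, 16, 25, 36, 16, 4, 9] : List ℤ).getD k 0) (fun i => by fin_cases i <;> simp [cE8] <;> norm_num)
    exact Or.inr (Or.inr (Or.inr (Or.inr (Or.inr (Or.inr (Or.inl ⟨rfl, hf⟩))))))
  · obtain ⟨rfl, hf⟩ := h.fills hall (by omega) cF4 cF4_pos cF4_le
      (fun k => ([1, 4, 9, 8, 2] : List ℤ).getD k 0)
      (fun i => by fin_cases i <;> simp [cF4] <;> nlinarith [sqrt_two_mul])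
    exact Or.inr (Or.inr (Or.inr (Or.inr (Or.inr (Or.inr (Or.inr (Or.inl ⟨rfl, hf⟩)))))))
  · obtain ⟨rfl, hf⟩ := h.fills hall (by omega) cG2 cG2_pos cG2_le
      (fun k => ([1, 4, 3] : List ℤ).getD k 0)
      (fun i => by fin_cases i <;> simp [cG2] <;> norm_num)
    exact Or.inr (Or.inr (Or.inr (Or.inr (Or.inr (Or.inr (Or.inr (Or.inr ⟨rfl, hf⟩)))))))

end Groth.Agent.NumType
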