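import Groth.Agent.Lib.NumType.Basic
import Mathlib.Algebra.BigOperators.Fin
import Mathlib.Tactic.LinearCombination
import Mathlib.LinearAlgebra.Quotient.Basic
import Mathlib.LinearAlgebra.FreeModule.PID
import Mathlib.LinearAlgebra.Dimension.Free
import Mathlib.Logic.Equiv.Fintype

/-! Contraction of a `(-1)`-index, and permutations of indices. -/

namespace Groth.Agent.NumType

open Finset Models

variable {n : ℕ}

lemma picRange_iff {N : ℕ} (T : NumericalType N) (x : Fin N → ℤ) :
    x ∈ LinearMap.range (Matrix.mulVecLin T.picMatrix) ↔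
      ∃ z : Fin N → ℤ, ∀ i, T.w i * x i = ∑ j, T.a i j * z j := by
  have key : ∀ (z : Fin N → ℤ) i, T.w i * T.picMatrix.mulVec z i = ∑ j, T.a i j * z j := fun z i => by
    simp only [Matrix.mulVec, dotProduct, NumericalType.picMatrix, Finset.mul_sum]
    exact sum_congr rfl fun j _ => by rw [← mul_assoc, Int.mul_ediv_cancel' (T.w_dvd i j)]
  constructor
  · rintro ⟨z, rfl⟩
    exact ⟨z, key z⟩
  · rintro ⟨z, hz⟩
    refine ⟨z, funext fun i => mul_left_cancel₀ (T.w_pos i).ne' ?_⟩
    rw [Matrix.mulVecLin_apply, key, hz]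

variable (T : NumericalType (n + 1)) (h : T.IsMinusOne (Fin.last n))
include h

/-- `a i l / w l`. -/
def tq (_h : T.IsMinusOne (Fin.last n)) (i : Fin n) : ℤ :=
  T.a i.castSucc (Fin.last n) / T.w (Fin.last n)

lemma w_mul_tq (i : Fin n) : T.w (Fin.last n) * tq T h i = T.a i.castSucc (Fin.last n) :=
  Int.mul_ediv_cancel' (by rw [a_symm T]; exact T.w_dvd _ _)

lemma a_last (i : Fin n) : 0 ≤ T.a i.castSucc (Fin.last n) :=
  T.offDiag_nonneg _ _ (Fin.castSucc_lt_last i).ne

lemma tq_nonneg (i : Fin n) : 0 ≤ tq T h i := Int.ediv_nonneg (a_last T h i) (T.w_pos _).le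

lemma sum_tq : ∑ i, tq T h i * T.m i.castSucc = T.m (Fin.last n) := by
  have e := row_sum T (Fin.last n)
  rw [Fin.sum_univ_castSucc, h.2] at e
  refine mul_left_cancel₀ (T.w_pos (Fin.last n)).ne' ?_
  rw [Finset.mul_sum]
  simp only [← mul_assoc, w_mul_tq T h]
  simp only [a_symm T (Fin.last n)] at e
  linarith

lemma contract_a (i j : Fin n) :
    T.a i.castSucc j.castSucc - T.a i.castSucc (Fin.last n) * T.a j.castSucc (Fin.last n) /
      T.a (Fin.last n) (Fin.last n) = T.a i.castSucc j.castSucc + T.a i.castSucc (Fin.last n) * tq T h j := by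
  rw [h.2, Int.ediv_neg, ← w_mul_tq T h j, mul_left_comm,
    Int.mul_ediv_cancel_left _ (T.w_pos (Fin.last n)).ne']
  ring

/-- The weights after contraction. -/
def wC (i : Fin n) : ℤ :=
  if 2 ∣ tq T h i ∧ ¬ 2 ∣ T.a i.castSucc (Fin.last n) / T.w i.castSucc
  then T.w i.castSucc / 2 else T.w i.castSucc

/-- `a i l / w i`. -/
def sq (_h : T.IsMinusOne (Fin.last n)) (i : Fin n) : ℤ := T.a i.castSucc (Fin.last n) / T.w i.castSucc

lemma w_mul_sq (i : Fin n) : T.w i.castSucc * sq T h i = T.a i.castSucc (Fin.last n) :=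
  Int.mul_ediv_cancel' (T.w_dvd _ _)

lemma wC_cases (i : Fin n) :
    (wC T h i = T.w i.castSucc ∧ (¬ 2 ∣ tq T h i ∨ 2 ∣ sq T h i)) ∨
      (T.w i.castSucc = 2 * wC T h i ∧ 2 ∣ tq T h i ∧ ¬ 2 ∣ sq T h i) := by
  unfold wC
  by_cases hc : 2 ∣ tq T h i ∧ ¬ 2 ∣ T.a i.castSucc (Fin.last n) / T.w i.castSucc
  · right
    rw [if_pos hc]
    refine ⟨?_, hc.1, hc.2⟩
    have h2 : (2 : ℤ) ∣ T.w i.castSucc * sq T h i := by
      rw [w_mul_sq, ← w_mul_tq T h]; exact dvd_mul_of_dvd_right hc.1 _
    have := ((Int.even_mul.1 (even_iff_two_dvd.2 h2)).resolve_right fun e => hc.2 (even_iff_two_dvd.1 e)).two_dvd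
    omega
  · left
    rw [if_neg hc]
    refine ⟨rfl, ?_⟩
    by_contra hh
    push Not at hh
    exact hc hh

lemma wC_pos (i : Fin n) : 0 < wC T h i := by
  have := T.w_pos i.castSucc
  rcases wC_cases T h i with ⟨e, -⟩ | ⟨e, -⟩ <;> omega

lemma wC_dvd (i : Fin n) : wC T h i ∣ T.w i.castSucc := by
  rcases wC_cases T h i with ⟨e, -⟩ | ⟨e, -⟩
  · exact ⟨1, by rw [e, mul_one]⟩
  · exact ⟨2, by rw [e]; ring⟩

lemma two_wC_dvd (i : Fin n) : 2 * wC T h i ∣ T.a i.castSucc (Fin.last n) * (tq T h i - 1) := by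
  rw [← w_mul_sq T h i]
  rcases wC_cases T h i with ⟨e, ht | hs⟩ | ⟨e, -⟩
  · obtain ⟨k, hk⟩ : (2 : ℤ) ∣ tq T h i - 1 := by omega
    exact ⟨sq T h i * k, by rw [e, hk]; ring⟩
  · obtain ⟨k, hk⟩ := hs
    exact ⟨k * (tq T h i - 1), by rw [e, hk]; ring⟩
  · exact ⟨sq T h i * (tq T h i - 1), by rw [← e]; ring⟩

/-- The genus after contraction. -/
def gC (i : Fin n) : ℤ :=
  T.w i.castSucc / wC T h i * (T.g i.castSucc - 1) + 1 +
    (T.a i.castSucc (Fin.last n) ^ 2 - T.w (Fin.last n) * T.a i.castSucc (Fin.last n)) /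
      (2 * wC T h i * T.w (Fin.last n))

lemma two_wC_mul_gC (i : Fin n) : 2 * wC T h i * (gC T h i - 1) =
    2 * T.w i.castSucc * (T.g i.castSucc - 1) + T.a i.castSucc (Fin.last n) * (tq T h i - 1) := by
  have e1 : T.a i.castSucc (Fin.last n) ^ 2 - T.w (Fin.last n) * T.a i.castSucc (Fin.last n) =
      T.a i.castSucc (Fin.last n) * (tq T h i - 1) * T.w (Fin.last n) := by
    conv_rhs => rw [mul_assoc, sub_mul, one_mul, mul_comm (tq T h i), w_mul_tq]
    ring
  unfold gC
  rw [e1, Int.mul_ediv_mul_of_pos_left _ _ (T.w_pos (Fin.last n))]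
  have e2 := Int.mul_ediv_cancel' (wC_dvd T h i)
  have e3 := Int.mul_ediv_cancel' (two_wC_dvd T h i)
  linear_combination (2 * (T.g i.castSucc - 1)) * e2 + e3

lemma gC_nonneg (i : Fin n) : 0 ≤ gC T h i := by
  have hw' := wC_pos T h i
  have e := two_wC_mul_gC T h i
  have ha := a_last T h i
  have ht := tq_nonneg T h i
  have hw := T.w_pos i.castSucc
  have hg := T.g_nonneg i.castSucc
  have he := w_mul_sq T h i
  have he' := w_mul_tq T h i
  have hwl := T.w_pos (Fin.last n)
  suffices hge : 0 ≤ 2 * wC T h i * gC T h i by nlinarith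
  rcases wC_cases T h i with ⟨ew, -⟩ | ⟨ew, ⟨k, hk⟩, hs⟩
  · rw [ew] at e ⊢
    by_cases h0 : tq T h i = 0
    · rw [h0, mul_zero] at he'
      nlinarith
    · nlinarith [mul_nonneg ha (show 0 ≤ tq T h i - 1 by omega)]
  · have hs0 : sq T h i ≠ 0 := fun e0 => hs (by simp [e0])
    have hs1 : 1 ≤ sq T h i := by
      have : 0 ≤ sq T h i := Int.ediv_nonneg ha hw.le
      omega
    have hk1 : 1 ≤ tq T h i - 1 := by
      have : tq T h i ≠ 0 := fun e0 => by
        rw [e0, mul_zero] at he'
        rw [← he', mul_eq_zero] at he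
        rcases he with h1 | h1
        · omega
        · exact hs0 h1
      omega
    have : wC T h i * 2 ≤ T.a i.castSucc (Fin.last n) * (tq T h i - 1) := by
      rw [← he, ew]; nlinarith [mul_le_mul hs1 hk1 zero_le_one (by omega)]
    nlinarith

/-- The contraction of `T` along the last index. -/
def contraction : NumericalType n where
  m i := T.m i.castSucc
  a := fun i j => T.a i.castSucc j.castSucc + T.a i.castSucc (Fin.last n) * tq T h j
  w := wC T h
  g := gC T h
  pos := by
    rcases Nat.eq_zero_or_pos n with rfl | hn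
    · have e := row_sum T 0
      rw [Fin.sum_univ_one] at e
      have h2 : T.a 0 0 = -T.w 0 := h.2
      rw [h2] at e
      nlinarith [mul_pos (T.w_pos 0) (T.m_pos 0)]
    · exact hn
  m_pos i := T.m_pos _
  w_pos := wC_pos T h
  g_nonneg := gC_nonneg T h
  symm := Matrix.IsSymm.ext fun i j => by
    show T.a j.castSucc i.castSucc + _ = T.a i.castSucc j.castSucc + _
    rw [a_symm T j.castSucc, ← w_mul_tq T h i, ← w_mul_tq T h j]
    ring
  offDiag_nonneg i j hij := add_nonneg (T.offDiag_nonneg _ _ fun e => hij (Fin.castSucc_injective n e))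
    (mul_nonneg (a_last T h i) (tq_nonneg T h j))
  connected := by
    intro I hI hne
    by_contra hcon
    push Not at hcon
    obtain ⟨j0, hj0⟩ : ∃ j, j ∉ I := by
      by_contra hh; push Not at hh; exact hne (eq_univ_of_forall hh)
    have hz : ∀ i ∈ I, ∀ j ∉ I, T.a i.castSucc j.castSucc = 0 ∧
        (T.a i.castSucc (Fin.last n) = 0 ∨ tq T h j = 0) := by
      intro i hi j hj
      have e := hcon i hi j hj
      have h1 := T.offDiag_nonneg i.castSucc j.castSucc (fun e => hj (Fin.castSucc_injective n e ▸ hi))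
      have h2 := mul_nonneg (a_last T h i) (tq_nonneg T h j)
      exact ⟨by omega, mul_eq_zero.1 (by omega)⟩
    by_cases hl : ∃ i ∈ I, T.a i.castSucc (Fin.last n) ≠ 0
    · obtain ⟨i0, hi0, hl⟩ := hl
      let J : Finset (Fin (n + 1)) := insert (Fin.last n) (I.map Fin.castSuccEmb)
      obtain ⟨x, hx, y, hy, hxy⟩ := T.connected J ⟨_, mem_insert_self _ _⟩ (fun e => hj0 (by
        have : j0.castSucc ∈ J := e ▸ mem_univ _
        simpa [J, (Fin.castSucc_lt_last j0).ne] using this))
      induction y using Fin.lastCases with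
      | last => exact hy (mem_insert_self _ _)
      | cast j =>
        have hj : j ∉ I := fun hj => hy (mem_insert_of_mem (by simpa using hj))
        rcases mem_insert.1 hx with rfl | hx
        · rw [a_symm T, ← w_mul_tq T h, (hz i0 hi0 j hj).2.resolve_left hl, mul_zero] at hxy
          exact hxy rfl
        · obtain ⟨i, hi, rfl⟩ := mem_map.1 hx
          exact hxy (hz i hi j hj).1
    · push Not at hl
      obtain ⟨x, hx, y, hy, hxy⟩ := T.connected (I.map Fin.castSuccEmb) (hI.map)
        (fun e => by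
          have : Fin.last n ∈ I.map Fin.castSuccEmb := e ▸ mem_univ _
          obtain ⟨i, -, hi⟩ := mem_map.1 this
          exact (Fin.castSucc_lt_last i).ne hi)
      obtain ⟨i, hi, rfl⟩ := mem_map.1 hx
      induction y using Fin.lastCases with
      | last => exact hxy (hl i hi)
      | cast j => exact hxy (hz i hi j (fun hj => hy (mem_map.2 ⟨j, hj, rfl⟩))).1
  mulVec_m := by
    funext i
    show ∑ j, (T.a i.castSucc j.castSucc + T.a i.castSucc (Fin.last n) * tq T h j) * T.m j.castSucc = 0
    have e := row_sum T i.castSucc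
    rw [Fin.sum_univ_castSucc, ← sum_tq T h] at e
    simp only [add_mul, sum_add_distrib, mul_assoc, ← Finset.mul_sum]
    exact e
  w_dvd i j := dvd_add ((wC_dvd T h i).trans (T.w_dvd _ _))
    (dvd_mul_of_dvd_left ((wC_dvd T h i).trans (T.w_dvd _ _)) _)

lemma isContraction_contraction : T.IsContraction (contraction T h) :=
  ⟨fun _ => rfl, fun i j => (contract_a T h i j).symm, fun _ => rfl, fun _ => rfl⟩

variable (T' : NumericalType n) (hT' : T.IsContraction T')
include hT'

lemma isContraction_a (i j : Fin n) :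
    T'.a i j = T.a i.castSucc j.castSucc + T.a i.castSucc (Fin.last n) * tq T h j :=
  (hT'.2.1 i j).trans (contract_a T h i j)

lemma isContraction_w (i : Fin n) : T'.w i = wC T h i := hT'.2.2.1 i

lemma isContraction_g (i : Fin n) : T'.g i = gC T h i := by
  rw [hT'.2.2.2 i, isContraction_w T h T' hT' i]; rfl

lemma isContraction_genus : T'.genus = T.genus := by
  have h1 := two_mul_genus_sub_two T'
  have h2 := two_mul_genus_sub_two T
  have hl : contr T (Fin.last n) = -(T.m (Fin.last n) * T.w (Fin.last n)) := by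
    unfold contr; rw [h.1, h.2]; ring
  have hs : ∑ i : Fin n, T.m i.castSucc * T.a i.castSucc (Fin.last n) = T.m (Fin.last n) * T.w (Fin.last n) := by
    rw [← sum_tq T h, Finset.sum_mul]
    exact sum_congr rfl fun i _ => by rw [← w_mul_tq T h i]; ring
  have hi : ∀ i : Fin n, contr T' i = contr T i.castSucc - T.m i.castSucc * T.a i.castSucc (Fin.last n) := by
    intro i
    unfold contr
    rw [hT'.1 i, isContraction_a T h T' hT', isContraction_w T h T' hT', isContraction_g T h T' hT']
    linear_combination T.m i.castSucc * two_wC_mul_gC T h i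
  rw [Fin.sum_univ_castSucc, hl] at h2
  rw [sum_congr rfl fun i _ => hi i, sum_sub_distrib, hs] at h1
  omega

lemma isContraction_pic : ∃ f : T.Pic →+ T'.Pic, Function.Injective f ∧ ∀ y : T'.Pic, ∃ x : T.Pic, 2 • y = f x := by
  have hw := isContraction_w T h T' hT'
  let r : Fin n → ℤ := fun i => T.w i.castSucc / wC T h i
  have hr : ∀ i, wC T h i * r i = T.w i.castSucc := fun i => Int.mul_ediv_cancel' (wC_dvd T h i)
  let q : Fin n → ℤ := fun i => r i * sq T h i
  have hq : ∀ i, wC T h i * q i = T.a i.castSucc (Fin.last n) := fun i => by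
    simp only [q]; rw [← mul_assoc, hr, w_mul_sq]
  let F : (Fin (n + 1) → ℤ) →ₗ[ℤ] (Fin n → ℤ) :=
    { toFun := fun x i => r i * x i.castSucc + q i * x (Fin.last n)
      map_add' := fun x y => funext fun i => by simp only [Pi.add_apply]; ring
      map_smul' := fun c x => funext fun i => by simp only [Pi.smul_apply, smul_eq_mul, RingHom.id_apply]; ring }
  have hF : ∀ x i, T'.w i * F x i = T.w i.castSucc * x i.castSucc + T.a i.castSucc (Fin.last n) * x (Fin.last n) := by
    intro x i
    show T'.w i * (r i * x i.castSucc + q i * x (Fin.last n)) = _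
    rw [hw]
    linear_combination x i.castSucc * hr i + x (Fin.last n) * hq i
  have hwl := T.w_pos (Fin.last n)
  have hla : ∀ z : Fin n → ℤ, ∑ j, T.a (Fin.last n) j.castSucc * z j = T.w (Fin.last n) * ∑ j, tq T h j * z j := by
    intro z
    rw [Finset.mul_sum]
    exact sum_congr rfl fun j _ => by rw [a_symm T, ← w_mul_tq T h]; ring
  have hrow : ∀ (z : Fin n → ℤ) i, ∑ j, T'.a i j * z j =
      ∑ j, T.a i.castSucc j.castSucc * z j + T.a i.castSucc (Fin.last n) * ∑ j, tq T h j * z j := by
    intro z i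
    simp only [isContraction_a T h T' hT', add_mul, sum_add_distrib, Finset.mul_sum, mul_assoc]
  have hwell : LinearMap.range (Matrix.mulVecLin T.picMatrix) ≤
      (LinearMap.range (Matrix.mulVecLin T'.picMatrix)).comap F := by
    intro x hx
    obtain ⟨Z, hZ⟩ := (picRange_iff T x).1 hx
    refine (picRange_iff T' _).2 ⟨fun j => Z j.castSucc, fun i => ?_⟩
    have e1 := hZ i.castSucc
    have e2 := hZ (Fin.last n)
    rw [Fin.sum_univ_castSucc, h.2, hla] at e2
    rw [Fin.sum_univ_castSucc] at e1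
    have e3 : x (Fin.last n) = (∑ j, tq T h j * Z j.castSucc) - Z (Fin.last n) :=
      mul_left_cancel₀ hwl.ne' (by linear_combination e2)
    rw [hF, hrow, e3]
    linear_combination e1
  refine ⟨(Submodule.mapQ _ _ F hwell).toAddMonoidHom, (injective_iff_map_eq_zero _).2 fun y hy => ?_, fun y => ?_⟩
  · induction y using Submodule.Quotient.induction_on with
    | H x =>
      obtain ⟨z, hz⟩ := (picRange_iff T' _).1 ((Submodule.Quotient.mk_eq_zero _).1 hy)
      refine (Submodule.Quotient.mk_eq_zero _).2 ((picRange_iff T x).2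
        ⟨Fin.snoc z ((∑ j, tq T h j * z j) - x (Fin.last n)), fun i => ?_⟩)
      rw [Fin.sum_univ_castSucc]
      simp only [Fin.snoc_castSucc, Fin.snoc_last]
      induction i using Fin.lastCases with
      | last => rw [h.2, hla]; ring
      | cast i =>
        have e := hz i
        rw [hF, hrow] at e
        linear_combination e
  · induction y using Submodule.Quotient.induction_on with
    | H y =>
      let z : Fin (n + 1) → ℤ := Fin.snoc (fun i => if r i = 1 then 2 * y i else y i) 0
      refine ⟨Submodule.Quotient.mk z, ?_⟩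
      rw [← Submodule.Quotient.mk_smul]
      refine congrArg Submodule.Quotient.mk (funext fun i => ?_)
      show (2 • y) i = r i * z i.castSucc + q i * z (Fin.last n)
      simp only [z]
      simp only [Fin.snoc_castSucc, Fin.snoc_last, mul_zero, add_zero, Pi.smul_apply, nsmul_eq_mul,
        Nat.cast_ofNat]
      have hw' := wC_pos T h i
      rcases wC_cases T h i with ⟨e, -⟩ | ⟨e, -⟩
      · have : r i = 1 := mul_left_cancel₀ hw'.ne' (by rw [hr, mul_one, e])
        simp [this]
      · have : r i = 2 := mul_left_cancel₀ hw'.ne' (by rw [hr, e]; ring)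
        simp [this]

end Groth.Agent.NumType
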