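import Groth.Agent.Lib.NumType.Genus
import Mathlib.Tactic.FinCases
import Mathlib.Algebra.Order.BigOperators.Group.Finset

/-! Affine Dynkin diagrams inside the set of `(-2)`-indices of a numerical type. -/

namespace Groth.Agent.NumType

open Finset Models

variable {n : ℕ} (T : NumericalType n)

/-- The edge between `i` and `j` has strength at least `e`. -/
def Str (e : ℕ) (i j : Fin n) : Prop :=
  0 < T.a i j ∧ (e : ℤ) * (T.w i * T.w j) ≤ T.a i j ^ 2

/-- A simply laced edge. -/
def Simple (i j : Fin n) : Prop := T.a i j = T.w i ∧ T.w j = T.w i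

variable {T}

lemma Str.symm {e : ℕ} {i j : Fin n} (h : Str T e i j) : Str T e j i :=
  ⟨a_symm T i j ▸ h.1, by rw [← a_symm T i j, mul_comm (T.w j)]; exact h.2⟩

lemma str_one {i j : Fin n} (h : 0 < T.a i j) : Str T 1 i j := ⟨h, by
  have := w_le_left T h; have := w_le_right T h; have := T.w_pos i; have := T.w_pos j
  push_cast; nlinarith⟩

lemma Simple.symm {i j : Fin n} (h : Simple T i j) : Simple T j i :=
  ⟨by rw [← a_symm T i j, h.1, h.2], h.2.symm⟩

variable (T) in
lemma exists_mul (i j : Fin n) (h : 0 < T.a i j) : ∃ k l : ℤ, 0 < k ∧ 0 < l ∧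
    T.a i j = k * T.w i ∧ T.a i j = l * T.w j := by
  obtain ⟨k, hk⟩ := T.w_dvd i j
  obtain ⟨l, hl⟩ := T.w_dvd j i
  rw [← a_symm T i j] at hl
  have := T.w_pos i
  have := T.w_pos j
  exact ⟨k, l, by nlinarith, by nlinarith, by rw [hk]; ring, by rw [hl]; ring⟩

lemma simple_or_str_two {i j : Fin n} (h : 0 < T.a i j) : Simple T i j ∨ Str T 2 i j := by
  obtain ⟨k, l, hk, hl, e1, e2⟩ := exists_mul T i j h
  have hsq : T.a i j ^ 2 = (k * l) * (T.w i * T.w j) := by
    rw [pow_two]; nth_rewrite 2 [e2]; rw [e1]; ring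
  rcases eq_or_lt_of_le (show 1 ≤ k * l from Int.mul_pos hk hl) with h1 | h1
  · have k1 := Int.eq_one_of_mul_eq_one_right hk.le h1.symm
    have l1 := Int.eq_one_of_mul_eq_one_left hl.le h1.symm
    rw [k1, one_mul] at e1
    rw [l1, one_mul] at e2
    exact Or.inl ⟨e1, e2 ▸ e1 ▸ rfl⟩
  · refine Or.inr ⟨h, ?_⟩
    rw [hsq]
    exact mul_le_mul_of_nonneg_right (by exact_mod_cast h1) (mul_nonneg (T.w_pos i).le (T.w_pos j).le)

lemma IsMinusTwo.row_le {i : Fin n} (hi : T.IsMinusTwo i) (S : Finset (Fin n)) (hS : i ∉ S) :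
    ∑ j ∈ S, T.a i j * T.m j ≤ 2 * T.w i * T.m i := by
  have : ∑ j ∈ S, T.a i j * T.m j ≤ ∑ j ∈ univ.erase i, T.a i j * T.m j :=
    sum_le_sum_of_subset_of_nonneg (fun j hj => mem_erase.2 ⟨fun e => hS (e ▸ hj), mem_univ _⟩)
      fun j hj _ => mul_nonneg (T.offDiag_nonneg i j (ne_of_mem_erase hj).symm) (T.m_pos j).le
  rw [row_sum_erase, hi.2] at this
  linarith

variable (T) in
/-- `√(w i)`. -/
noncomputable def sw (i : Fin n) : ℝ := Real.sqrt (T.w i)

lemma sw_pos (i : Fin n) : 0 < sw T i := Real.sqrt_pos.2 (by exact_mod_cast T.w_pos i)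

lemma sw_sq (i : Fin n) : sw T i * sw T i = T.w i :=
  Real.mul_self_sqrt (by exact_mod_cast (T.w_pos i).le)

lemma Str.le_real {e : ℕ} {i j : Fin n} (h : Str T e i j) :
    Real.sqrt e * (sw T i * sw T j) ≤ T.a i j := by
  rw [sw, sw, ← Real.sqrt_mul (by exact_mod_cast (T.w_pos i).le),
    ← Real.sqrt_mul (Nat.cast_nonneg e), Real.sqrt_le_iff]
  exact ⟨by exact_mod_cast h.1.le, by exact_mod_cast h.2⟩

lemma mul_eq_of_sqrt_eq {e : ℕ} {i j : Fin n}
    (h : (T.a i j : ℝ) = Real.sqrt e * (sw T i * sw T j)) :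
    T.a i j ^ 2 = (e : ℤ) * (T.w i * T.w j) := by
  have h2 : (T.a i j : ℝ) ^ 2 = (e : ℝ) * ((T.w i : ℝ) * T.w j) := by
    rw [h, ← sw_sq (T := T) i, ← sw_sq (T := T) j, mul_pow, Real.sq_sqrt (Nat.cast_nonneg e)]
    ring
  exact_mod_cast h2

/-- The fundamental dichotomy: a configuration of `(-2)`-indices dominated by a weighted diagram
with a positive vector `c` with `2 c ≤ K c` exhausts all indices and is that diagram. -/
theorem diagram {ι : Type*} [Fintype ι] [DecidableEq ι] (v : ι → Fin n) (hinj : Function.Injective v)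
    (hne : Nonempty ι) (hv : ∀ i, T.IsMinusTwo (v i)) (E : ι → ι → ℕ) (hE : ∀ i, E i i = 0)
    (hstr : ∀ i j, E i j ≠ 0 → Str T (E i j) (v i) (v j))
    (c : ι → ℝ) (hc : ∀ i, 0 < c i) (h2 : ∀ i, 2 * c i ≤ ∑ j, Real.sqrt (E i j) * c j) :
    Function.Surjective v ∧ (∀ i j, i ≠ j → T.a (v i) (v j) ^ 2 = (E i j : ℤ) * (T.w (v i) * T.w (v j))) ∧
      ∃ q : ℝ, ∀ i, c i = q * ((T.m (v i) : ℝ) * sw T (v i)) := by
  classical
  let y : ι → ℝ := fun i => c i / sw T (v i)
  let x : Fin n → ℝ := fun l => ∑ i, if v i = l then y i else 0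
  have hx : ∀ i, x (v i) = y i := fun i => by
    simp only [x]
    rw [sum_eq_single i (fun j _ hj => if_neg fun e => hj (hinj e)) (by simp)]
    simp
  have hx0 : ∀ l, (∀ i, v i ≠ l) → x l = 0 := fun l hl => sum_eq_zero fun i _ => if_neg (hl i)
  have hq : dotProduct x ((aR T).mulVec x) = ∑ i, ∑ j, y i * ((T.a (v i) (v j) : ℝ) * y j) := by
    have e1 : ∀ l, (aR T).mulVec x l = ∑ j, (T.a l (v j) : ℝ) * y j := fun l => by
      simp only [Matrix.mulVec, dotProduct, x, Finset.mul_sum, mul_ite, mul_zero, aR_apply]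
      rw [sum_comm]
      simp
    simp only [dotProduct, e1, x, Finset.sum_mul, ite_mul, zero_mul, Finset.mul_sum]
    conv_lhs => rw [sum_comm]
    refine sum_congr rfl fun i _ => ?_
    rw [sum_comm]
    simp
    refine sum_congr rfl fun j _ => ?_
    rw [a_symm T (v j) (v i)]
    ring
  let K : ι → ι → ℝ := fun i j => if i = j then -2 else Real.sqrt (E i j)
  have hK : ∀ i j, c i * (K i j * c j) ≤ y i * ((T.a (v i) (v j) : ℝ) * y j) := fun i j => by
    have hi := sw_pos (T := T) (v i)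
    have hj := sw_pos (T := T) (v j)
    have ei : c i = y i * sw T (v i) := (div_mul_cancel₀ _ hi.ne').symm
    have ej : c j = y j * sw T (v j) := (div_mul_cancel₀ _ hj.ne').symm
    have hyi : 0 < y i := div_pos (hc i) hi
    have hyj : 0 < y j := div_pos (hc j) hj
    rw [ei, ej]
    have key : K i j * (sw T (v i) * sw T (v j)) ≤ (T.a (v i) (v j) : ℝ) := by
      simp only [K]
      by_cases hij : i = j
      · subst hij
        rw [if_pos rfl, sw_sq, (hv i).2]
        push_cast
        rfl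
      · rw [if_neg hij]
        by_cases h0 : E i j = 0
        · simp only [h0, Nat.cast_zero, Real.sqrt_zero, zero_mul]
          exact_mod_cast T.offDiag_nonneg _ _ fun e => hij (hinj e)
        · exact (hstr i j h0).le_real
    calc y i * sw T (v i) * (K i j * (y j * sw T (v j)))
        = y i * y j * (K i j * (sw T (v i) * sw T (v j))) := by ring
      _ ≤ y i * y j * (T.a (v i) (v j) : ℝ) := mul_le_mul_of_nonneg_left key (mul_pos hyi hyj).le
      _ = _ := by ring
  have hlow : 0 ≤ ∑ i, ∑ j, c i * (K i j * c j) := by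
    refine sum_nonneg fun i _ => ?_
    rw [← Finset.mul_sum]
    refine mul_nonneg (hc i).le ?_
    have : ∑ j, K i j * c j = ∑ j, Real.sqrt (E i j) * c j + ∑ j, (if i = j then -2 * c j else 0) := by
      rw [← sum_add_distrib]
      refine sum_congr rfl fun j _ => ?_
      simp only [K]
      by_cases hij : i = j
      · subst hij; simp [hE]
      · simp [hij]
    rw [this, sum_ite_eq, if_pos (mem_univ _)]
    linarith [h2 i]
  have hle : ∑ i, ∑ j, c i * (K i j * c j) ≤ dotProduct x ((aR T).mulVec x) := by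
    rw [hq]; exact sum_le_sum fun i _ => sum_le_sum fun j _ => hK i j
  obtain ⟨q, hqm⟩ := aR_exists_smul T x (hlow.trans hle)
  have hzero : dotProduct x ((aR T).mulVec x) = 0 := by
    rw [hqm, Matrix.mulVec_smul, aR_mulVec_m]; simp
  obtain ⟨i0⟩ := hne
  have hq0 : q ≠ 0 := fun h => by
    have : x (v i0) = 0 := by rw [hqm, h]; simp
    rw [hx] at this
    exact (div_pos (hc i0) (sw_pos _)).ne' this
  refine ⟨fun l => ?_, fun i j hij => ?_, q, fun i => ?_⟩
  · by_contra hl
    push Not at hl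
    have := hx0 l hl
    rw [hqm] at this
    simp only [Pi.smul_apply, smul_eq_mul, mul_eq_zero, hq0, Int.cast_eq_zero, false_or] at this
    exact (T.m_pos l).ne' this
  · refine mul_eq_of_sqrt_eq ?_
    have hs : ∀ i', ∑ j', c i' * (K i' j' * c j') = ∑ j', y i' * ((T.a (v i') (v j') : ℝ) * y j') := by
      intro i'
      refine (sum_eq_sum_iff_of_le (s := univ) fun i _ => sum_le_sum fun j _ => hK i j).1 ?_ i' (mem_univ _)
      rw [← hq]; linarith
    have he := (sum_eq_sum_iff_of_le (s := univ) fun j _ => hK i j).1 (hs i) j (mem_univ _)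
    have hi := sw_pos (T := T) (v i)
    have hj := sw_pos (T := T) (v j)
    have := hc i
    have := hc j
    simp only [y, K, if_neg hij] at he
    field_simp at he
    linarith
  · have : x (v i) = q * (T.m (v i) : ℝ) := by rw [hqm]; simp
    rw [hx, div_eq_iff (sw_pos _).ne'] at this
    rw [this]; ring

/-- A weighted diagram with `2 c ≤ K c` does not fit into a proper subset. -/
theorem diagram_false {ι : Type*} [Fintype ι] [DecidableEq ι] (v : ι → Fin n) (hinj : Function.Injective v)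
    (hne : Nonempty ι) (hcard : Fintype.card ι < n) (hv : ∀ i, T.IsMinusTwo (v i))
    (E : ι → ι → ℕ) (hE : ∀ i, E i i = 0) (hstr : ∀ i j, E i j ≠ 0 → Str T (E i j) (v i) (v j))
    (c : ι → ℝ) (hc : ∀ i, 0 < c i) (h2 : ∀ i, 2 * c i ≤ ∑ j, Real.sqrt (E i j) * c j) : False := by
  have h := Fintype.card_le_of_surjective v (diagram v hinj hne hv E hE hstr c hc h2).1
  rw [Fintype.card_fin] at h
  omega

end Groth.Agent.NumType
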