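import Groth.Agent.Lib.NumType.Chain
import Mathlib.Data.Nat.Find
import Mathlib.Tactic.LinearCombination

/-! A numerical type consisting of `(-2)`-indices contains an affine Dynkin diagram. -/

namespace Groth.Agent.NumType

open Finset Models

variable {n : ℕ} {T : NumericalType n}

/-- The cycle. -/
def rA (N : ℕ) (i j : ℕ) : ℕ := if j = i + 1 ∨ (i = 0 ∧ j + 1 = N) then 1 else 0

lemma cA_le (N : ℕ) (hN : 3 ≤ N) (i : Fin N) :
    2 * (1 : ℝ) ≤ ∑ j, Real.sqrt (symE (rA N) i j) * 1 := by
  have hf : ∀ j, 0 ≤ Real.sqrt (symE (rA N) i j) * 1 := fun j => mul_nonneg (Real.sqrt_nonneg _) zero_le_one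
  obtain ⟨i, hi⟩ := i
  by_cases h0 : i = 0
  · subst h0
    refine two_terms hf ⟨1, by omega⟩ ⟨N - 1, by omega⟩ (by simp <;> omega) ?_
    have e1 : symE (rA N) (⟨0, hi⟩ : Fin N) ⟨1, by omega⟩ = 1 := by simp [symE, rA]
    have e2 : symE (rA N) (⟨0, hi⟩ : Fin N) ⟨N - 1, by omega⟩ = 1 := by simp only [symE, rA]; split_ifs <;> (try simp at *) <;> omega
    rw [e1, e2]; norm_num
  · by_cases hl : i + 1 = N
    · refine two_terms hf ⟨0, by omega⟩ ⟨i - 1, by omega⟩ (by simp <;> omega) ?_
      have e1 : symE (rA N) (⟨i, hi⟩ : Fin N) ⟨0, by omega⟩ = 1 := by simp only [symE, rA]; split_ifs <;> (try simp at *) <;> omega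
      have e2 : symE (rA N) (⟨i, hi⟩ : Fin N) ⟨i - 1, by omega⟩ = 1 := by simp only [symE, rA]; split_ifs <;> (try simp at *) <;> omega
      rw [e1, e2]; norm_num
    · refine two_terms hf ⟨i - 1, by omega⟩ ⟨i + 1, by omega⟩ (by simp <;> omega) ?_
      have e1 : symE (rA N) (⟨i, hi⟩ : Fin N) ⟨i - 1, by omega⟩ = 1 := by simp only [symE, rA]; split_ifs <;> (try simp at *) <;> omega
      have e2 : symE (rA N) (⟨i, hi⟩ : Fin N) ⟨i + 1, by omega⟩ = 1 := by simp [symE, rA]
      rw [e1, e2]; norm_num

variable (T) in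
/-- The diagram `R` on `N` vertices occurs in `T`. -/
def Occurs (N : ℕ) (R : ℕ → ℕ → ℕ) : Prop :=
  ∃ v : Fin N → Fin n, Function.Injective v ∧
    ∀ i j : Fin N, i.val < j.val → R i.val j.val ≠ 0 → Str T (R i.val j.val) (v i) (v j)

variable (T) in
/-- The diagram `R` with squared null vector `d` is all of `T`. -/
def Fills (R : ℕ → ℕ → ℕ) (d : ℕ → ℤ) : Prop :=
  ∃ σ : Equiv.Perm (Fin n),
    (∀ i j : Fin n, i.val < j.val → T.a (σ i) (σ j) ^ 2 = (R i.val j.val : ℤ) * (T.w (σ i) * T.w (σ j))) ∧
    ∀ i j : Fin n, d j.val * (T.m (σ i) ^ 2 * T.w (σ i)) = d i.val * (T.m (σ j) ^ 2 * T.w (σ j))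

lemma Occurs.fills {N : ℕ} {R : ℕ → ℕ → ℕ} (h : Occurs T N R) (hall : ∀ i, T.IsMinusTwo i)
    (hN : 0 < N) (c : Fin N → ℝ) (hc : ∀ i, 0 < c i)
    (h2 : ∀ i, 2 * c i ≤ ∑ j, Real.sqrt (symE R i j) * c j) (d : ℕ → ℤ)
    (hd : ∀ i : Fin N, c i * c i = d i.val) : N = n ∧ Fills T R d := by
  obtain ⟨v, hinj, hstr⟩ := h
  obtain ⟨hsurj, hex, q, hq⟩ := diagram v hinj ⟨⟨0, hN⟩⟩ (fun i => hall _) (symE R) (symE_self R)
    (str_symE R v hstr) c hc h2
  obtain rfl : N = n := by
    simpa using le_antisymm (Fintype.card_le_of_injective v hinj) (Fintype.card_le_of_surjective v hsurj)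
  refine ⟨rfl, Equiv.ofBijective v ⟨hinj, hsurj⟩, fun i j hij => ?_, fun i j => ?_⟩
  · have := hex i j (fun e => hij.ne (congrArg Fin.val e))
    rwa [symE, if_pos hij] at this
  · have hsq : ∀ k, (d k.val : ℝ) = q * q * ((T.m (v k) : ℝ) ^ 2 * T.w (v k)) := fun k => by
      rw [← hd k, hq k, ← sw_sq (T := T) (v k)]; ring
    have : (d j.val : ℝ) * ((T.m (v i) : ℝ) ^ 2 * T.w (v i)) = d i.val * ((T.m (v j) : ℝ) ^ 2 * T.w (v j)) := by
      rw [hsq, hsq]; ring
    exact_mod_cast this

variable (T) in
/-- A simple path with `L + 1` vertices in the dual graph. -/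
def IsPath (L : ℕ) (p : ℕ → Fin n) : Prop :=
  (∀ i j, i ≤ L → j ≤ L → p i = p j → i = j) ∧ ∀ i < L, 0 < T.a (p i) (p (i + 1))

lemma IsPath.lt {L : ℕ} {p : ℕ → Fin n} (h : IsPath T L p) : L < n := by
  have := Fintype.card_le_of_injective (fun i : Fin (L + 1) => p i.val)
    (fun a b e => Fin.ext (h.1 _ _ (by omega) (by omega) e))
  simp at this
  omega

lemma IsPath.rev {L : ℕ} {p : ℕ → Fin n} (h : IsPath T L p) : IsPath T L (fun i => p (L - i)) := by
  refine ⟨fun i j hi hj e => ?_, fun i hi => ?_⟩
  · have := h.1 _ _ (by omega) (by omega) e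
    omega
  · rw [a_symm T]
    have := h.2 (L - (i + 1)) (by omega)
    rwa [show L - (i + 1) + 1 = L - i by omega] at this

variable (T) in
lemma exists_longest : ∃ L p, IsPath T L p ∧ ∀ L' p', IsPath T L' p' → L' ≤ L := by
  classical
  let P : ℕ → Prop := fun L => ∃ p, IsPath T L p
  have h0 : P 0 := ⟨fun _ => ⟨0, T.pos⟩, fun i j hi hj _ => by omega, fun i hi => absurd hi (by omega)⟩
  obtain ⟨p, hp⟩ := Nat.findGreatest_spec (P := P) (Nat.zero_le n) h0
  exact ⟨_, p, hp, fun L' p' h' => Nat.le_findGreatest (by have := h'.lt; omega) ⟨p', h'⟩⟩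

lemma rE6_cases {a b : ℕ} (hab : a < b) (hR : rE6 a b ≠ 0) :
    rE6 a b = 1 ∧ ((a = 0 ∧ b = 1) ∨ (a = 1 ∧ b = 2) ∨ (a = 3 ∧ b = 4) ∨ (a = 2 ∧ b = 4) ∨
      (a = 5 ∧ b = 6) ∨ (a = 2 ∧ b = 6)) := by
  unfold rE6 at hR ⊢
  simp only [edgesR] at hR ⊢
  split_ifs at hR ⊢ <;> omega

lemma rB_cases {t a b : ℕ} (hab : a < b) (hR : rB t a b ≠ 0) :
    (rB t a b = 2 ∧ a + 1 = t ∧ b = t) ∨
      (rB t a b = 1 ∧ ((a = 0 ∧ b = 2) ∨ (1 ≤ a ∧ b = a + 1 ∧ b < t))) := by
  unfold rB at hR ⊢
  split_ifs at hR ⊢ <;> omega

lemma rE8_cases {a b : ℕ} (hab : a < b) (hR : rE8 a b ≠ 0) :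
    rE8 a b = 1 ∧ ((b = a + 1 ∧ b < 8) ∨ (a = 5 ∧ b = 8)) := by
  unfold rE8 at hR ⊢
  simp only [edgesR] at hR ⊢
  split_ifs at hR ⊢ <;> omega

lemma rE7_cases {a b : ℕ} (hab : a < b) (hR : rE7 a b ≠ 0) :
    rE7 a b = 1 ∧ ((b = a + 1 ∧ b < 7) ∨ (a = 3 ∧ b = 7)) := by
  unfold rE7 at hR ⊢
  simp only [edgesR] at hR ⊢
  split_ifs at hR ⊢ <;> omega

variable (T) in
/-- Some affine diagram occurs. -/
def HasDiagram : Prop :=
  (∃ N, 3 ≤ N ∧ Occurs T N (rA N)) ∨ (∃ t, 2 ≤ t ∧ Occurs T (t + 1) (rC t)) ∨
  (∃ t, 3 ≤ t ∧ Occurs T (t + 1) (rB t)) ∨ (∃ t, 3 ≤ t ∧ Occurs T (t + 2) (rD t)) ∨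
  Occurs T 7 rE6 ∨ Occurs T 8 rE7 ∨ Occurs T 9 rE8 ∨ Occurs T 5 rF4 ∨ Occurs T 3 rG2

/-- A chord of a path gives a cycle. -/
lemma hasDiagram_of_chord {L : ℕ} {p : ℕ → Fin n} (hp : IsPath T L p) {i j : ℕ} (hij : i + 1 < j)
    (hj : j ≤ L) (h : 0 < T.a (p i) (p j)) : HasDiagram T := by
  refine Or.inl ⟨j - i + 1, by omega, fun k => p (i + k.val), fun a b e => Fin.ext ?_, fun a b hab hR => ?_⟩
  · have := hp.1 _ _ (by omega) (by omega) e
    omega
  · have hR' : rA (j - i + 1) a.val b.val = 1 := by unfold rA at hR ⊢; split_ifs at hR ⊢ <;> omega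
    rw [hR']
    refine str_one ?_
    beta_reduce
    unfold rA at hR
    split_ifs at hR with h'
    · rcases h' with h' | ⟨h1, h2⟩
      · rw [h', ← add_assoc]; exact hp.2 _ (by omega)
      · rw [h1, add_zero, show i + b.val = j by omega]; exact h
    · omega

variable (hall : ∀ i, T.IsMinusTwo i)
include hall

lemma row_eq (i : Fin n) (S : Finset (Fin n)) (hS : i ∉ S) (h0 : ∀ j, j ≠ i → j ∉ S → T.a i j = 0) :
    ∑ j ∈ S, T.a i j * T.m j = 2 * T.w i * T.m i := by
  have h : ∑ j ∈ S, T.a i j * T.m j = ∑ j ∈ univ.erase i, T.a i j * T.m j :=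
    sum_subset (fun j hj => mem_erase.2 ⟨fun e => hS (e ▸ hj), mem_univ _⟩)
      fun j hj hjS => by rw [h0 j (ne_of_mem_erase hj) hjS, zero_mul]
  rw [h, row_sum_erase, (hall i).2]
  ring

omit hall in
/-- The row equations of a chain with at most one double edge, at an end, are inconsistent. -/
lemma chain_linear_false {L : ℕ} {q : ℕ → Fin n} (hL : 2 ≤ L)
    (hqs : ∀ k, k + 1 < L → Simple T (q k) (q (k + 1)))
    (hqd : ∀ k < L, Simple T (q k) (q (k + 1)) ∨ Double (q k) (q (k + 1)) T)
    (hq0 : 2 * T.w (q 0) * T.m (q 0) = T.a (q 0) (q 1) * T.m (q 1))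
    (hqk : ∀ k, 0 < k → k < L → 2 * T.w (q k) * T.m (q k) =
      T.a (q (k - 1)) (q k) * T.m (q (k - 1)) + T.a (q k) (q (k + 1)) * T.m (q (k + 1)))
    (hend : 2 * T.w (q L) * T.m (q L) = T.a (q (L - 1)) (q L) * T.m (q (L - 1))) : False := by
  have hw : ∀ k, k + 1 ≤ L → T.w (q k) = T.w (q 0) := by
    intro k
    induction k with
    | zero => intro _; rfl
    | succ k ih => intro hk; rw [(hqs k (by omega)).2, ih (by omega)]
  have hm : ∀ k, k + 1 ≤ L → T.m (q k) = (k + 1) * T.m (q 0) := by
    intro k
    induction k using Nat.strong_induction_on with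
    | _ k ih =>
      intro hk
      have hwp := T.w_pos (q 0)
      match k with
      | 0 => simp
      | 1 =>
        rw [(hqs 0 (by omega)).1] at hq0
        push_cast
        nlinarith
      | (j + 2) =>
        have e := hqk (j + 1) (by omega) (by omega)
        rw [show j + 1 - 1 = j by omega, show j + 1 + 1 = j + 2 from rfl, (hqs j (by omega)).1,
          (hqs (j + 1) (by omega)).1, hw j (by omega), hw (j + 1) (by omega),
          ih j (by omega) (by omega), ih (j + 1) (by omega) (by omega)] at e
        push_cast at e ⊢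
        nlinarith
  have e1 := hqk (L - 1) (by omega) (by omega)
  rw [show L - 1 - 1 = L - 2 by omega, show L - 1 + 1 = L by omega] at e1
  have s := hqs (L - 2) (by omega)
  rw [show L - 2 + 1 = L - 1 by omega] at s
  rw [s.1, hw (L - 2) (by omega), hw (L - 1) (by omega), hm (L - 2) (by omega), hm (L - 1) (by omega)] at e1
  rw [hm (L - 1) (by omega)] at hend
  have hwp := T.w_pos (q 0)
  have hmp := T.m_pos (q 0)
  have hd := hqd (L - 1) (by omega)
  rw [show L - 1 + 1 = L by omega] at hd
  have c1 : ((L - 1 : ℕ) : ℤ) = (L : ℤ) - 1 := by omega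
  have c2 : ((L - 2 : ℕ) : ℤ) = (L : ℤ) - 2 := by omega
  have hL2 : (2 : ℤ) ≤ L := by omega
  simp only [c1, c2] at e1 hend
  have hm' := T.m_pos (q L)
  rcases hd with ⟨A, W⟩ | ⟨A, W⟩ | ⟨A, W⟩
  · rw [hw (L - 1) (by omega)] at A W
    rw [A] at e1 hend
    rw [W] at hend
    have f1 : ((L : ℤ) + 1) * T.m (q 0) = T.m (q L) :=
      mul_left_cancel₀ hwp.ne' (by linear_combination e1)
    have f2 : (L : ℤ) * T.m (q 0) = 2 * T.m (q L) :=
      mul_left_cancel₀ hwp.ne' (by linear_combination -hend)
    nlinarith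
  · rw [hw (L - 1) (by omega)] at A W
    rw [A] at e1 hend
    rw [W] at hend
    have f1 : ((L : ℤ) + 1) * T.m (q 0) = 2 * T.m (q L) :=
      mul_left_cancel₀ hwp.ne' (by linear_combination e1)
    have f2 : (L : ℤ) * T.m (q 0) = 2 * T.m (q L) :=
      mul_left_cancel₀ (show (2 * T.w (q 0) : ℤ) ≠ 0 by omega) (by linear_combination -hend)
    nlinarith
  · rw [hw (L - 1) (by omega)] at A W
    rw [A] at e1 hend
    rw [W] at e1 hend
    have hw' := T.w_pos (q L)
    have f1 : ((L : ℤ) + 1) * T.m (q 0) = T.m (q L) :=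
      mul_left_cancel₀ (show (2 * T.w (q L) : ℤ) ≠ 0 by omega) (by linear_combination e1)
    have f2 : (L : ℤ) * T.m (q 0) = T.m (q L) :=
      mul_left_cancel₀ (show (2 * T.w (q L) : ℤ) ≠ 0 by omega) (by linear_combination -hend)
    nlinarith

lemma path_hasDiagram (hn : 3 ≤ n) {L : ℕ} {p : ℕ → Fin n} (hp : IsPath T L p) (hL : L + 1 = n) :
    HasDiagram T := by
  by_contra hno
  have hchord : ∀ i j, i + 1 < j → j ≤ L → T.a (p i) (p j) = 0 := fun i j hij hj => by
    by_contra hne
    exact hno (hasDiagram_of_chord hp hij hj (pos_of_ne T (fun e => by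
      have := hp.1 i j (by omega) hj e; omega) hne))
  have hcov : ∀ x : Fin n, ∃ k ≤ L, p k = x := by
    have hb : Function.Bijective (fun i : Fin (L + 1) => p i.val) :=
      (Fintype.bijective_iff_injective_and_card _).2
        ⟨fun a b e => Fin.ext (hp.1 _ _ (by omega) (by omega) e), by simpa using hL⟩
    intro x
    obtain ⟨k, hk⟩ := hb.2 x
    exact ⟨k.val, by omega, hk⟩
  -- no triple edge
  have hG : ∀ a b c, a ≤ L → c ≤ L → a ≠ c → 0 < T.a (p a) (p b) → Str T 3 (p b) (p c) → False := by
    intro a b c ha hc hac h1 h3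
    have n1 := ne_of_pos T h1
    have n2 := ne_of_pos T h3.1
    have n3 : p a ≠ p c := fun e => hac (hp.1 _ _ ha hc e)
    refine hno (Or.inr (Or.inr (Or.inr (Or.inr (Or.inr (Or.inr (Or.inr (Or.inr
      ⟨![p a, p b, p c], fun x y e => ?_, fun x y hxy hR => ?_⟩))))))))
    · fin_cases x <;> fin_cases y <;> first | rfl | simp_all
    · fin_cases x <;> fin_cases y <;> simp_all [rG2, edgesR]
      exact str_one h1
  have hedge : ∀ k < L, Simple T (p k) (p (k + 1)) ∨ Double (p k) (p (k + 1)) T := by
    intro k hk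
    rcases edge_cases (by omega) (hp.2 k hk) (hall _) (hall _) with h | h | h
    · exact Or.inl h
    · exact Or.inr h
    · exfalso
      rcases Nat.eq_zero_or_pos k with rfl | hk0
      · exact hG 2 1 0 (by omega) (by omega) (by omega) (by rw [a_symm T]; exact hp.2 1 (by omega)) h.str.symm
      · exact hG (k - 1) k (k + 1) (by omega) (by omega) (by omega)
          (by have := hp.2 (k - 1) (by omega); rwa [show k - 1 + 1 = k by omega] at this) h.str
  -- not two double edges
  have hC : ∀ a b, a < b → b < L → Simple T (p a) (p (a + 1)) ∨ Simple T (p b) (p (b + 1)) := by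
    intro a b hab hb
    by_contra hs
    push Not at hs
    refine hno (Or.inr (Or.inl ⟨b - a + 1, by omega, fun k => p (a + k.val), fun x y e => Fin.ext ?_,
      fun x y hxy hR => ?_⟩))
    · have := hp.1 _ _ (by omega) (by omega) e
      omega
    · beta_reduce
      unfold rC at hR ⊢
      split_ifs at hR ⊢ with h1 h2
      · rcases h2 with h2 | h2
        · rw [h2, add_zero, show a + y.val = a + 1 by omega]
          exact str_two_of_not_simple (hp.2 _ (by omega)) hs.1
        · rw [show a + y.val = b + 1 by omega, show a + x.val = b by omega]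
          exact str_two_of_not_simple (hp.2 _ (by omega)) hs.2
      · rw [show a + y.val = a + x.val + 1 by omega]
        exact str_one (hp.2 _ (by omega))
      · omega
  have hF : ∀ q, IsPath T L q → ∀ k, 2 ≤ k → k + 2 ≤ L → Simple T (q k) (q (k + 1)) := by
    intro q hq k h1 h2
    by_contra hs
    refine hno (Or.inr (Or.inr (Or.inr (Or.inr (Or.inr (Or.inr (Or.inr (Or.inl
      ⟨fun x => q (k - 2 + x.val), fun x y e => Fin.ext ?_, fun x y hxy hR => ?_⟩))))))))
    · have := hq.1 _ _ (by omega) (by omega) e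
      omega
    · beta_reduce
      have e : y.val = x.val + 1 := by
        unfold rF4 at hR; simp only [edgesR] at hR; split_ifs at hR <;> omega
      rw [show k - 2 + y.val = k - 2 + x.val + 1 by omega]
      by_cases hx : x.val = 2
      · rw [e, hx, show k - 2 + 2 = k by omega]
        exact str_two_of_not_simple (hq.2 k (by omega)) hs
      · have e1 : rF4 x.val y.val = 1 := by
          unfold rF4 at hR ⊢; simp only [edgesR] at hR ⊢; split_ifs at hR ⊢ <;> omega
        rw [e1]
        exact str_one (hq.2 _ (by omega))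
  -- row equations
  have hz : ∀ q, IsPath T L q → (∀ x : Fin n, ∃ k ≤ L, q k = x) → (∀ i j, i + 1 < j → j ≤ L → T.a (q i) (q j) = 0) →
      (2 * T.w (q 0) * T.m (q 0) = T.a (q 0) (q 1) * T.m (q 1)) ∧
      ∀ k, 0 < k → k < L → 2 * T.w (q k) * T.m (q k) =
        T.a (q (k - 1)) (q k) * T.m (q (k - 1)) + T.a (q k) (q (k + 1)) * T.m (q (k + 1)) := by
    intro q hq hqc hqz
    refine ⟨?_, fun k hk0 hk => ?_⟩
    · rw [← row_eq hall (q 0) {q 1} (by simpa using ne_of_pos T (hq.2 0 (by omega))) ?_, sum_singleton]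
      intro j hj hjS
      obtain ⟨l, hl, rfl⟩ := hqc j
      have hl0 : l ≠ 0 := fun e => hj (by rw [e])
      have hl1 : l ≠ 1 := fun e => hjS (by simp [e])
      exact hqz 0 l (by omega) hl
    · rw [← row_eq hall (q k) {q (k - 1), q (k + 1)} ?_ ?_, sum_pair, a_symm T (q (k - 1)) (q k)]
      · exact fun e => by have := hq.1 _ _ (by omega) (by omega) e; omega
      · simp only [mem_insert, mem_singleton]
        rintro (e | e) <;> (have := hq.1 _ _ (by omega) (by omega) e; omega)
      · intro j hj hjS
        obtain ⟨l, hl, rfl⟩ := hqc j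
        have h1 : l ≠ k := fun e => hj (by rw [e])
        have h2 : l ≠ k - 1 := fun e => hjS (by simp [e])
        have h3 : l ≠ k + 1 := fun e => hjS (by simp [e])
        rcases lt_or_gt_of_ne h1 with h | h
        · rw [a_symm T]; exact hqz l k (by omega) (by omega)
        · exact hqz k l (by omega) hl
  have hzp := hz p hp hcov hchord
  have hrcov : ∀ x : Fin n, ∃ k ≤ L, p (L - k) = x := fun x => by
    obtain ⟨k, hk, rfl⟩ := hcov x
    exact ⟨L - k, by omega, by rw [show L - (L - k) = k by omega]⟩
  have hrz : ∀ i j, i + 1 < j → j ≤ L → T.a (p (L - i)) (p (L - j)) = 0 := fun i j h1 h2 => by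
    rw [a_symm T]; exact hchord _ _ (by omega) (by omega)
  by_cases hlen : L = 3 ∧ ¬ Simple T (p 1) (p 2)
  · obtain ⟨rfl, hmid⟩ := hlen
    have s01 := (hC 0 1 (by omega) (by omega)).resolve_right hmid
    have s23 := (hC 1 2 (by omega) (by omega)).resolve_left hmid
    have d12 := (hedge 1 (by omega)).resolve_left hmid
    have e0 := hzp.1
    have e1 := hzp.2 1 (by omega) (by omega)
    have e2 := hzp.2 2 (by omega) (by omega)
    have e3 := (hz _ hp.rev hrcov hrz).1
    simp only [show (3 : ℕ) - 0 = 3 from rfl, show (3 : ℕ) - 1 = 2 from rfl, a_symm T (p 3) (p 2)] at e3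
    obtain ⟨A1, W1⟩ := s01
    obtain ⟨A3, W3⟩ := s23
    have hw := T.w_pos (p 0)
    have hw2 := T.w_pos (p 2)
    have hm := T.m_pos (p 0)
    have hm3 := T.m_pos (p 3)
    simp only [Nat.sub_self, Nat.reduceSub, Nat.reduceAdd, A1, A3, W1, W3] at e0 e1 e2 e3
    have q0 : T.m (p 1) = 2 * T.m (p 0) := by nlinarith
    have q3 : T.m (p 2) = 2 * T.m (p 3) := by nlinarith
    rcases d12 with ⟨A2, W2⟩ | ⟨A2, W2⟩
    · rw [W1] at A2 W2
      simp only [A2, W2, q0, q3] at e1 e2
      have : 3 * T.m (p 0) = 4 * T.m (p 3) := by nlinarith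
      have : 3 * T.m (p 3) = 2 * T.m (p 0) := by nlinarith
      omega
    · rw [W1] at A2 W2
      simp only [A2, q0, q3] at e1 e2
      rw [W2] at e1 e2
      have : 3 * T.m (p 0) = 2 * T.m (p 3) := by nlinarith
      have : 3 * T.m (p 3) = 4 * T.m (p 0) := by nlinarith
      omega
  -- an orientation with all edges but the last simple
  have hint : ∀ k, 0 < k → k + 1 < L → Simple T (p k) (p (k + 1)) := by
    intro k hk0 hk
    rcases (show L = 3 ∨ (2 ≤ k ∧ k + 2 ≤ L) ∨ (k = 1 ∧ 4 ≤ L) by omega) with h | h | h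
    · obtain rfl : k = 1 := by omega
      by_contra hs
      exact hlen ⟨h, hs⟩
    · exact hF p hp k h.1 h.2
    · have := hF _ hp.rev (L - (k + 1)) (by omega) (by omega)
      simp only [show L - (L - (k + 1)) = k + 1 by omega, show L - (L - (k + 1) + 1) = k by omega] at this
      exact this.symm
  obtain ⟨q, hq, hqc, hqz, hqs⟩ : ∃ q, IsPath T L q ∧ (∀ x : Fin n, ∃ k ≤ L, q k = x) ∧
      (∀ i j, i + 1 < j → j ≤ L → T.a (q i) (q j) = 0) ∧
      (∀ k, k + 1 < L → Simple T (q k) (q (k + 1))) := by
    rcases hC 0 (L - 1) (by omega) (by omega) with h | h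
    · refine ⟨p, hp, hcov, hchord, fun k hk => ?_⟩
      rcases Nat.eq_zero_or_pos k with rfl | h0
      · exact h
      · exact hint k h0 hk
    · refine ⟨fun i => p (L - i), hp.rev, hrcov, hrz, fun k hk => Simple.symm ?_⟩
      rcases Nat.eq_zero_or_pos k with rfl | h0
      · simpa [show L - 1 + 1 = L by omega] using h
      · have := hint (L - (k + 1)) (by omega) (by omega)
        rwa [show L - (k + 1) + 1 = L - k by omega] at this
  have hqd : ∀ k < L, Simple T (q k) (q (k + 1)) ∨ Double (q k) (q (k + 1)) T := by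
    intro k hk
    rcases edge_cases (by omega) (hq.2 k hk) (hall _) (hall _) with h | h | h
    · exact Or.inl h
    · exact Or.inr h
    · exfalso
      have n1 := ne_of_pos T h.str.1
      rcases Nat.eq_zero_or_pos k with rfl | hk0
      · obtain ⟨h1, h2⟩ := hqs 0 (by omega)
        have := T.w_pos (q 0)
        rcases h with ⟨h3, h4⟩ | ⟨h3, h4⟩ <;> omega
      · obtain ⟨a, ha, ea⟩ := hcov (q (k - 1))
        obtain ⟨b, -, eb⟩ := hcov (q k)
        obtain ⟨c, hc, ec⟩ := hcov (q (k + 1))
        refine hG a b c ha hc (fun e => ?_) ?_ ?_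
        · have := hq.1 (k - 1) (k + 1) (by omega) (by omega) (by rw [← ea, ← ec, e])
          omega
        · rw [ea, eb]
          have := hq.2 (k - 1) (by omega)
          rwa [show k - 1 + 1 = k by omega] at this
        · rw [eb, ec]; exact h.str
  obtain ⟨hq0, hqk⟩ := hz q hq hqc hqz
  have hend : 2 * T.w (q L) * T.m (q L) = T.a (q (L - 1)) (q L) * T.m (q (L - 1)) := by
    rw [← row_eq hall (q L) {q (L - 1)} ?_ ?_, sum_singleton, a_symm T (q L)]
    · simp only [mem_singleton]
      intro e
      have := hq.1 _ _ le_rfl (by omega) e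
      omega
    · intro j hj hjS
      obtain ⟨l, hl, rfl⟩ := hqc j
      have h1 : l ≠ L := fun e => hj (by rw [e])
      have h2 : l ≠ L - 1 := fun e => hjS (by simp [e])
      rw [a_symm T]
      exact hqz l L (by omega) le_rfl
  exact chain_linear_false (by omega) hqs hqd hq0 hqk hend

/-- A tree with one branch point and simple edges contains `Ẽ₇` or `Ẽ₈`. -/
lemma branch_hasDiagram {L r : ℕ} {q : ℕ → Fin n} {y : Fin n} (hq : IsPath T L q)
    (hqy : ∀ k ≤ L, q k ≠ y) (hqc : ∀ z, (∃ k ≤ L, q k = z) ∨ z = y) (hry : 0 < T.a (q r) y)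
    (hr0 : 0 < r) (hrle : 2 * r ≤ L) (hqs : ∀ k < L, Simple T (q k) (q (k + 1))) (hsy' : Simple T (q r) y)
    (hqz : ∀ a b, a + 1 < b → b ≤ L → T.a (q a) (q b) = 0) (hy1' : ∀ k ≤ L, k ≠ r → T.a (q k) y = 0) :
    HasDiagram T := by
  by_contra hno
  have hw : ∀ k ≤ L, T.w (q k) = T.w (q 0) := by
    intro k
    induction k with
    | zero => intro _; rfl
    | succ k ih => intro hk; rw [(hqs k (by omega)).2, ih (by omega)]
  have hwy : T.w y = T.w (q 0) := hsy'.2.trans (hw r (by omega))
  -- row equations
  have hwp := T.w_pos (q 0)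
  have hne' : ∀ a b, a ≤ L → b ≤ L → a ≠ b → q a ≠ q b := fun a b ha hb h e => h (hq.1 a b ha hb e)
  have hoff : ∀ k ≤ L, ∀ z, z ≠ q k → (k = 0 ∨ z ≠ q (k - 1)) → (k = L ∨ z ≠ q (k + 1)) → (k ≠ r ∨ z ≠ y) →
      T.a (q k) z = 0 := by
    intro k hk z h1 h2 h3 h4
    rcases hqc z with ⟨l, hl, rfl⟩ | rfl
    · have e1 : l ≠ k := fun e => h1 (by rw [e])
      rcases lt_or_gt_of_ne e1 with h | h
      · rw [a_symm T]
        refine hqz l k ?_ hk
        rcases h2 with h2 | h2
        · omega
        · have : l ≠ k - 1 := fun e => h2 (by rw [e])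
          omega
      · refine hqz k l ?_ hl
        rcases h3 with h3 | h3
        · omega
        · have : l ≠ k + 1 := fun e => h3 (by rw [e])
          omega
    · exact hy1' k hk (h4.resolve_right (fun h => h rfl))
  have hmid : ∀ k, 0 < k → k < L → k ≠ r → 2 * T.m (q k) = T.m (q (k - 1)) + T.m (q (k + 1)) := by
    intro k h0 hk hkr
    have h := row_eq hall (q k) {q (k - 1), q (k + 1)}
      (by simp only [mem_insert, mem_singleton]; rintro (e | e) <;> (have := hq.1 _ _ (by omega) (by omega) e; omega))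
      (fun z hz hzS => hoff k hk.le z hz (Or.inr fun e => hzS (by simp [e])) (Or.inr fun e => hzS (by simp [e])) (Or.inl hkr))
    have s := (hqs (k - 1) (by omega)).1
    rw [show k - 1 + 1 = k by omega] at s
    rw [sum_pair (hne' _ _ (by omega) (by omega) (by omega)), (hqs k hk).1, a_symm T (q k) (q (k - 1)), s,
      hw (k - 1) (by omega), hw k hk.le] at h
    nlinarith
  have hm0 : T.m (q 1) = 2 * T.m (q 0) := by
    have h := row_eq hall (q 0) {q 1} (by simp only [mem_singleton]; exact hne' _ _ (by omega) (by omega) (by omega))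
      (fun z hz hzS => hoff 0 (by omega) z hz (Or.inl rfl) (Or.inr fun e => hzS (by simp [e])) (Or.inl (by omega)))
    rw [sum_singleton, (hqs 0 (by omega)).1] at h
    nlinarith
  have hmL : T.m (q (L - 1)) = 2 * T.m (q L) := by
    have h := row_eq hall (q L) {q (L - 1)} (by simp only [mem_singleton]; exact hne' _ _ le_rfl (by omega) (by omega))
      (fun z hz hzS => hoff L le_rfl z hz (Or.inr fun e => hzS (by simp [e])) (Or.inl rfl) (Or.inl (by omega)))
    have s := (hqs (L - 1) (by omega)).1
    rw [show L - 1 + 1 = L by omega] at s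
    rw [sum_singleton, a_symm T (q L), s, hw (L - 1) (by omega), hw L le_rfl] at h
    nlinarith
  have hmy : T.m (q r) = 2 * T.m y := by
    have h := row_eq hall y {q r} (by simp only [mem_singleton]; exact (hqy r (by omega)).symm)
      (fun z hz hzS => by
        rcases hqc z with ⟨l, hl, rfl⟩ | rfl
        · rw [a_symm T]; exact hy1' l hl (fun e => hzS (by simp [e]))
        · exact absurd rfl hz)
    rw [sum_singleton, a_symm T y, hsy'.1, hw r (by omega), hwy] at h
    nlinarith
  have hmr : 2 * T.m (q r) = T.m (q (r - 1)) + T.m (q (r + 1)) + T.m y := by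
    have h := row_eq hall (q r) {q (r - 1), q (r + 1), y}
      (by
        simp only [mem_insert, mem_singleton]
        rintro (e | e | e)
        · have := hq.1 _ _ (by omega) (by omega) e; omega
        · have := hq.1 _ _ (by omega) (by omega) e; omega
        · exact hqy r (by omega) e)
      (fun z hz hzS => hoff r (by omega) z hz (Or.inr fun e => hzS (by simp [e])) (Or.inr fun e => hzS (by simp [e]))
        (Or.inr fun e => hzS (by simp [e])))
    have s := (hqs (r - 1) (by omega)).1
    rw [show r - 1 + 1 = r by omega] at s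
    rw [sum_insert (by simp [hne' (r - 1) (r + 1) (by omega) (by omega) (by omega), hqy (r - 1) (by omega)]),
      sum_pair (hqy (r + 1) (by omega)), (hqs r (by omega)).1, hsy'.1, a_symm T (q r) (q (r - 1)), s,
      hw (r - 1) (by omega), hw r (by omega)] at h
    nlinarith
  have hmp := T.m_pos (q 0)
  have hmpL := T.m_pos (q L)
  rcases (show r = 1 ∨ (r = 2 ∧ L < 7) ∨ (r = 2 ∧ 7 ≤ L) ∨ 3 ≤ r by omega) with h | ⟨rfl, hL7⟩ | ⟨rfl, hL7⟩ | h
  · subst h
    have hdown : ∀ j, j + 1 ≤ L → T.m (q (L - j)) = (j + 1) * T.m (q L) := by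
      intro j
      induction j using Nat.strong_induction_on with
      | _ j ih =>
        intro hj
        match j with
        | 0 => simp
        | 1 => rw [hmL]; push_cast; ring
        | (j + 2) =>
          have e := hmid (L - (j + 1)) (by omega) (by omega) (by omega)
          rw [show L - (j + 1) - 1 = L - (j + 2) by omega, show L - (j + 1) + 1 = L - j by omega,
            ih j (by omega) (by omega), ih (j + 1) (by omega) (by omega)] at e
          push_cast at e ⊢
          linarith
    have d1 := hdown (L - 1) (by omega)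
    have d2 := hdown (L - 2) (by omega)
    rw [show L - (L - 1) = 1 by omega] at d1
    rw [show L - (L - 2) = 2 by omega] at d2
    simp only [show (1 : ℕ) - 1 = 0 from rfl, show (1 : ℕ) + 1 = 2 from rfl] at hmr
    have c1 : ((L - 1 : ℕ) : ℤ) = (L : ℤ) - 1 := by omega
    have c2 : ((L - 2 : ℕ) : ℤ) = (L : ℤ) - 2 := by omega
    rw [c1] at d1; rw [c2] at d2
    nlinarith
  · have h4 : 4 ≤ L := by omega
    simp only [show (2 : ℕ) - 1 = 1 from rfl, show (2 : ℕ) + 1 = 3 from rfl] at hmr
    have e1 := hmid 1 (by omega) (by omega) (by omega)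
    simp only [show (1 : ℕ) - 1 = 0 from rfl, show (1 : ℕ) + 1 = 2 from rfl] at e1
    interval_cases L
    · have e3 := hmid 3 (by omega) (by omega) (by omega)
      norm_num at e3 hmL
      omega
    · have e3 := hmid 3 (by omega) (by omega) (by omega)
      have e4 := hmid 4 (by omega) (by omega) (by omega)
      norm_num at e3 e4 hmL
      omega
    · have e3 := hmid 3 (by omega) (by omega) (by omega)
      have e4 := hmid 4 (by omega) (by omega) (by omega)
      have e5 := hmid 5 (by omega) (by omega) (by omega)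
      norm_num at e3 e4 e5 hmL
      omega
  · refine hno (Or.inr (Or.inr (Or.inr (Or.inr (Or.inr (Or.inr (Or.inl
      ⟨fun x => if x.val < 8 then q (7 - x.val) else y, fun a b e => Fin.ext ?_, fun a b hab hR => ?_⟩)))))))
    · simp only at e
      split_ifs at e with e1 e2 e2
      · have := hq.1 _ _ (by omega) (by omega) e
        omega
      · exact absurd e (hqy _ (by omega))
      · exact absurd e.symm (hqy _ (by omega))
      · omega
    · have g1 : ∀ k < 7, 0 < T.a (q (k + 1)) (q k) := fun k hk => by rw [a_symm T]; exact hq.2 k (by omega)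
      obtain ⟨hR1, hcase⟩ := rE8_cases hab hR
      rw [hR1]
      refine str_one ?_
      beta_reduce
      rcases hcase with ⟨h1, h2⟩ | ⟨h1, h2⟩
      · rw [if_pos (by omega), if_pos h2, show 7 - a.val = 7 - b.val + 1 by omega]
        exact g1 _ (by omega)
      · rw [if_pos (by omega), if_neg (by omega), h1]
        exact hry
  · refine hno (Or.inr (Or.inr (Or.inr (Or.inr (Or.inr (Or.inl
      ⟨fun x => if x.val < 7 then q (r - 3 + x.val) else y, fun a b e => Fin.ext ?_, fun a b hab hR => ?_⟩))))))
    · simp only at e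
      split_ifs at e with e1 e2 e2
      · have := hq.1 _ _ (by omega) (by omega) e
        omega
      · exact absurd e (hqy _ (by omega))
      · exact absurd e.symm (hqy _ (by omega))
      · omega
    · obtain ⟨hR1, hcase⟩ := rE7_cases hab hR
      rw [hR1]
      refine str_one ?_
      beta_reduce
      rcases hcase with ⟨h1, h2⟩ | ⟨h1, h2⟩
      · rw [if_pos (by omega), if_pos h2, show r - 3 + b.val = r - 3 + a.val + 1 by omega]
        exact hq.2 _ (by omega)
      · rw [if_pos (by omega), if_neg (by omega), show r - 3 + a.val = r by omega]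
        exact hry

/-- A longest path, or one branch: in all cases some affine diagram occurs. -/
lemma hasDiagram (hn : 3 ≤ n) : HasDiagram T := by
  classical
  obtain ⟨L, p, hp, hmax⟩ := exists_longest T
  by_cases hcov : L + 1 = n
  · exact path_hasDiagram hall hn hp hcov
  by_contra hno
  have hchord : ∀ i j, i + 1 < j → j ≤ L → T.a (p i) (p j) = 0 := fun i j hij hj => by
    by_contra hne
    exact hno (hasDiagram_of_chord hp hij hj (pos_of_ne T (fun e => by
      have := hp.1 i j (by omega) hj e; omega) hne))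
  have hlt := hp.lt
  -- a vertex outside, attached to the path
  obtain ⟨i, hi, y, hy, hiy⟩ : ∃ i ≤ L, ∃ y, (∀ k ≤ L, p k ≠ y) ∧ 0 < T.a (p i) y := by
    let S : Finset (Fin n) := (range (L + 1)).image p
    have hcard : S.card ≤ L + 1 := card_image_le.trans (card_range _).le
    obtain ⟨x, hx, y, hy, hxy⟩ := T.connected S ⟨p 0, mem_image.2 ⟨0, by simp, rfl⟩⟩ (fun e => by
      rw [e, card_univ, Fintype.card_fin] at hcard; omega)
    obtain ⟨i, hi, rfl⟩ := mem_image.1 hx
    have hy' : ∀ k ≤ L, p k ≠ y := fun k hk e => hy (mem_image.2 ⟨k, by simp; omega, e⟩)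
    exact ⟨i, by simp at hi; omega, y, hy', pos_of_ne T (hy' i (by simp at hi; omega)) hxy⟩
  have hext : ∀ q, IsPath T L q → ∀ z, (∀ k ≤ L, q k ≠ z) → ¬ 0 < T.a (q L) z := by
    intro q hq z hz hqz
    have : IsPath T (L + 1) (fun k => if k ≤ L then q k else z) := by
      refine ⟨fun a b ha hb e => ?_, fun a ha => ?_⟩
      · simp only at e
        split_ifs at e with h1 h2 h2
        · exact hq.1 a b h1 h2 e
        · exact absurd e (hz a h1)
        · exact absurd e.symm (hz b h2)
        · omega
      · simp only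
        split_ifs with h1 h2 h2
        · exact hq.2 a (by omega)
        · obtain rfl : a = L := by omega
          exact hqz
        all_goals omega
    have := hmax _ _ this
    omega
  have hi0 : 0 < i := by
    by_contra h
    obtain rfl : i = 0 := by omega
    exact hext _ hp.rev y (fun k hk => hy _ (by omega)) (by simpa using hiy)
  have hiL : i < L := by
    by_contra h
    obtain rfl : i = L := by omega
    exact hext p hp y hy hiy
  have hne : ∀ a b, a ≤ L → b ≤ L → a ≠ b → p a ≠ p b := fun a b ha hb h e => h (hp.1 a b ha hb e)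
  -- y is adjacent to p i only
  have hy1 : ∀ k ≤ L, k ≠ i → T.a (p k) y = 0 := by
    intro k hk hki
    by_contra hne'
    have hpos := pos_of_ne T (hy k hk) hne'
    refine hno (Or.inl ?_)
    obtain ⟨a, b, hab, hb, h1, h2⟩ : ∃ a b, a < b ∧ b ≤ L ∧ 0 < T.a (p a) y ∧ 0 < T.a (p b) y := by
      rcases lt_or_gt_of_ne hki with h | h
      · exact ⟨k, i, h, hiL.le, hpos, hiy⟩
      · exact ⟨i, k, h, hk, hiy, hpos⟩
    refine ⟨b - a + 2, by omega, fun x => if x.val ≤ b - a then p (a + x.val) else y,
      fun x z e => Fin.ext ?_, fun x z hxz hR => ?_⟩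
    · simp only at e
      split_ifs at e with e1 e2 e2
      · have := hp.1 _ _ (by omega) (by omega) e
        omega
      · exact absurd e (hy _ (by omega))
      · exact absurd e.symm (hy _ (by omega))
      · omega
    · have hR1 : rA (b - a + 2) x.val z.val = 1 := by unfold rA at hR ⊢; split_ifs at hR ⊢ <;> omega
      rw [hR1]
      refine str_one ?_
      beta_reduce
      unfold rA at hR
      split_ifs at hR with h
      · rcases h with h | ⟨h3, h4⟩
        · rw [if_pos (show x.val ≤ b - a by omega)]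
          by_cases hzb : z.val ≤ b - a
          · rw [if_pos hzb, h, ← add_assoc]; exact hp.2 _ (by omega)
          · rw [if_neg hzb, show a + x.val = b by omega]; exact h2
        · rw [if_pos (show x.val ≤ b - a by omega), if_neg (show ¬ z.val ≤ b - a by omega), h3, add_zero]
          exact h1
      · omega
  -- no other vertex attached to the path
  have honly : ∀ z, (∀ k ≤ L, p k ≠ z) → z ≠ y → ∀ k ≤ L, T.a (p k) z = 0 := by
    intro z hz hzy k hk
    by_contra hne'
    have hpos := pos_of_ne T (hz k hk) hne'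
    have hk0 : 0 < k := by
      by_contra h
      obtain rfl : k = 0 := by omega
      exact hext _ hp.rev z (fun l hl => hz _ (by omega)) (by simpa using hpos)
    have hkL : k < L := by
      by_contra h
      obtain rfl : k = L := by omega
      exact hext p hp z hz hpos
    obtain ⟨a, b, ya, yb, hab, hb0, hb, hya, hyb, hyab, hla, hlb⟩ : ∃ a b ya yb, a ≤ b ∧ 0 < a ∧ b < L ∧
        0 < T.a (p a) ya ∧ 0 < T.a (p b) yb ∧ ya ≠ yb ∧ (∀ l ≤ L, p l ≠ ya) ∧ (∀ l ≤ L, p l ≠ yb) := by
      rcases le_total i k with h | h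
      · exact ⟨i, k, y, z, h, hi0, hkL, hiy, hpos, hzy.symm, hy, hz⟩
      · exact ⟨k, i, z, y, h, hk0, hiL, hpos, hiy, hzy, hz, hy⟩
    refine hno (Or.inr (Or.inr (Or.inr (Or.inl ⟨b - a + 3, by omega,
      fun x => if x.val = 0 then ya else if x.val ≤ b - a + 3 then p (a + x.val - 2) else yb,
      fun x w e => Fin.ext ?_, fun x w hxw hR => ?_⟩))))
    · simp only at e
      split_ifs at e with e1 e2 e3 e4 e5 e6 e7 <;>
        first
          | omega
          | exact absurd e (hla _ (by omega))
          | exact absurd e.symm (hla _ (by omega))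
          | exact absurd e (hlb _ (by omega))
          | exact absurd e.symm (hlb _ (by omega))
          | exact absurd e hyab
          | exact absurd e.symm hyab
          | (have := hp.1 _ _ (by omega) (by omega) e; omega)
    · have hR1 : rD (b - a + 3) x.val w.val = 1 := by unfold rD at hR ⊢; split_ifs at hR ⊢ <;> omega
      rw [hR1]
      refine str_one ?_
      beta_reduce
      unfold rD at hR
      split_ifs at hR with h
      · rcases h with ⟨h1, h2⟩ | ⟨h1, h2, h3⟩ | ⟨h1, h2⟩
        · rw [if_pos h1, if_neg (by omega), if_pos (by omega), h2, show a + 2 - 2 = a by omega, a_symm T]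
          exact hya
        · rw [if_neg (by omega), if_pos (by omega), if_neg (by omega), if_pos (by omega),
            show a + w.val - 2 = a + x.val - 2 + 1 by omega]
          exact hp.2 _ (by omega)
        · rw [if_neg (by omega), if_pos (by omega), if_neg (by omega), if_neg (by omega),
            show a + x.val - 2 = b by omega]
          exact hyb
      · omega
  -- y is a leaf
  have hyleaf : ∀ z, z ≠ p i → z ≠ y → T.a y z = 0 := by
    intro z hzi hzy
    by_cases hzp : ∃ k ≤ L, p k = z
    · obtain ⟨k, hk, rfl⟩ := hzp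
      rw [a_symm T]
      exact hy1 k hk (fun e => hzi (by rw [e]))
    · push Not at hzp
      by_contra hne'
      have hpos := pos_of_ne T hzy.symm hne'
      have h2 : 2 ≤ i ∧ i + 2 ≤ L := by
        have a1 : IsPath T (L - i + 2) (fun k => if k = 0 then z else if k = 1 then y else p (i + k - 2)) := by
          refine ⟨fun a b ha hb e => ?_, fun a ha => ?_⟩
          · simp only at e
            split_ifs at e with e1 e2 e3 e4 e5 e6 e7 <;>
              first
                | omega
                | exact absurd e (hy _ (by omega))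
                | exact absurd e.symm (hy _ (by omega))
                | exact absurd e (hzp _ (by omega))
                | exact absurd e.symm (hzp _ (by omega))
                | exact absurd e hzy
                | exact absurd e.symm hzy
                | (have := hp.1 _ _ (by omega) (by omega) e; omega)
          · simp only
            rcases (show a = 0 ∨ a = 1 ∨ 2 ≤ a by omega) with rfl | rfl | h
            · simpa [a_symm T z y] using hpos
            · simpa [a_symm T y (p i)] using hiy
            · rw [if_neg (by omega), if_neg (by omega), if_neg (by omega), if_neg (by omega),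
                show i + (a + 1) - 2 = i + a - 2 + 1 by omega]
              exact hp.2 _ (by omega)
        have a2 : IsPath T (i + 2) (fun k => if k = 0 then z else if k = 1 then y else p (i + 2 - k)) := by
          refine ⟨fun a b ha hb e => ?_, fun a ha => ?_⟩
          · simp only at e
            split_ifs at e with e1 e2 e3 e4 e5 e6 e7 <;>
              first
                | omega
                | exact absurd e (hy _ (by omega))
                | exact absurd e.symm (hy _ (by omega))
                | exact absurd e (hzp _ (by omega))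
                | exact absurd e.symm (hzp _ (by omega))
                | exact absurd e hzy
                | exact absurd e.symm hzy
                | (have := hp.1 _ _ (by omega) (by omega) e; omega)
          · simp only
            rcases (show a = 0 ∨ a = 1 ∨ 2 ≤ a by omega) with rfl | rfl | h
            · simpa [a_symm T z y] using hpos
            · simpa [a_symm T y (p i)] using hiy
            · rw [if_neg (by omega), if_neg (by omega), if_neg (by omega), if_neg (by omega), a_symm T]
              have := hp.2 (i + 2 - (a + 1)) (by omega)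
              rwa [show i + 2 - (a + 1) + 1 = i + 2 - a by omega] at this
        have := hmax _ _ a1
        have := hmax _ _ a2
        omega
      refine hno (Or.inr (Or.inr (Or.inr (Or.inr (Or.inl
        ⟨fun x => if x.val = 5 then z else if x.val = 6 then y else
            p (if x.val ≤ 2 then i - 2 + x.val else i + 5 - x.val),
          fun a b e => Fin.ext ?_, fun a b hab hR => ?_⟩)))))
      · simp only at e
        split_ifs at e with e1 e2 e3 e4 e5 e6 e7 <;>
          first
            | omega
            | exact absurd e (hy _ (by omega))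
            | exact absurd e.symm (hy _ (by omega))
            | exact absurd e (hzp _ (by omega))
            | exact absurd e.symm (hzp _ (by omega))
            | exact absurd e hzy
            | exact absurd e.symm hzy
            | (have := hp.1 _ _ (by omega) (by omega) e; omega)
      · obtain ⟨hR1, hc⟩ := rE6_cases hab hR
        rw [hR1]
        refine str_one ?_
        beta_reduce
        rcases hc with ⟨h1, h2'⟩ | ⟨h1, h2'⟩ | ⟨h1, h2'⟩ | ⟨h1, h2'⟩ | ⟨h1, h2'⟩ | ⟨h1, h2'⟩ <;>
          simp only [h1, h2', Nat.reduceEqDiff, Nat.reduceLeDiff, ↓reduceIte]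
        · rw [show i - 2 + 1 = i - 2 + 0 + 1 by omega]; exact hp.2 _ (by omega)
        · rw [show i - 2 + 2 = i - 2 + 1 + 1 by omega]; exact hp.2 _ (by omega)
        · rw [a_symm T, show i + 5 - 3 = i + 5 - 4 + 1 by omega]; exact hp.2 _ (by omega)
        · rw [show i - 2 + 2 = i by omega, show i + 5 - 4 = i + 1 by omega]; exact hp.2 _ hiL
        · rw [a_symm T]; exact hpos
        · rw [show i - 2 + 2 = i by omega]; exact hiy
  -- everything is covered
  have hall' : ∀ z, (∃ k ≤ L, p k = z) ∨ z = y := by
    intro z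
    by_contra hz
    push Not at hz
    let S : Finset (Fin n) := insert y ((range (L + 1)).image p)
    obtain ⟨x, hx, z', hz', hxz⟩ := T.connected S ⟨y, mem_insert_self _ _⟩ (fun e => by
      have hzS : z ∈ S := e ▸ mem_univ z
      rcases mem_insert.1 hzS with h | h
      · exact hz.2 h
      · obtain ⟨k, hk, hk'⟩ := mem_image.1 h
        exact hz.1 k (by simp at hk; omega) hk')
    have hz'y : z' ≠ y := fun e => hz' (e ▸ mem_insert_self _ _)
    have hz'p : ∀ k ≤ L, p k ≠ z' := fun k hk e =>
      hz' (mem_insert_of_mem (mem_image.2 ⟨k, by simp; omega, e⟩))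
    rcases mem_insert.1 hx with rfl | h
    · exact hxz (hyleaf z' (fun e => hz'p i hiL.le e.symm) hz'y)
    · obtain ⟨k, hk, rfl⟩ := mem_image.1 h
      exact hxz (honly z' hz'p hz'y k (by simp at hk; omega))
  -- all edges are simple
  have hBpath : ∀ q, IsPath T L q → (∀ k ≤ L, q k ≠ y) → ∀ r, 0 < r → 0 < T.a (q r) y → ∀ k, r ≤ k → k < L →
      Simple T (q k) (q (k + 1)) := by
    intro q hq hqy r hr hry k hrk hk
    by_contra hs
    refine hno (Or.inr (Or.inr (Or.inl ⟨k + 3 - r, by omega,
      fun x => if x.val = 0 then y else if x.val = 1 then q (r - 1) else q (r + x.val - 2),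
      fun a b e => Fin.ext ?_, fun a b hab hR => ?_⟩)))
    · simp only at e
      split_ifs at e with e1 e2 e3 e4 e5 e6 e7 <;>
        first
          | omega
          | exact absurd e (hqy _ (by omega))
          | exact absurd e.symm (hqy _ (by omega))
          | (have := hq.1 _ _ (by omega) (by omega) e; omega)
    · rcases rB_cases hab hR with ⟨hR1, h1, h2⟩ | ⟨hR1, h2⟩ <;> rw [hR1] <;> beta_reduce
      · rw [if_neg (by omega), if_neg (by omega), if_neg (by omega), if_neg (by omega),
          show r + a.val - 2 = k by omega, show r + b.val - 2 = k + 1 by omega]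
        exact str_two_of_not_simple (hq.2 k hk) hs
      · refine str_one ?_
        rcases h2 with ⟨h3, h4⟩ | ⟨h3, h4, h5⟩
        · rw [if_pos h3, if_neg (by omega), if_neg (by omega), h4, show r + 2 - 2 = r by omega, a_symm T]
          exact hry
        · rw [if_neg (by omega)]
          by_cases ha : a.val = 1
          · rw [if_pos ha, if_neg (by omega), if_neg (by omega), show r + b.val - 2 = r - 1 + 1 by omega]
            exact hq.2 _ (by omega)
          · rw [if_neg ha, if_neg (by omega), if_neg (by omega), show r + b.val - 2 = r + a.val - 2 + 1 by omega]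
            exact hq.2 _ (by omega)
  have hsimp : ∀ k < L, Simple T (p k) (p (k + 1)) := by
    intro k hk
    rcases le_or_gt i k with h | h
    · exact hBpath p hp hy i hi0 hiy k h hk
    · have := hBpath _ hp.rev (fun l hl => hy _ (by omega)) (L - i) (by omega)
        (by rw [show L - (L - i) = i by omega]; exact hiy) (L - (k + 1)) (by omega) (by omega)
      simp only [show L - (L - (k + 1)) = k + 1 by omega, show L - (L - (k + 1) + 1) = k by omega] at this
      exact this.symm
  have hsy : Simple T (p i) y := by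
    by_contra hs
    refine hno (Or.inr (Or.inr (Or.inl ⟨3, le_rfl,
      fun x => if x.val = 3 then y else if x.val = 2 then p i else p (i - 1 + 2 * x.val),
      fun a b e => Fin.ext ?_, fun a b hab hR => ?_⟩)))
    · simp only at e
      split_ifs at e with e1 e2 e3 e4 e5 e6 e7 <;>
        first
          | omega
          | exact absurd e (hy _ (by omega))
          | exact absurd e.symm (hy _ (by omega))
          | (have := hp.1 _ _ (by omega) (by omega) e; omega)
    · rcases rB_cases hab hR with ⟨hR1, h1, h2⟩ | ⟨hR1, h2⟩ <;> rw [hR1] <;> beta_reduce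
      · rw [if_neg (by omega), if_pos (by omega), if_pos h2]
        exact str_two_of_not_simple hiy hs
      · refine str_one ?_
        rcases h2 with ⟨h3, h4⟩ | ⟨h3, h4, h5⟩
        · rw [if_neg (by omega), if_neg (by omega), if_neg (by omega), if_pos h4, h3]
          have := hp.2 (i - 1) (by omega)
          rwa [show i - 1 + 1 = i by omega] at this
        · rw [if_neg (by omega), if_neg (by omega), if_neg (by omega), if_pos (by omega),
            show i - 1 + 2 * a.val = i + 1 by omega, a_symm T]
          exact hp.2 i hiL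
  -- orient with the short arm first
  obtain ⟨q, r, hq, hqy, hqc, hry, hr0, hrle, hqs, hsy', hqz, hy1'⟩ : ∃ q r, IsPath T L q ∧ (∀ k ≤ L, q k ≠ y) ∧
      (∀ z, (∃ k ≤ L, q k = z) ∨ z = y) ∧ 0 < T.a (q r) y ∧ 0 < r ∧ 2 * r ≤ L ∧
      (∀ k < L, Simple T (q k) (q (k + 1))) ∧ Simple T (q r) y ∧
      (∀ a b, a + 1 < b → b ≤ L → T.a (q a) (q b) = 0) ∧ (∀ k ≤ L, k ≠ r → T.a (q k) y = 0) := by
    by_cases h : 2 * i ≤ L
    · exact ⟨p, i, hp, hy, hall', hiy, hi0, h, hsimp, hsy, hchord, hy1⟩
    · have e : L - (L - i) = i := by omega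
      refine ⟨fun k => p (L - k), L - i, hp.rev, fun k hk => hy _ (by omega), fun z => ?_, by simpa [e] using hiy,
        by omega, by omega, fun k hk => ?_, by simpa [e] using hsy,
        fun a b h1 h2 => by rw [a_symm T]; exact hchord _ _ (by omega) (by omega),
        fun k hk hk' => hy1 _ (by omega) (by omega)⟩
      · rcases hall' z with ⟨k, hk, rfl⟩ | rfl
        · exact Or.inl ⟨L - k, by omega, by simp only [show L - (L - k) = k by omega]⟩
        · exact Or.inr rfl
      · have := hsimp (L - (k + 1)) (by omega)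
        rw [show L - (k + 1) + 1 = L - k by omega] at this
        exact this.symm
  exact hno (branch_hasDiagram hall hq hqy hqc hry hr0 hrle hqs hsy' hqz hy1')

end Groth.Agent.NumType
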