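import Groth.Agent.Lib.NumType.Basic
import Mathlib.Combinatorics.SimpleGraph.DegreeSum

/-! Topological genus and contributions. -/

namespace Groth.Agent.NumType

open Finset Models

variable {n : ℕ} (T : NumericalType n)

/-- The neighbours of `i` inside `C`. -/
def nbrs (C : Finset (Fin n)) (i : Fin n) : Finset (Fin n) := C.filter fun j => 0 < T.a i j

/-- `∑_{i ∈ C} (deg_C i - 2)`. -/
def excess (C : Finset (Fin n)) : ℤ := ∑ i ∈ C, (((nbrs T C i).card : ℤ) - 2)

lemma excess_univ : excess T univ = 2 * T.topGenus - 2 := by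
  classical
  have h := SimpleGraph.sum_degrees_eq_twice_card_edges (graph T)
  rw [SimpleGraph.edgeFinset_card, ← Nat.card_eq_fintype_card, ← edgeCount_eq] at h
  have hd : ∀ i, (nbrs T univ i).card = (graph T).degree i := fun i => by
    rw [← SimpleGraph.card_neighborFinset_eq_degree]
    congr 1
    ext j
    simp [nbrs, graph]
  simp only [excess, sum_sub_distrib, hd, sum_const, card_univ, Fintype.card_fin, nsmul_eq_mul]
  rw [← Nat.cast_sum, h, NumericalType.topGenus]
  push_cast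
  ring

lemma excess_le_erase (C : Finset (Fin n)) {v : Fin n} (hv : v ∈ C) (h : (nbrs T C v).card ≤ 1) :
    excess T C ≤ excess T (C.erase v) := by
  classical
  have hstep : ∀ i ∈ C.erase v, ((nbrs T C i).card : ℤ) =
      (nbrs T (C.erase v) i).card + if 0 < T.a i v then 1 else 0 := fun i hi => by
    by_cases hp : 0 < T.a i v
    · rw [if_pos hp]
      have e : nbrs T C i = insert v (nbrs T (C.erase v) i) := by
        ext j
        simp only [nbrs, mem_filter, mem_insert, mem_erase]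
        constructor
        · rintro ⟨hj, hj'⟩
          by_cases hjv : j = v
          · exact Or.inl hjv
          · exact Or.inr ⟨⟨hjv, hj⟩, hj'⟩
        · rintro (rfl | ⟨⟨_, hj⟩, hj'⟩)
          · exact ⟨hv, hp⟩
          · exact ⟨hj, hj'⟩
      rw [e, card_insert_of_notMem (by simp [nbrs])]
      push_cast; ring
    · rw [if_neg hp, add_zero]
      congr 2
      ext j
      simp only [nbrs, mem_filter, mem_erase]
      exact ⟨fun ⟨hj, hj'⟩ => ⟨⟨fun e => hp (e ▸ hj'), hj⟩, hj'⟩, fun ⟨⟨_, hj⟩, hj'⟩ => ⟨hj, hj'⟩⟩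
  have hcnt : (∑ i ∈ C.erase v, if 0 < T.a i v then (1 : ℤ) else 0) = (nbrs T C v).card := by
    rw [sum_boole]
    congr 2
    ext j
    simp only [nbrs, mem_filter, mem_erase, a_symm T v j]
    exact ⟨fun ⟨⟨_, hj⟩, hj'⟩ => ⟨hj, hj'⟩, fun ⟨hj, hj'⟩ => ⟨⟨ne_of_pos T hj', hj⟩, hj'⟩⟩
  have key : excess T C = excess T (C.erase v) + (2 * ((nbrs T C v).card : ℤ) - 2) := by
    rw [excess, ← add_sum_erase _ _ hv, sum_sub_distrib, sum_congr rfl hstep, sum_add_distrib, hcnt,
      excess, sum_sub_distrib]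
    ring
  omega

lemma topGenus_le_genus (hmin : T.IsMinimal) (hn : 1 < n) : T.topGenus ≤ T.genus := by
  classical
  let F := (univ : Finset (Fin n)).powerset.filter fun C => excess T univ ≤ excess T C
  obtain ⟨C, hC, hCmin⟩ := F.exists_min_image Finset.card ⟨univ, by simp [F]⟩
  simp only [F, mem_filter, mem_powerset, subset_univ, true_and] at hC hCmin
  have hsum := two_mul_genus_sub_two T
  have hnn : ∀ i, 0 ≤ contr T i := contr_nonneg T hmin hn
  have htot : ∑ i ∈ C, contr T i ≤ ∑ i, contr T i :=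
    sum_le_sum_of_subset_of_nonneg (subset_univ C) fun i _ _ => hnn i
  rw [excess_univ] at hC
  have hdeg : ∀ v ∈ C, 2 ≤ (nbrs T C v).card := fun v hv => by
    by_contra h
    have h' := excess_le_erase T C hv (by omega)
    have := hCmin (C.erase v) (by rw [excess_univ]; omega)
    rw [card_erase_of_mem hv] at this
    have := card_pos.2 ⟨v, hv⟩
    omega
  have hge : excess T C ≤ ∑ i ∈ C, contr T i := by
    have h1 : ∀ i ∈ C, ∑ j ∈ nbrs T C i, T.a i j * T.m j ≤ -(T.a i i * T.m i) := fun i _ => by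
      rw [← row_sum_erase]
      refine sum_le_sum_of_subset_of_nonneg (fun j hj => mem_erase.2 ⟨?_, mem_univ _⟩) fun j hj _ => ?_
      · exact (ne_of_pos T (mem_filter.1 hj).2).symm
      · exact mul_nonneg (T.offDiag_nonneg i j (ne_of_mem_erase hj).symm) (T.m_pos j).le
    have h2 : ∑ i ∈ C, ∑ j ∈ nbrs T C i, T.a i j * T.m j = ∑ i ∈ C, ∑ j ∈ nbrs T C i, T.a i j * T.m i := by
      simp only [nbrs, sum_filter]
      rw [sum_comm]
      exact sum_congr rfl fun i _ => sum_congr rfl fun j _ => by rw [a_symm T j i]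
    have h3 : ∀ i ∈ C, ((nbrs T C i).card : ℤ) * (T.m i * T.w i) ≤ ∑ j ∈ nbrs T C i, T.a i j * T.m i := fun i _ => by
      have := card_nsmul_le_sum (nbrs T C i) (fun j => T.a i j * T.m i) (T.m i * T.w i) fun j hj => by
        have := w_le_left T (mem_filter.1 hj).2
        have := T.m_pos i
        nlinarith
      simpa using this
    have h4 : ∀ i ∈ C, (((nbrs T C i).card : ℤ) - 2) ≤
        ((nbrs T C i).card : ℤ) * (T.m i * T.w i) + T.m i * (2 * T.w i * (T.g i - 1)) := fun i hi => by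
      have hd : (2 : ℤ) ≤ (nbrs T C i).card := by exact_mod_cast hdeg i hi
      have hu : 1 ≤ T.m i * T.w i := Int.mul_pos (T.m_pos i) (T.w_pos i)
      have := mul_nonneg (show (0:ℤ) ≤ T.m i * T.w i by omega) (T.g_nonneg i)
      nlinarith
    calc excess T C ≤ ∑ i ∈ C, (((nbrs T C i).card : ℤ) * (T.m i * T.w i) + T.m i * (2 * T.w i * (T.g i - 1))) :=
          sum_le_sum h4
      _ ≤ ∑ i ∈ C, ((∑ j ∈ nbrs T C i, T.a i j * T.m i) + T.m i * (2 * T.w i * (T.g i - 1))) :=
          sum_le_sum fun i hi => by linarith [h3 i hi]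
      _ = (∑ i ∈ C, ∑ j ∈ nbrs T C i, T.a i j * T.m j) + ∑ i ∈ C, T.m i * (2 * T.w i * (T.g i - 1)) := by
          rw [sum_add_distrib, h2]
      _ ≤ (∑ i ∈ C, -(T.a i i * T.m i)) + ∑ i ∈ C, T.m i * (2 * T.w i * (T.g i - 1)) :=
          add_le_add_left (sum_le_sum h1) _
      _ = ∑ i ∈ C, contr T i := by
          rw [← sum_add_distrib]
          exact sum_congr rfl fun i _ => by unfold contr; ring
  omega

lemma abs_diag_mul_le_contr (hn : 1 < n) (hmin : T.IsMinimal) {j : Fin n} (hj : ¬ T.IsMinusTwo j) :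
    T.m j * |T.a j j| ≤ 3 * contr T j := by
  have hd := diag_neg T hn j
  have h1 := contr_nonneg T hmin hn j
  rw [abs_of_neg hd]
  unfold contr at h1 ⊢
  have hg := T.g_nonneg j
  have hw := T.w_pos j
  have hm := T.m_pos j
  rcases eq_or_lt_of_le hg with h | h
  · obtain ⟨k, hk⟩ := T.w_dvd j j
    rw [← h, hk] at h1 ⊢
    rw [hk] at hd
    have hk0 : k < 0 := by nlinarith
    have hk2 : k ≠ -1 := fun e => hmin j ⟨h.symm, by rw [hk, e]; ring⟩
    have hk3 : k ≠ -2 := fun e => hj ⟨h.symm, by rw [hk, e]; ring⟩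
    nlinarith [Int.mul_pos hm hw, show k ≤ -3 by omega]
  · nlinarith [mul_nonneg hm.le (mul_nonneg hw.le (show 0 ≤ T.g j - 1 by omega))]

lemma bounds_non_minusTwo (hmin : T.IsMinimal) (hn : 1 < n) (hg : 2 ≤ T.genus)
    {j : Fin n} (hj : ¬ T.IsMinusTwo j) :
    T.g j < T.genus ∧ T.m j * |T.a j j| ≤ 6 * T.genus - 6 ∧ ∀ i, T.m i * T.a i j ≤ 6 * T.genus - 6 := by
  have hsum := two_mul_genus_sub_two T
  have hc : contr T j ≤ 2 * T.genus - 2 :=
    hsum ▸ single_le_sum (f := contr T) (fun i _ => contr_nonneg T hmin hn i) (mem_univ j)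
  have hb : T.m j * |T.a j j| ≤ 6 * T.genus - 6 := by
    linarith [abs_diag_mul_le_contr T hn hmin hj]
  refine ⟨?_, hb, fun i => ?_⟩
  · rcases eq_or_lt_of_le (T.g_nonneg j) with h | h
    · omega
    · unfold contr at hc
      have hp := Int.mul_pos (T.m_pos j) (T.w_pos j)
      have hd : 1 ≤ T.m j * (- T.a j j) := Int.mul_pos (T.m_pos j) (by linarith [diag_neg T hn j])
      have : T.g j - 1 ≤ T.m j * T.w j * (T.g j - 1) := le_mul_of_one_le_left (by omega) hp
      nlinarith
  · rcases le_or_gt (T.a i j) 0 with h | h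
    · nlinarith [T.m_pos i]
    · linarith [(mul_le_of_pos T h).1]

end Groth.Agent.NumType
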