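import Groth.Agent.Lib.NumType.Contract
import Mathlib.LinearAlgebra.Dimension.RankNullity
import Mathlib.LinearAlgebra.Dimension.Constructions

/-! Permutations of indices and induction over contractions. -/

namespace Groth.Agent.NumType

open Finset Models

variable {n : ℕ}

/-- Renumber the indices. -/
def permute (T : NumericalType n) (σ : Equiv.Perm (Fin n)) : NumericalType n where
  m i := T.m (σ i)
  a := fun i j => T.a (σ i) (σ j)
  w i := T.w (σ i)
  g i := T.g (σ i)
  pos := T.pos
  m_pos i := T.m_pos _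
  w_pos i := T.w_pos _
  g_nonneg i := T.g_nonneg _
  symm := Matrix.IsSymm.ext fun i j => a_symm T _ _
  offDiag_nonneg i j hij := T.offDiag_nonneg _ _ (σ.injective.ne hij)
  connected := by
    intro I hI hne
    obtain ⟨i, hi, j, hj, hij⟩ := T.connected (I.map σ.toEmbedding) (hI.map) (fun e => hne (by
      refine eq_univ_of_forall fun x => ?_
      have : σ x ∈ I.map σ.toEmbedding := e ▸ mem_univ _
      simpa using this))
    obtain ⟨i', hi', rfl⟩ := mem_map.1 hi
    refine ⟨i', hi', σ.symm j, fun h => hj ?_, ?_⟩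
    · exact mem_map.2 ⟨_, h, by simp⟩
    · simpa using hij
  mulVec_m := by
    funext i
    show ∑ j, T.a (σ i) (σ j) * T.m (σ j) = 0
    rw [Equiv.sum_comp σ (fun j => T.a (σ i) j * T.m j)]
    exact row_sum T _
  w_dvd i j := T.w_dvd _ _

lemma genus_permute (T : NumericalType n) (σ : Equiv.Perm (Fin n)) : (permute T σ).genus = T.genus := by
  have h1 := two_mul_genus_sub_two (permute T σ)
  have h2 := two_mul_genus_sub_two T
  have e : ∑ i, contr (permute T σ) i = ∑ i, contr T i := Equiv.sum_comp σ (contr T)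
  omega

lemma pic_permute (T : NumericalType n) (σ : Equiv.Perm (Fin n)) :
    Nonempty (T.Pic ≃ₗ[ℤ] (permute T σ).Pic) := by
  let e : (Fin n → ℤ) ≃ₗ[ℤ] (Fin n → ℤ) := LinearEquiv.funCongrLeft ℤ ℤ σ
  refine ⟨Submodule.Quotient.equiv _ _ e ?_⟩
  ext x
  rw [Submodule.mem_map, picRange_iff]
  constructor
  · rintro ⟨y, hy, rfl⟩
    obtain ⟨z, hz⟩ := (picRange_iff T y).1 hy
    refine ⟨fun i => z (σ i), fun i => ?_⟩
    show T.w (σ i) * y (σ i) = ∑ j, T.a (σ i) (σ j) * z (σ j)
    rw [Equiv.sum_comp σ (fun j => T.a (σ i) j * z j)]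
    exact hz _
  · rintro ⟨z, hz⟩
    refine ⟨fun i => x (σ.symm i), (picRange_iff T _).2 ⟨fun i => z (σ.symm i), fun i => ?_⟩, ?_⟩
    · have h := hz (σ.symm i)
      simp only [permute, Equiv.apply_symm_apply] at h
      rw [h, ← Equiv.sum_comp σ (fun j => T.a i j * z (σ.symm j))]
      simp
    · funext i
      simp [e, LinearMap.funLeft_apply]

/-- Induction principle: either minimal, or the Picard group embeds into that of a type on fewer
indices with the same genus. -/
lemma exists_smaller (T : NumericalType (n + 1)) (h : ¬ T.IsMinimal) :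
    ∃ (T' : NumericalType n) (f : T.Pic →+ T'.Pic), Function.Injective f ∧ T'.genus = T.genus ∧
      ∀ y : T'.Pic, ∃ x : T.Pic, 2 • y = f x := by
  obtain ⟨i, hi⟩ : ∃ i, T.IsMinusOne i := by
    simpa [NumericalType.IsMinimal] using h
  let σ := Equiv.swap i (Fin.last n)
  have hl : (permute T σ).IsMinusOne (Fin.last n) := by
    show T.g (σ (Fin.last n)) = 0 ∧ T.a (σ (Fin.last n)) (σ (Fin.last n)) = -T.w (σ (Fin.last n))
    rw [Equiv.swap_apply_right]
    exact hi
  obtain ⟨e⟩ := pic_permute T σ
  obtain ⟨f, hf, hf2⟩ := isContraction_pic _ hl _ (isContraction_contraction _ hl)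
  refine ⟨_, f.comp e.toLinearMap.toAddMonoidHom, hf.comp e.injective, ?_, fun y => ?_⟩
  · rw [isContraction_genus _ hl _ (isContraction_contraction _ hl), genus_permute]
  · obtain ⟨x, hx⟩ := hf2 y
    exact ⟨e.symm x, by simp [hx]⟩

lemma finrank_pic (T : NumericalType n) : Module.finrank ℤ T.Pic = 1 := by
  have hker : ∀ x : Fin n → ℤ, T.picMatrix.mulVec x = 0 ↔ T.a.mulVec x = 0 := by
    intro x
    have key : ∀ i, T.w i * T.picMatrix.mulVec x i = T.a.mulVec x i := fun i => by
      simp only [Matrix.mulVec, dotProduct, NumericalType.picMatrix, Finset.mul_sum]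
      exact Finset.sum_congr rfl fun j _ => by rw [← mul_assoc, Int.mul_ediv_cancel' (T.w_dvd i j)]
    constructor <;> intro h <;> funext i
    · rw [← key i, h]; simp
    · have := key i
      rw [h] at this
      exact (mul_eq_zero.1 this).resolve_left (T.w_pos i).ne'
  let i0 : Fin n := ⟨0, T.pos⟩
  let f := Matrix.mulVecLin T.picMatrix
  have hm : T.m ∈ LinearMap.ker f := (hker _).2 T.mulVec_m
  have h1 : Module.finrank ℤ (LinearMap.ker f) = 1 := by
    have inj : Function.Injective ((LinearMap.proj i0 : (Fin n → ℤ) →ₗ[ℤ] ℤ).comp (LinearMap.ker f).subtype) := by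
      refine (injective_iff_map_eq_zero _).2 fun x hx => ?_
      apply Subtype.ext
      funext i
      have e := (mulVec_eq_zero_iff T x.1).1 ((hker _).1 x.2) i i0
      have hx0 : x.1 i0 = 0 := hx
      rw [hx0, zero_mul] at e
      exact (mul_eq_zero.1 e).resolve_right (T.m_pos i0).ne'
    have hle := LinearMap.finrank_le_finrank_of_injective inj
    rw [Module.finrank_self] at hle
    have : Module.finrank ℤ (LinearMap.ker f) ≠ 0 := fun h => by
      rw [Submodule.finrank_eq_zero] at h
      rw [h, Submodule.mem_bot] at hm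
      exact (T.m_pos i0).ne' (congrFun hm i0)
    omega
  have h2 := Submodule.finrank_quotient_add_finrank (R := ℤ) (LinearMap.range f)
  have h3 := Submodule.finrank_quotient_add_finrank (R := ℤ) (LinearMap.ker f)
  have h4 := (f.quotKerEquivRange).finrank_eq
  rw [Module.finrank_fin_fun] at h2 h3
  change Module.finrank ℤ ((Fin n → ℤ) ⧸ LinearMap.range f) = 1
  omega

lemma pic_equiv_int (T : NumericalType n) (hg : T.genus ≤ 0) : Nonempty (T.Pic ≃ₗ[ℤ] ℤ) := by
  induction n with
  | zero => exact absurd T.pos (lt_irrefl 0)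
  | succ k ih =>
    rcases Nat.eq_zero_or_pos k with rfl | hk
    · have h0 : T.a 0 0 = 0 := by
        have h := row_sum T 0
        rw [Fin.sum_univ_one] at h
        exact (mul_eq_zero.1 h).resolve_right (T.m_pos 0).ne'
      have hbot : LinearMap.range (Matrix.mulVecLin T.picMatrix) = ⊥ := by
        rw [eq_bot_iff]
        intro x hx
        obtain ⟨z, hz⟩ := (picRange_iff T x).1 hx
        rw [Submodule.mem_bot]
        funext i
        have := hz i
        rw [Fin.sum_univ_one, Fin.eq_zero i, h0, zero_mul, mul_eq_zero] at this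
        rw [Fin.eq_zero i]
        exact this.resolve_left (T.w_pos 0).ne'
      exact ⟨(Submodule.quotEquivOfEqBot _ hbot).trans (LinearEquiv.funUnique (Fin 1) ℤ ℤ)⟩
    · have hnm : ¬ T.IsMinimal := fun hmin => by
        have := one_le_genus T hmin (by omega)
        omega
      obtain ⟨T', f, hf, hg', -⟩ := exists_smaller T hnm
      obtain ⟨e⟩ := ih T' (hg' ▸ hg)
      let F : T.Pic →ₗ[ℤ] ℤ := e.toLinearMap.comp f.toIntLinearMap
      have hF : Function.Injective F := e.injective.comp hf
      obtain ⟨k, ⟨e'⟩⟩ : ∃ k, Nonempty (T.Pic ≃ₗ[ℤ] (Fin k → ℤ)) := by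
        let r := LinearEquiv.ofInjective F hF
        obtain ⟨k, b⟩ := Submodule.basisOfPid (Module.Basis.singleton (Fin 1) ℤ) (LinearMap.range F)
        exact ⟨k, ⟨r.trans b.equivFun⟩⟩
      have hk1 : k = 1 := by
        have h := e'.finrank_eq
        rw [finrank_pic, Module.finrank_fin_fun] at h
        exact h.symm
      subst hk1
      exact ⟨e'.trans (LinearEquiv.funUnique (Fin 1) ℤ ℤ)⟩

end Groth.Agent.NumType
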