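import Groth.Agent.Lib.NumType.Diagram

/-! The affine Dynkin diagrams, as weighted adjacency functions with their null vectors. -/

namespace Groth.Agent.NumType

open Finset Models

variable {n : ℕ} {T : NumericalType n}

/-- Symmetrise a weighted adjacency given for ordered pairs. -/
def symE (R : ℕ → ℕ → ℕ) {N : ℕ} (i j : Fin N) : ℕ :=
  if i.val < j.val then R i.val j.val else if j.val < i.val then R j.val i.val else 0

lemma symE_self (R : ℕ → ℕ → ℕ) {N : ℕ} (i : Fin N) : symE R i i = 0 := by simp [symE]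

lemma symE_comm (R : ℕ → ℕ → ℕ) {N : ℕ} (i j : Fin N) : symE R i j = symE R j i := by
  unfold symE
  split_ifs <;> first | rfl | omega

lemma str_symE (R : ℕ → ℕ → ℕ) {N : ℕ} (v : Fin N → Fin n)
    (h : ∀ i j : Fin N, i.val < j.val → R i.val j.val ≠ 0 → Str T (R i.val j.val) (v i) (v j))
    (i j : Fin N) (hij : symE R i j ≠ 0) : Str T (symE R i j) (v i) (v j) := by
  unfold symE at hij ⊢
  split_ifs at hij ⊢ with h1 h2
  · exact h i j h1 hij
  · exact (h j i h2 hij).symm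
  · exact absurd rfl hij

lemma one_term {ι : Type*} [Fintype ι] [DecidableEq ι] {f : ι → ℝ} (hf : ∀ i, 0 ≤ f i)
    (a : ι) {r : ℝ} (h : r ≤ f a) : r ≤ ∑ i, f i :=
  h.trans (single_le_sum (fun i _ => hf i) (mem_univ a))

lemma two_terms {ι : Type*} [Fintype ι] [DecidableEq ι] {f : ι → ℝ} (hf : ∀ i, 0 ≤ f i)
    (a b : ι) (hab : a ≠ b) {r : ℝ} (h : r ≤ f a + f b) : r ≤ ∑ i, f i :=
  h.trans (le_of_eq_of_le (sum_pair hab).symm
    (sum_le_sum_of_subset_of_nonneg (subset_univ _) fun i _ _ => hf i))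

lemma three_terms {ι : Type*} [Fintype ι] [DecidableEq ι] {f : ι → ℝ} (hf : ∀ i, 0 ≤ f i)
    (a b c : ι) (hab : a ≠ b) (hac : a ≠ c) (hbc : b ≠ c) {r : ℝ} (h : r ≤ f a + f b + f c) :
    r ≤ ∑ i, f i :=
  h.trans (le_of_eq_of_le (by rw [sum_insert (by simp [hab, hac]), sum_pair hbc, add_assoc])
    (sum_le_sum_of_subset_of_nonneg (subset_univ {a, b, c}) fun i _ _ => hf i))

lemma sqrt_two_mul : Real.sqrt 2 * Real.sqrt 2 = 2 := Real.mul_self_sqrt (by norm_num)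
lemma sqrt_three_mul : Real.sqrt 3 * Real.sqrt 3 = 3 := Real.mul_self_sqrt (by norm_num)

/-! Fixed diagrams, given by lists of edges. -/

/-- The adjacency of a list of weighted edges. -/
def edgesR (l : List (ℕ × ℕ × ℕ)) (i j : ℕ) : ℕ :=
  match l with
  | [] => 0
  | (a, b, e) :: l => if (i = a ∧ j = b) ∨ (i = b ∧ j = a) then e else edgesR l i j

def rA1 : ℕ → ℕ → ℕ := edgesR [(0, 1, 4)]
noncomputable def cA1 : Fin 2 → ℝ := ![1, 1]
lemma cA1_pos : ∀ i, 0 < cA1 i := by intro i; fin_cases i <;> simp [cA1]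
lemma cA1_le : ∀ i, 2 * cA1 i ≤ ∑ j, Real.sqrt (symE rA1 i j) * cA1 j := by
  have : Real.sqrt 4 = 2 := by rw [Real.sqrt_eq_cases]; left; norm_num
  intro i; fin_cases i <;> simp [cA1, symE, rA1, edgesR, Fin.sum_univ_succ, this]

def rD4 : ℕ → ℕ → ℕ := edgesR [(0, 1, 1), (0, 2, 1), (0, 3, 1), (0, 4, 1)]
noncomputable def cD4 : Fin 5 → ℝ := ![2, 1, 1, 1, 1]
lemma cD4_pos : ∀ i, 0 < cD4 i := by intro i; fin_cases i <;> simp [cD4]
lemma cD4_le : ∀ i, 2 * cD4 i ≤ ∑ j, Real.sqrt (symE rD4 i j) * cD4 j := by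
  intro i; fin_cases i <;> simp [cD4, symE, rD4, edgesR, Fin.sum_univ_succ] <;> norm_num

def rE6 : ℕ → ℕ → ℕ := edgesR [(0, 1, 1), (1, 2, 1), (3, 4, 1), (4, 2, 1), (5, 6, 1), (6, 2, 1)]
noncomputable def cE6 : Fin 7 → ℝ := ![1, 2, 3, 1, 2, 1, 2]
lemma cE6_pos : ∀ i, 0 < cE6 i := by intro i; fin_cases i <;> simp [cE6]
lemma cE6_le : ∀ i, 2 * cE6 i ≤ ∑ j, Real.sqrt (symE rE6 i j) * cE6 j := by
  intro i; fin_cases i <;> simp [cE6, symE, rE6, edgesR, Fin.sum_univ_succ] <;> norm_num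

def rE7 : ℕ → ℕ → ℕ :=
  edgesR [(0, 1, 1), (1, 2, 1), (2, 3, 1), (3, 4, 1), (4, 5, 1), (5, 6, 1), (7, 3, 1)]
noncomputable def cE7 : Fin 8 → ℝ := ![1, 2, 3, 4, 3, 2, 1, 2]
lemma cE7_pos : ∀ i, 0 < cE7 i := by intro i; fin_cases i <;> simp [cE7]
lemma cE7_le : ∀ i, 2 * cE7 i ≤ ∑ j, Real.sqrt (symE rE7 i j) * cE7 j := by
  intro i; fin_cases i <;> simp [cE7, symE, rE7, edgesR, Fin.sum_univ_succ] <;> norm_num

def rE8 : ℕ → ℕ → ℕ :=
  edgesR [(0, 1, 1), (1, 2, 1), (2, 3, 1), (3, 4, 1), (4, 5, 1), (5, 6, 1), (6, 7, 1), (8, 5, 1)]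
noncomputable def cE8 : Fin 9 → ℝ := ![1, 2, 3, 4, 5, 6, 4, 2, 3]
lemma cE8_pos : ∀ i, 0 < cE8 i := by intro i; fin_cases i <;> simp [cE8]
lemma cE8_le : ∀ i, 2 * cE8 i ≤ ∑ j, Real.sqrt (symE rE8 i j) * cE8 j := by
  intro i; fin_cases i <;> simp [cE8, symE, rE8, edgesR, Fin.sum_univ_succ] <;> norm_num

def rF4 : ℕ → ℕ → ℕ := edgesR [(0, 1, 1), (1, 2, 1), (2, 3, 2), (3, 4, 1)]
noncomputable def cF4 : Fin 5 → ℝ := ![1, 2, 3, 2 * Real.sqrt 2, Real.sqrt 2]
lemma cF4_pos : ∀ i, 0 < cF4 i := by intro i; fin_cases i <;> simp [cF4]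
lemma cF4_le : ∀ i, 2 * cF4 i ≤ ∑ j, Real.sqrt (symE rF4 i j) * cF4 j := by
  intro i; fin_cases i <;> simp [cF4, symE, rF4, edgesR, Fin.sum_univ_succ] <;>
    nlinarith [sqrt_two_mul]

def rG2 : ℕ → ℕ → ℕ := edgesR [(0, 1, 1), (1, 2, 3)]
noncomputable def cG2 : Fin 3 → ℝ := ![1, 2, Real.sqrt 3]
lemma cG2_pos : ∀ i, 0 < cG2 i := by intro i; fin_cases i <;> simp [cG2]
lemma cG2_le : ∀ i, 2 * cG2 i ≤ ∑ j, Real.sqrt (symE rG2 i j) * cG2 j := by
  intro i; fin_cases i <;> simp [cG2, symE, rG2, edgesR, Fin.sum_univ_succ] <;>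
    nlinarith [sqrt_three_mul]

/-! The families `D`, `B`, `C`. -/

def rD (t : ℕ) (i j : ℕ) : ℕ :=
  if (i = 0 ∧ j = 2) ∨ (1 ≤ i ∧ j = i + 1 ∧ j ≤ t) ∨ (i = t - 1 ∧ j = t + 1) then 1 else 0

noncomputable def cD (t : ℕ) (i : Fin (t + 2)) : ℝ :=
  if i.val ≤ 1 ∨ t ≤ i.val then 1 else 2

lemma cD_pos (t : ℕ) (i : Fin (t + 2)) : 0 < cD t i := by unfold cD; split <;> norm_num

lemma cD_le (t : ℕ) (ht : 3 ≤ t) (i : Fin (t + 2)) :
    2 * cD t i ≤ ∑ j, Real.sqrt (symE (rD t) i j) * cD t j := by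
  have hf : ∀ j, 0 ≤ Real.sqrt (symE (rD t) i j) * cD t j := fun j =>
    mul_nonneg (Real.sqrt_nonneg _) (cD_pos t j).le
  have hterm : ∀ k, (hk : k < t + 2) → symE (rD t) i ⟨k, hk⟩ = 1 →
      Real.sqrt (symE (rD t) i ⟨k, hk⟩) * cD t ⟨k, hk⟩ = cD t ⟨k, hk⟩ := fun k hk h => by simp [h]
  obtain ⟨i, hi⟩ := i
  rcases (show i ≤ 1 ∨ (2 ≤ i ∧ i + 2 ≤ t) ∨ i + 1 = t ∨ t ≤ i by omega) with h | h | h | h
  · refine one_term hf ⟨2, by omega⟩ ?_
    rw [hterm 2 (by omega) (by simp only [symE, rD]; split_ifs <;> (try simp at *) <;> omega)]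
    rw [cD, cD, if_pos (Or.inl h), if_neg (show ¬ ((2 : ℕ) ≤ 1 ∨ t ≤ 2) by omega)]
    norm_num
  · by_cases h2 : i = 2
    · subst h2
      refine three_terms hf ⟨0, by omega⟩ ⟨1, by omega⟩ ⟨3, by omega⟩ (by simp) (by simp) (by simp) ?_
      rw [hterm _ (by omega) (by simp only [symE, rD]; split_ifs <;> (try simp at *) <;> omega), hterm _ (by omega) (by simp only [symE, rD]; split_ifs <;> (try simp at *) <;> omega),
        hterm _ (by omega) (by simp only [symE, rD]; split_ifs <;> (try simp at *) <;> omega)]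
      simp only [cD]
      rw [if_neg (show ¬ ((2:ℕ) ≤ 1 ∨ t ≤ 2) by omega), if_pos (Or.inl (by norm_num)), if_pos (Or.inl le_rfl),
        if_neg (show ¬ ((3:ℕ) ≤ 1 ∨ t ≤ 3) by omega)]
      norm_num
    · refine two_terms hf ⟨i - 1, by omega⟩ ⟨i + 1, by omega⟩ (by simp <;> omega) ?_
      rw [hterm _ (by omega) (by simp only [symE, rD]; split_ifs <;> (try simp at *) <;> omega), hterm _ (by omega) (by simp only [symE, rD]; split_ifs <;> (try simp at *) <;> omega)]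
      simp only [cD]
      split_ifs <;> (try simp at *) <;> first | omega | linarith [Real.sqrt_nonneg 2] | nlinarith [sqrt_two_mul, Real.sqrt_nonneg 2]
  · by_cases h2 : i = 2
    · subst h2
      have ht3 : t = 3 := by omega
      subst ht3
      simp [cD, symE, rD, Fin.sum_univ_succ]
      norm_num
    · refine three_terms hf ⟨i - 1, by omega⟩ ⟨i + 1, by omega⟩ ⟨i + 2, by omega⟩
        (by simp <;> omega) (by simp <;> omega) (by simp) ?_
      rw [hterm _ (by omega) (by simp only [symE, rD]; split_ifs <;> (try simp at *) <;> omega), hterm _ (by omega) (by simp only [symE, rD]; split_ifs <;> (try simp at *) <;> omega),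
        hterm _ (by omega) (by simp only [symE, rD]; split_ifs <;> (try simp at *) <;> omega)]
      simp only [cD]
      split_ifs <;> (try simp at *) <;> first | omega | linarith [Real.sqrt_nonneg 2] | nlinarith [sqrt_two_mul, Real.sqrt_nonneg 2]
  · refine one_term hf ⟨t - 1, by omega⟩ ?_
    rw [hterm _ (by omega) (by simp only [symE, rD]; split_ifs <;> (try simp at *) <;> omega)]
    simp only [cD]
    split_ifs <;> (try simp at *) <;> first | omega | linarith [Real.sqrt_nonneg 2] | nlinarith [sqrt_two_mul, Real.sqrt_nonneg 2]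

def rB (t : ℕ) (i j : ℕ) : ℕ :=
  if i = t - 1 ∧ j = t then 2
  else if (i = 0 ∧ j = 2) ∨ (1 ≤ i ∧ j = i + 1 ∧ j < t) then 1 else 0

noncomputable def cB (t : ℕ) (i : Fin (t + 1)) : ℝ :=
  if i.val ≤ 1 then 1 else if i.val = t then Real.sqrt 2 else 2

lemma cB_pos (t : ℕ) (i : Fin (t + 1)) : 0 < cB t i := by
  unfold cB; split_ifs <;> first | norm_num | exact Real.sqrt_pos.2 (by norm_num)

lemma cB_le (t : ℕ) (ht : 3 ≤ t) (i : Fin (t + 1)) :
    2 * cB t i ≤ ∑ j, Real.sqrt (symE (rB t) i j) * cB t j := by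
  have hf : ∀ j, 0 ≤ Real.sqrt (symE (rB t) i j) * cB t j := fun j =>
    mul_nonneg (Real.sqrt_nonneg _) (cB_pos t j).le
  obtain ⟨i, hi⟩ := i
  rcases (show i ≤ 1 ∨ i = 2 ∨ (3 ≤ i ∧ i < t) ∨ i = t by omega) with h | h | h | h
  · refine one_term hf ⟨2, by omega⟩ ?_
    have e : symE (rB t) (⟨i, hi⟩ : Fin (t + 1)) ⟨2, by omega⟩ = 1 := by simp only [symE, rB]; split_ifs <;> (try simp at *) <;> omega
    rw [e]
    simp only [cB, Nat.cast_one, Real.sqrt_one]
    split_ifs <;> (try simp at *) <;> first | omega | linarith [Real.sqrt_nonneg 2] | nlinarith [sqrt_two_mul, Real.sqrt_nonneg 2]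
  · subst h
    refine three_terms hf ⟨0, by omega⟩ ⟨1, by omega⟩ ⟨3, by omega⟩ (by simp) (by simp) (by simp) ?_
    have e0 : symE (rB t) (⟨2, hi⟩ : Fin (t + 1)) ⟨0, by omega⟩ = 1 := by simp only [symE, rB]; split_ifs <;> (try simp at *) <;> omega
    have e1 : symE (rB t) (⟨2, hi⟩ : Fin (t + 1)) ⟨1, by omega⟩ = 1 := by simp only [symE, rB]; split_ifs <;> (try simp at *) <;> omega
    rw [e0, e1]
    by_cases h3 : t = 3
    · subst h3
      simp [cB, symE, rB]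
      norm_num
    · have e3 : symE (rB t) (⟨2, hi⟩ : Fin (t + 1)) ⟨3, by omega⟩ = 1 := by simp only [symE, rB]; split_ifs <;> (try simp at *) <;> omega
      rw [e3]
      simp only [cB, Nat.cast_one, Real.sqrt_one]
      split_ifs <;> (try simp at *) <;> first | omega | linarith [Real.sqrt_nonneg 2] | nlinarith [sqrt_two_mul, Real.sqrt_nonneg 2]
  · refine two_terms hf ⟨i - 1, by omega⟩ ⟨i + 1, by omega⟩ (by simp <;> omega) ?_
    have e0 : symE (rB t) (⟨i, hi⟩ : Fin (t + 1)) ⟨i - 1, by omega⟩ = 1 := by simp only [symE, rB]; split_ifs <;> (try simp at *) <;> omega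
    rw [e0]
    by_cases hlast : i + 1 = t
    · have e1 : symE (rB t) (⟨i, hi⟩ : Fin (t + 1)) ⟨i + 1, by omega⟩ = 2 := by simp only [symE, rB]; split_ifs <;> (try simp at *) <;> omega
      rw [e1]
      simp only [cB, Nat.cast_one, Nat.cast_ofNat, Real.sqrt_one]
      split_ifs <;> (try simp at *) <;> first | omega | linarith [Real.sqrt_nonneg 2] | nlinarith [sqrt_two_mul, Real.sqrt_nonneg 2]
    · have e1 : symE (rB t) (⟨i, hi⟩ : Fin (t + 1)) ⟨i + 1, by omega⟩ = 1 := by simp only [symE, rB]; split_ifs <;> (try simp at *) <;> omega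
      rw [e1]
      simp only [cB, Nat.cast_one, Real.sqrt_one]
      split_ifs <;> (try simp at *) <;> first | omega | linarith [Real.sqrt_nonneg 2] | nlinarith [sqrt_two_mul, Real.sqrt_nonneg 2]
  · subst h
    refine one_term hf ⟨i - 1, by omega⟩ ?_
    have e : symE (rB i) (⟨i, hi⟩ : Fin (i + 1)) ⟨i - 1, by omega⟩ = 2 := by simp only [symE, rB]; split_ifs <;> (try simp at *) <;> omega
    rw [e]
    simp only [cB, Nat.cast_ofNat]
    split_ifs <;> (try simp at *) <;> first | omega | linarith [Real.sqrt_nonneg 2] | nlinarith [sqrt_two_mul, Real.sqrt_nonneg 2]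

def rC (t : ℕ) (i j : ℕ) : ℕ :=
  if j = i + 1 ∧ j ≤ t then (if i = 0 ∨ j = t then 2 else 1) else 0

noncomputable def cC (t : ℕ) (i : Fin (t + 1)) : ℝ :=
  if i.val = 0 ∨ i.val = t then 1 else Real.sqrt 2

lemma cC_pos (t : ℕ) (i : Fin (t + 1)) : 0 < cC t i := by
  unfold cC; split_ifs <;> first | norm_num | exact Real.sqrt_pos.2 (by norm_num)

lemma cC_le (t : ℕ) (ht : 2 ≤ t) (i : Fin (t + 1)) :
    2 * cC t i ≤ ∑ j, Real.sqrt (symE (rC t) i j) * cC t j := by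
  have hf : ∀ j, 0 ≤ Real.sqrt (symE (rC t) i j) * cC t j := fun j =>
    mul_nonneg (Real.sqrt_nonneg _) (cC_pos t j).le
  obtain ⟨i, hi⟩ := i
  rcases (show i = 0 ∨ (1 ≤ i ∧ i < t) ∨ i = t by omega) with h | h | h
  · subst h
    refine one_term hf ⟨1, by omega⟩ ?_
    have e : symE (rC t) (⟨0, hi⟩ : Fin (t + 1)) ⟨1, by omega⟩ = 2 := by simp only [symE, rC]; split_ifs <;> (try simp at *) <;> omega
    rw [e]
    simp only [cC, Nat.cast_ofNat]
    split_ifs <;> (try simp at *) <;> first | omega | linarith [Real.sqrt_nonneg 2] | nlinarith [sqrt_two_mul, Real.sqrt_nonneg 2]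
  · refine two_terms hf ⟨i - 1, by omega⟩ ⟨i + 1, by omega⟩ (by simp <;> omega) ?_
    have e0 : symE (rC t) (⟨i, hi⟩ : Fin (t + 1)) ⟨i - 1, by omega⟩ = if i = 1 then 2 else 1 := by
      simp only [symE, rC]; split_ifs <;> (try simp at *) <;> omega
    have e1 : symE (rC t) (⟨i, hi⟩ : Fin (t + 1)) ⟨i + 1, by omega⟩ = if i + 1 = t then 2 else 1 := by
      simp only [symE, rC]; split_ifs <;> (try simp at *) <;> omega
    rw [e0, e1]
    simp only [cC]
    split_ifs <;> (try simp at *) <;> first | omega | linarith [Real.sqrt_nonneg 2] | nlinarith [sqrt_two_mul, Real.sqrt_nonneg 2]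
  · subst h
    refine one_term hf ⟨i - 1, by omega⟩ ?_
    have e : symE (rC i) (⟨i, hi⟩ : Fin (i + 1)) ⟨i - 1, by omega⟩ = 2 := by simp only [symE, rC]; split_ifs <;> (try simp at *) <;> omega
    rw [e]
    simp only [cC, Nat.cast_ofNat]
    split_ifs <;> (try simp at *) <;> first | omega | linarith [Real.sqrt_nonneg 2] | nlinarith [sqrt_two_mul, Real.sqrt_nonneg 2]

end Groth.Agent.NumType
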