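import Groth.Agent.Lib.NumType.Shapes

/-! Consequences for proper configurations of `(-2)`-indices. -/

namespace Groth.Agent.NumType

open Finset Models

variable {n : ℕ} {T : NumericalType n}

/-- Configurations with a cycle: every member has two neighbours in the set. -/
lemma cycle_false (S : Finset (Fin n)) (hS : S.Nonempty) (hne : S.card < n)
    (hv : ∀ i ∈ S, T.IsMinusTwo i) (hdeg : ∀ i ∈ S, 2 ≤ (nbrs T S i).card) : False := by
  classical
  refine diagram_false (ι := S) (fun i => i.1) Subtype.val_injective hS.to_subtype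
    (by simpa using hne) (fun i => hv _ i.2) (fun i j => if 0 < T.a i.1 j.1 then 1 else 0)
    (fun i => by simp [(diag_nonpos T i.1).not_gt]) ?_ (fun _ => 1) (fun _ => one_pos) ?_
  · intro i j h
    by_cases hp : 0 < T.a i.1 j.1
    · simpa [hp] using str_one hp
    · simp [hp] at h
  · intro i
    have e : ∑ j : S, Real.sqrt ((if 0 < T.a i.1 j.1 then 1 else 0 : ℕ) : ℝ) * 1 =
        ((nbrs T S i.1).card : ℝ) := by
      rw [nbrs, ← sum_boole, ← sum_coe_sort S]
      refine sum_congr rfl fun j _ => ?_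
      split <;> simp_all
    rw [e]
    have : (2 : ℝ) ≤ ((nbrs T S i.1).card : ℝ) := by exact_mod_cast hdeg i.1 i.2
    linarith

/-- A proper set of `(-2)`-indices is a forest. -/
lemma excess_neg (S : Finset (Fin n)) (hS : S.Nonempty) (hne : S.card < n)
    (hv : ∀ i ∈ S, T.IsMinusTwo i) : excess T S < 0 := by
  classical
  by_contra hge
  push Not at hge
  let F := S.powerset.filter fun C => C.Nonempty ∧ 0 ≤ excess T C
  obtain ⟨C, hC, hCmin⟩ := F.exists_min_image Finset.card ⟨S, by simp [F, hS, hge]⟩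
  simp only [F, mem_filter, mem_powerset] at hC hCmin
  obtain ⟨hCS, hCne, hC0⟩ := hC
  refine cycle_false C hCne (lt_of_le_of_lt (card_le_card hCS) hne) (fun i hi => hv i (hCS hi)) ?_
  intro v hv'
  by_contra hd
  rcases (C.erase v).eq_empty_or_nonempty with he | hne'
  · have e : C = {v} := by
      apply Subset.antisymm
      · intro x hx
        by_contra hx'
        have hxe : x ∈ C.erase v := mem_erase.2 ⟨fun h => hx' (mem_singleton.2 h), hx⟩
        simp [he] at hxe
      · simpa using hv'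
    rw [e] at hC0
    simp [excess, nbrs, (diag_nonpos T v).not_gt] at hC0
    rw [Finset.filter_singleton, if_neg (diag_nonpos T v).not_gt] at hC0
    simp at hC0
  · have h1 := excess_le_erase T C hv' (by omega)
    have h2 := hCmin (C.erase v) ⟨(erase_subset _ _).trans hCS, hne', hC0.trans h1⟩
    rw [card_erase_of_mem hv'] at h2
    have := card_pos.2 hCne
    omega

/-- In a spanning tree of `(-2)`-indices all other intersection numbers vanish. -/
lemma forest_zero {N : ℕ} (v : Fin N ↪ Fin n) (hN : N < n) (hv : ∀ i, T.IsMinusTwo (v i))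
    (E : Finset (Fin N × Fin N)) (hE : ∀ p ∈ E, p.1 < p.2 ∧ T.a (v p.1) (v p.2) ≠ 0)
    (hcard : N ≤ E.card + 1) (i j : Fin N) (hij : i < j) (hnot : (i, j) ∉ E) :
    T.a (v i) (v j) = 0 := by
  classical
  by_contra hne
  have hS := excess_neg (T := T) (univ.map v) ⟨v i, by simp⟩ (by simpa using hN) (by simpa using hv)
  have hd : ∀ k, ((nbrs T (univ.map v) (v k)).card : ℤ) =
      ((univ.filter fun l => 0 < T.a (v k) (v l)).card : ℤ) := fun k => by
    rw [nbrs, filter_map, card_map]; rfl
  let P : Finset (Fin N × Fin N) := univ.filter fun p => 0 < T.a (v p.1) (v p.2)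
  have hP : (P.card : ℤ) = ∑ k, ((univ.filter fun l => 0 < T.a (v k) (v l)).card : ℤ) := by
    rw [← Nat.cast_sum]
    congr 1
    simp only [P, card_filter, ← univ_product_univ]
    rw [sum_product]
  let E' := insert (i, j) E
  have hE' : ∀ p ∈ E', p.1 < p.2 ∧ 0 < T.a (v p.1) (v p.2) := by
    intro p hp
    rcases mem_insert.1 hp with rfl | hp
    · exact ⟨hij, pos_of_ne T (fun e => hij.ne (v.injective e)) hne⟩
    · obtain ⟨h1, h2⟩ := hE p hp
      exact ⟨h1, pos_of_ne T (fun e => h1.ne (v.injective e)) h2⟩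
  have hsub : E' ∪ E'.image Prod.swap ⊆ P := by
    intro p hp
    rcases mem_union.1 hp with hp | hp
    · simpa [P] using (hE' p hp).2
    · obtain ⟨q, hq, rfl⟩ := mem_image.1 hp
      simpa [P, a_symm T (v q.2) (v q.1)] using (hE' q hq).2
  have hdis : Disjoint E' (E'.image Prod.swap) := by
    rw [disjoint_left]
    intro p hp hp'
    obtain ⟨q, hq, rfl⟩ := mem_image.1 hp'
    exact lt_asymm (hE' q hq).1 (hE' _ hp).1
  have hcard2 := card_le_card hsub
  rw [card_union_of_disjoint hdis, card_image_of_injective _ Prod.swap_injective,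
    card_insert_of_notMem hnot] at hcard2
  rw [excess, sum_map] at hS
  simp only [hd, sum_sub_distrib, ← hP, sum_const, card_univ, Fintype.card_fin, nsmul_eq_mul] at hS
  omega

/-- `B̃`: a double edge together with a branch point. -/
lemma B_false (t : ℕ) (ht : 3 ≤ t) (htn : t + 1 < n) (v : Fin (t + 1) → Fin n)
    (hinj : Function.Injective v) (hv : ∀ i, T.IsMinusTwo (v i))
    (h02 : ∀ i j : Fin (t + 1), i.val = 0 → j.val = 2 → 2 < t → 0 < T.a (v i) (v j))
    (hchain : ∀ i j : Fin (t + 1), 1 ≤ i.val → j.val = i.val + 1 → j.val < t → 0 < T.a (v i) (v j))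
    (hlast : ∀ i j : Fin (t + 1), i.val + 1 = t → j.val = t → Str T 2 (v i) (v j)) : False := by
  refine diagram_false v hinj inferInstance (by simpa using htn) hv (symE (rB t)) (symE_self _)
    (str_symE _ _ fun i j _ h => ?_) (cB t) (cB_pos t) (cB_le t ht)
  unfold rB at h ⊢
  split_ifs at h ⊢ with h1 h2
  · exact hlast i j (by omega) h1.2
  · rcases h2 with h2 | h2
    · exact str_one (h02 i j h2.1 h2.2 (by omega))
    · exact str_one (hchain i j h2.1 h2.2.1 h2.2.2)
  · exact absurd rfl h

lemma D_false (t : ℕ) (ht : 3 ≤ t) (htn : t + 2 < n) (v : Fin (t + 2) → Fin n)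
    (hinj : Function.Injective v) (hv : ∀ i, T.IsMinusTwo (v i))
    (h02 : ∀ i j : Fin (t + 2), i.val = 0 → j.val = 2 → 0 < T.a (v i) (v j))
    (hchain : ∀ i j : Fin (t + 2), 1 ≤ i.val → j.val = i.val + 1 → j.val ≤ t → 0 < T.a (v i) (v j))
    (hlast : ∀ i j : Fin (t + 2), i.val = t - 1 → j.val = t + 1 → 0 < T.a (v i) (v j)) : False := by
  refine diagram_false v hinj inferInstance (by simpa using htn) hv (symE (rD t)) (symE_self _)
    (str_symE _ _ fun i j _ h => ?_) (cD t) (cD_pos t) (cD_le t ht)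
  unfold rD at h ⊢
  split_ifs at h ⊢ with h1
  · refine str_one ?_
    rcases h1 with h1 | h1 | h1
    · exact h02 i j h1.1 h1.2
    · exact hchain i j h1.1 h1.2.1 h1.2.2
    · exact hlast i j h1.1 h1.2
  · exact absurd rfl h

lemma C_false (t : ℕ) (ht : 2 ≤ t) (htn : t + 1 < n) (v : Fin (t + 1) → Fin n)
    (hinj : Function.Injective v) (hv : ∀ i, T.IsMinusTwo (v i))
    (hchain : ∀ i j : Fin (t + 1), j.val = i.val + 1 → 0 < T.a (v i) (v j))
    (hfirst : ∀ i j : Fin (t + 1), i.val = 0 → j.val = 1 → Str T 2 (v i) (v j))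
    (hlast : ∀ i j : Fin (t + 1), i.val + 1 = t → j.val = t → Str T 2 (v i) (v j)) : False := by
  refine diagram_false v hinj inferInstance (by simpa using htn) hv (symE (rC t)) (symE_self _)
    (str_symE _ _ fun i j _ h => ?_) (cC t) (cC_pos t) (cC_le t ht)
  unfold rC at h ⊢
  split_ifs at h ⊢ with h1 h2
  · rcases h2 with h2 | h2
    · exact hfirst i j h2 (by omega)
    · exact hlast i j (by omega) h2
  · exact str_one (hchain i j h1.1)
  · exact absurd rfl h

lemma F4_false (hn : 5 < n) (v : Fin 5 → Fin n) (hinj : Function.Injective v)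
    (hv : ∀ i, T.IsMinusTwo (v i)) (h01 : 0 < T.a (v 0) (v 1)) (h12 : 0 < T.a (v 1) (v 2))
    (h23 : Str T 2 (v 2) (v 3)) (h34 : 0 < T.a (v 3) (v 4)) : False := by
  refine diagram_false v hinj inferInstance (by simpa using hn) hv (symE rF4) (symE_self _)
    (str_symE _ _ fun i j hij h => ?_) cF4 cF4_pos cF4_le
  fin_cases i <;> fin_cases j <;>
    simp_all (config := { decide := true }) [rF4, edgesR] <;>
    first | exact str_one h01 | exact str_one h12 | exact str_one h34

lemma G2_false (hn : 3 < n) {x y z : Fin n} (hxy : 0 < T.a x y) (hyz : Str T 3 y z) (hxz : x ≠ z)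
    (hx : T.IsMinusTwo x) (hy : T.IsMinusTwo y) (hz : T.IsMinusTwo z) : False := by
  have hxy' := ne_of_pos T hxy
  have hyz' := ne_of_pos T hyz.1
  refine diagram_false (T := T) ![x, y, z] ?_ inferInstance (by simpa using hn) ?_ (symE rG2) (symE_self _)
    (str_symE _ _ fun i j hij h => ?_) cG2 cG2_pos cG2_le
  · intro i j h
    fin_cases i <;> fin_cases j <;> first | rfl | simp_all
  · intro i
    fin_cases i <;> assumption
  · fin_cases i <;> fin_cases j <;> simp_all [rG2, edgesR]
    exact str_one hxy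

lemma A1_false (hn : 2 < n) {i j : Fin n} (h : Str T 4 i j)
    (hi : T.IsMinusTwo i) (hj : T.IsMinusTwo j) : False := by
  have hne := ne_of_pos T h.1
  refine diagram_false (T := T) ![i, j] ?_ inferInstance (by simpa using hn) ?_ (symE rA1) (symE_self _)
    (str_symE _ _ fun a b hab h' => ?_) cA1 cA1_pos cA1_le
  · intro a b e
    fin_cases a <;> fin_cases b <;> first | rfl | simp_all
  · intro a
    fin_cases a <;> assumption
  · fin_cases a <;> fin_cases b <;> simp_all [rA1, edgesR]

/-- A double edge in either orientation. -/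
def Double (i j : Fin n) (T : NumericalType n) : Prop :=
  (T.a i j = 2 * T.w i ∧ T.w j = 2 * T.w i) ∨ (T.a i j = T.w i ∧ T.w i = 2 * T.w j)

/-- A triple edge in either orientation. -/
def Triple (i j : Fin n) (T : NumericalType n) : Prop :=
  (T.a i j = 3 * T.w i ∧ T.w j = 3 * T.w i) ∨ (T.a i j = T.w i ∧ T.w i = 3 * T.w j)

lemma edge_cases (hn : 2 < n) {i j : Fin n} (h : 0 < T.a i j) (hi : T.IsMinusTwo i)
    (hj : T.IsMinusTwo j) : Simple T i j ∨ Double i j T ∨ Triple i j T := by
  obtain ⟨k, l, hk, hl, e1, e2⟩ := exists_mul T i j h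
  have hkl : k * l < 4 := by
    by_contra h4
    refine A1_false hn ⟨h, ?_⟩ hi hj
    push_cast
    calc 4 * (T.w i * T.w j) ≤ (k * l) * (T.w i * T.w j) :=
          mul_le_mul_of_nonneg_right (by omega) (mul_nonneg (T.w_pos i).le (T.w_pos j).le)
      _ = T.a i j ^ 2 := by rw [pow_two]; nth_rewrite 2 [e2]; rw [e1]; ring
  have hk4 : k < 4 := lt_of_le_of_lt (le_mul_of_one_le_right hk.le hl) hkl
  have hl4 : l < 4 := lt_of_le_of_lt (le_mul_of_one_le_left hl.le hk) hkl
  unfold Double Triple Simple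
  interval_cases k <;> interval_cases l <;> omega

lemma str_two_of_not_simple {i j : Fin n} (h : 0 < T.a i j) (hs : ¬ Simple T i j) : Str T 2 i j :=
  (simple_or_str_two h).resolve_left hs

lemma Triple.str {i j : Fin n} (h : Triple i j T) : Str T 3 i j := by
  have hw := T.w_pos i
  have hwj := T.w_pos j
  rcases h with ⟨h1, h2⟩ | ⟨h1, h2⟩ <;>
    exact ⟨by omega, by push_cast; rw [h1, h2]; nlinarith⟩

lemma simple_or_double (hn : 3 < n) {i j k : Fin n} (hij : 0 < T.a i j) (hjk : 0 < T.a j k)
    (hik : i ≠ k) (hi : T.IsMinusTwo i) (hj : T.IsMinusTwo j) (hk : T.IsMinusTwo k) :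
    Simple T i j ∨ Double i j T := by
  rcases edge_cases (by omega) hij hi hj with h | h | h
  · exact Or.inl h
  · exact Or.inr h
  · exact (G2_false hn (x := k) (y := j) (z := i) (a_symm T j k ▸ hjk) h.str.symm hik.symm hk hj hi).elim

/-- At a branch point, the edge is simple. -/
lemma branch_simple (hn : 4 < n) {c x y z : Fin n} (hx : 0 < T.a c x) (hy : 0 < T.a c y)
    (hz : 0 < T.a c z) (hxy : x ≠ y) (hxz : x ≠ z) (hyz : y ≠ z) (Hc : T.IsMinusTwo c)
    (Hx : T.IsMinusTwo x) (Hy : T.IsMinusTwo y) (Hz : T.IsMinusTwo z) : Simple T c z := by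
  by_contra hs
  have n1 := ne_of_pos T hx
  have n2 := ne_of_pos T hy
  have n3 := ne_of_pos T hz
  refine B_false (T := T) 3 le_rfl hn ![x, y, c, z] ?_ ?_ ?_ ?_ ?_
  · intro a b e
    fin_cases a <;> fin_cases b <;> first | rfl | simp_all
  · intro a
    fin_cases a <;> assumption
  · intro a b ha hb _
    obtain rfl : a = 0 := Fin.ext ha
    obtain rfl : b = 2 := Fin.ext hb
    simpa [a_symm T x c] using hx
  · intro a b ha hb hb'
    obtain rfl : a = 1 := Fin.ext (show a.val = 1 by omega)
    obtain rfl : b = 2 := Fin.ext (show b.val = 2 by simpa using hb)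
    simpa [a_symm T y c] using hy
  · intro a b ha hb
    obtain rfl : a = 2 := Fin.ext (show a.val = 2 by omega)
    obtain rfl : b = 3 := Fin.ext hb
    simpa using str_two_of_not_simple hz hs

lemma row1 {i x : Fin n} (hi : T.IsMinusTwo i) (hx : i ≠ x) :
    T.a i x * T.m x ≤ 2 * T.w i * T.m i := by
  simpa using IsMinusTwo.row_le hi {x} (by simp [hx])

lemma row2 {i x y : Fin n} (hi : T.IsMinusTwo i) (hx : i ≠ x) (hy : i ≠ y) (hxy : x ≠ y) :
    T.a i x * T.m x + T.a i y * T.m y ≤ 2 * T.w i * T.m i := by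
  have h := IsMinusTwo.row_le hi {x, y} (by simp [hx, hy])
  rwa [sum_pair hxy] at h

lemma row3 {i x y z : Fin n} (hi : T.IsMinusTwo i) (hx : i ≠ x) (hy : i ≠ y) (hz : i ≠ z)
    (hxy : x ≠ y) (hxz : x ≠ z) (hyz : y ≠ z) :
    T.a i x * T.m x + T.a i y * T.m y + T.a i z * T.m z ≤ 2 * T.w i * T.m i := by
  have h := IsMinusTwo.row_le hi {x, y, z} (by simp [hx, hy, hz])
  rwa [sum_insert (by simp [hxy, hxz]), sum_pair hyz, ← add_assoc] at h

end Groth.Agent.NumType
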