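import Mathlib.LinearAlgebra.Matrix.Symmetric
import Mathlib.LinearAlgebra.Matrix.ToLin
import Mathlib.LinearAlgebra.Quotient.Basic
import Mathlib.Algebra.Module.Torsion.Basic
import Mathlib.LinearAlgebra.Dual.Lemmas
import Mathlib.LinearAlgebra.Dimension.RankNullity
import Mathlib.FieldTheory.Finite.Basic
import Mathlib.Algebra.BigOperators.Fin
import Mathlib.Tactic.LinearCombination

/-! The `ℓ`-torsion of the cokernel of a connected symmetric matrix killing a positive vector. -/

namespace Groth.Agent.NumType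

open Finset

/-- Over a field: if the off-diagonal support of `a` is a connected graph with edge set `E` and
`u` is a nowhere-zero vector killed by `a`, then the kernel of `a` has dimension at most
`#E + 2 - n`. -/
lemma finrank_ker_le {K : Type*} [Field K] {n : ℕ} (a : Matrix (Fin n) (Fin n) K) (u : Fin n → K)
    (hs : a.IsSymm) (hu : ∀ i, u i ≠ 0) (hau : a.mulVec u = 0) (hn : 0 < n)
    (E : Finset (Fin n × Fin n)) (hE : ∀ p, p ∈ E ↔ p.1 < p.2 ∧ a p.1 p.2 ≠ 0)
    (hconn : ∀ I : Finset (Fin n), I.Nonempty → I ≠ univ → ∃ i ∈ I, ∃ j ∉ I, a i j ≠ 0) :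
    Module.finrank K (LinearMap.ker (Matrix.mulVecLin a)) + n ≤ E.card + 2 := by
  classical
  let i0 : Fin n := ⟨0, hn⟩
  let δ : (Fin n → K) →ₗ[K] (E → K) :=
    { toFun := fun v p => v p.1.1 - v p.1.2
      map_add' := fun v v' => funext fun p => by simp only [Pi.add_apply]; ring
      map_smul' := fun c v => funext fun p => by simp only [Pi.smul_apply, smul_eq_mul, RingHom.id_apply]; ring }
  have hconst : ∀ v : Fin n → K, δ v = 0 → ∀ i, v i = v i0 := by
    intro v hv
    let I : Finset (Fin n) := univ.filter fun i => v i = v i0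
    have hI : I = univ := by
      by_contra hne
      obtain ⟨i, hi, j, hj, hij⟩ := hconn I ⟨i0, by simp [I]⟩ hne
      simp only [I, mem_filter, mem_univ, true_and] at hi hj
      rcases lt_trichotomy i j with h | h | h
      · have := congrFun hv ⟨(i, j), (hE _).2 ⟨h, hij⟩⟩
        exact hj ((sub_eq_zero.1 this).symm.trans hi)
      · exact hj (h ▸ hi)
      · have := congrFun hv ⟨(j, i), (hE _).2 ⟨h, by rwa [hs.apply]⟩⟩
        exact hj ((sub_eq_zero.1 this).trans hi)
    intro i
    have : i ∈ I := hI ▸ mem_univ i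
    simpa [I] using this
  have hrkδ : n ≤ Module.finrank K (LinearMap.range δ) + 1 := by
    have hk : LinearMap.ker δ ≤ K ∙ (fun _ => (1 : K)) := fun v hv =>
      Submodule.mem_span_singleton.2 ⟨v i0, funext fun i => by simp [hconst v hv i]⟩
    have h1 := Submodule.finrank_mono hk
    have h2 := finrank_span_singleton (K := K) (v := (fun _ => (1 : K) : Fin n → K))
      (fun e => one_ne_zero (congrFun e i0))
    have h3 := LinearMap.finrank_range_add_finrank_ker δ
    rw [Module.finrank_fin_fun] at h3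
    omega
  let Φ : (Fin n → K) →ₗ[K] Module.Dual K (E → K) :=
      { toFun := fun y => ∑ p : E, (a p.1.1 p.1.2 * u p.1.1 * u p.1.2 * (y p.1.1 / u p.1.1 - y p.1.2 / u p.1.2)) •
          (LinearMap.proj p : (E → K) →ₗ[K] K)
        map_add' := fun y y' => by
          rw [← sum_add_distrib]
          refine sum_congr rfl fun p _ => ?_
          rw [← add_smul]
          congr 1
          simp only [Pi.add_apply]
          ring
        map_smul' := fun c y => by
          rw [RingHom.id_apply, smul_sum]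
          refine sum_congr rfl fun p _ => ?_
          rw [smul_smul]
          congr 1
          simp only [Pi.smul_apply, smul_eq_mul]
          ring }
  have hΦ : ∀ y v, Φ y (δ v) = ∑ p : E,
      a p.1.1 p.1.2 * u p.1.1 * u p.1.2 * (y p.1.1 / u p.1.1 - y p.1.2 / u p.1.2) * (v p.1.1 - v p.1.2) := by
    intro y v
    simp [Φ, δ]
  -- the pairing is `-⟪v, a y⟫`
  have hpair : ∀ y v : Fin n → K, Φ y (δ v) = - ∑ i, v i * u i * a.mulVec y i := by
    intro y v
    rw [hΦ]
    let F : Fin n → Fin n → K := fun i j => a i j * u i * u j * (y i / u i - y j / u j) * v i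
    have h1 : ∀ p : Fin n × Fin n, p.1 < p.2 → p ∉ E → F p.1 p.2 = 0 ∧ F p.2 p.1 = 0 := by
      intro p hp hpE
      have : a p.1 p.2 = 0 := by by_contra h; exact hpE ((hE p).2 ⟨hp, h⟩)
      simp [F, this, hs.apply p.1 p.2]
    have e1 : ∑ p : E, a p.1.1 p.1.2 * u p.1.1 * u p.1.2 * (y p.1.1 / u p.1.1 - y p.1.2 / u p.1.2) * (v p.1.1 - v p.1.2) =
        ∑ p ∈ univ.filter (fun p : Fin n × Fin n => p.1 < p.2), (F p.1 p.2 + F p.2 p.1) := by
      rw [sum_coe_sort E (fun p => a p.1 p.2 * u p.1 * u p.2 * (y p.1 / u p.1 - y p.2 / u p.2) * (v p.1 - v p.2))]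
      refine (sum_congr rfl fun p _ => ?_).trans (sum_subset
        (fun p hp => by simp [((hE p).1 hp).1]) fun p hp hpE => by
          rw [(h1 p (by simpa using hp) hpE).1, (h1 p (by simpa using hp) hpE).2, add_zero])
      simp only [F, hs.apply p.1 p.2]
      ring
    have e2 : ∑ p ∈ univ.filter (fun p : Fin n × Fin n => p.1 < p.2), (F p.1 p.2 + F p.2 p.1) =
        ∑ i, ∑ j, F i j := by
      have hswap : ∑ p ∈ univ.filter (fun p : Fin n × Fin n => p.1 < p.2), F p.2 p.1 =
          ∑ p ∈ univ.filter (fun p : Fin n × Fin n => p.2 < p.1), F p.1 p.2 :=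
        sum_nbij' Prod.swap Prod.swap (by simp) (by simp) (by simp) (by simp) (by simp)
      have hdiag : ∑ p ∈ univ.filter (fun p : Fin n × Fin n => ¬ p.1 < p.2 ∧ ¬ p.2 < p.1), F p.1 p.2 = 0 :=
        sum_eq_zero fun p hp => by
          have : p.1 = p.2 := by
            simp only [mem_filter, mem_univ, true_and] at hp
            exact le_antisymm (not_lt.1 hp.2) (not_lt.1 hp.1)
          simp [F, this]
      rw [sum_add_distrib, hswap, ← Fintype.sum_prod_type',
        ← sum_filter_add_sum_filter_not univ (fun p : Fin n × Fin n => p.1 < p.2),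
        ← sum_filter_add_sum_filter_not (univ.filter fun p : Fin n × Fin n => ¬ p.1 < p.2) (fun p => p.2 < p.1),
        filter_filter, filter_filter, hdiag, add_zero]
      congr 2
      ext p
      simp only [mem_filter, mem_univ, true_and]
      exact ⟨fun h => ⟨h.asymm, h⟩, fun h => h.2⟩
    have e3 : ∀ i, ∑ j, F i j = -(v i * u i * a.mulVec y i) := by
      intro i
      have hF : ∀ j, F i j = v i * y i * (a i j * u j) - v i * u i * (a i j * y j) := fun j => by
        have := hu i
        have := hu j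
        simp only [F]
        field_simp
      have hz : ∑ j, a i j * u j = 0 := congrFun hau i
      simp only [hF, sum_sub_distrib, ← Finset.mul_sum, hz, mul_zero, zero_sub, Matrix.mulVec, dotProduct]
    rw [e1, e2, sum_congr rfl fun i _ => e3 i, sum_neg_distrib]
  let Ψ : LinearMap.ker (Matrix.mulVecLin a) →ₗ[K] Module.Dual K (E → K) :=
    Φ.comp (LinearMap.ker (Matrix.mulVecLin a)).subtype
  have hrange : LinearMap.range Ψ ≤ LinearMap.ker δ.dualMap := by
    rintro _ ⟨y, rfl⟩
    refine LinearMap.mem_ker.2 (LinearMap.ext fun v => ?_)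
    show Φ y.1 (δ v) = 0
    rw [hpair]
    have : a.mulVec y.1 = 0 := y.2
    simp [this]
  have hΨ : ∀ y, Ψ y = 0 → ∃ c : K, c • u = y.1 := by
    intro y hy
    have hΦ0 : Φ y.1 = 0 := hy
    have hd : δ (fun i => y.1 i / u i) = 0 := by
      funext p
      have := LinearMap.congr_fun hΦ0 (Pi.single p 1)
      simp [Φ, Pi.single_apply] at this
      rcases this with (h | h) | h
      · rcases h with h | h
        · exact absurd h ((hE _).1 p.2).2
        · exact absurd h (hu _)
      · exact absurd h (hu _)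
      · exact h
    exact ⟨y.1 i0 / u i0, funext fun i => by
      rw [Pi.smul_apply, smul_eq_mul, ← hconst _ hd i, div_mul_cancel₀ _ (hu i)]⟩
  have hkerΨ : Module.finrank K (LinearMap.ker Ψ) ≤ 1 := by
    have inj : Function.Injective
        ((LinearMap.proj i0 : (Fin n → K) →ₗ[K] K).comp
          ((LinearMap.ker (Matrix.mulVecLin a)).subtype.comp (LinearMap.ker Ψ).subtype)) := by
      refine (injective_iff_map_eq_zero _).2 fun y hy => ?_
      obtain ⟨c, hc⟩ := hΨ y.1 y.2
      have h0 : y.1.1 i0 = 0 := hy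
      rw [← hc] at h0
      simp [hu i0] at h0
      apply Subtype.ext; apply Subtype.ext
      simp [← hc, h0]
    simpa using LinearMap.finrank_le_finrank_of_injective inj
  have h3 := LinearMap.finrank_range_add_finrank_ker Ψ
  have h4 : Module.finrank K (LinearMap.range Ψ) ≤ Module.finrank K (LinearMap.ker δ.dualMap) :=
    Submodule.finrank_mono hrange
  have h5 := LinearMap.finrank_range_add_finrank_ker δ.dualMap
  rw [LinearMap.finrank_range_dualMap_eq_finrank_range, Subspace.dual_finrank_eq,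
    Module.finrank_fintype_fun_eq_card, Fintype.card_coe] at h5
  omega

lemma card_torsion_le {n : ℕ} (A : Matrix (Fin n) (Fin n) ℤ) (m : Fin n → ℤ) (hsymm : A.IsSymm)
    (hA : ∀ i j, i ≠ j → 0 ≤ A i j) (hm : ∀ i, 0 < m i) (hAm : A.mulVec m = 0)
    (hconn : ∀ I : Finset (Fin n), I.Nonempty → I ≠ univ → ∃ i ∈ I, ∃ j ∉ I, A i j ≠ 0)
    (ℓ : ℕ) (hℓ : ℓ.Prime) (hℓA : ∀ i j, A i j ≠ 0 → ¬ ((ℓ : ℤ) ∣ A i j))
    (hℓm : ∀ i, ¬ ((ℓ : ℤ) ∣ m i)) :
    Nat.card (Submodule.torsionBy ℤ ((Fin n → ℤ) ⧸ LinearMap.range (Matrix.mulVecLin A)) (ℓ : ℤ))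
      ≤ ℓ ^ ((univ.filter fun p : Fin n × Fin n => p.1 < p.2 ∧ 0 < A p.1 p.2).card + 1 - n) := by
  classical
  haveI := Fact.mk hℓ
  rcases Nat.eq_zero_or_pos n with rfl | hn
  · rw [Nat.card_of_subsingleton (⟨0, Submodule.zero_mem _⟩ : Submodule.torsionBy ℤ
      ((Fin 0 → ℤ) ⧸ LinearMap.range (Matrix.mulVecLin A)) (ℓ : ℤ))]
    exact Nat.one_le_pow _ _ hℓ.pos
  set E := univ.filter fun p : Fin n × Fin n => p.1 < p.2 ∧ 0 < A p.1 p.2 with hEdef
  let a : Matrix (Fin n) (Fin n) (ZMod ℓ) := A.map Int.cast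
  let u : Fin n → ZMod ℓ := fun i => (m i : ZMod ℓ)
  have hne0 : ∀ x : ℤ, ¬ (ℓ : ℤ) ∣ x → (x : ZMod ℓ) ≠ 0 := fun x hx h =>
    hx ((ZMod.intCast_zmod_eq_zero_iff_dvd x ℓ).1 h)
  have ha : ∀ i j, a i j ≠ 0 ↔ A i j ≠ 0 := fun i j =>
    ⟨fun h h0 => h (by simp [a, h0]), fun h => hne0 _ (hℓA i j h)⟩
  have hau : a.mulVec u = 0 := by
    funext i
    have h := congrArg (Int.cast (R := ZMod ℓ)) (show ∑ j, A i j * m j = 0 from congrFun hAm i)
    push_cast at h
    exact h
  have hker := finrank_ker_le a u (Matrix.IsSymm.ext fun i j => by simp [a, hsymm.apply i j])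
    (fun i => hne0 _ (hℓm i)) hau hn E
    (fun p => by
      simp only [hEdef, mem_filter, mem_univ, true_and, ha]
      exact ⟨fun h => ⟨h.1, h.2.ne'⟩, fun h => ⟨h.1, lt_of_le_of_ne (hA _ _ h.1.ne) (Ne.symm h.2)⟩⟩)
    (fun I h1 h2 => by simpa only [ha] using hconn I h1 h2)
  -- choose representatives
  let Q := (Fin n → ℤ) ⧸ LinearMap.range (Matrix.mulVecLin A)
  have hrep : ∀ t : Submodule.torsionBy ℤ Q (ℓ : ℤ), ∃ x z : Fin n → ℤ,
      Submodule.Quotient.mk x = t.1 ∧ A.mulVec z = (ℓ : ℤ) • x := by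
    rintro ⟨t, ht⟩
    induction t using Submodule.Quotient.induction_on with
    | H x =>
      have h0 : (Submodule.Quotient.mk ((ℓ : ℤ) • x) : Q) = 0 := by
        rw [Submodule.Quotient.mk_smul]; exact ht
      obtain ⟨z, hz⟩ := (Submodule.Quotient.mk_eq_zero _).1 h0
      exact ⟨x, z, rfl, hz⟩
  choose X Z hX hZ using hrep
  have hcast : ∀ z : Fin n → ℤ, ∀ i, ((A.mulVec z i : ℤ) : ZMod ℓ) = a.mulVec (fun j => (z j : ZMod ℓ)) i := by
    intro z i
    simp [Matrix.mulVec, dotProduct, a]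
  let G : Submodule.torsionBy ℤ Q (ℓ : ℤ) × ZMod ℓ → LinearMap.ker (Matrix.mulVecLin a) := fun p =>
    ⟨(fun j => (Z p.1 j : ZMod ℓ)) + p.2 • u, by
      refine LinearMap.mem_ker.2 ?_
      rw [Matrix.mulVecLin_apply, Matrix.mulVec_add, Matrix.mulVec_smul, hau, smul_zero, add_zero]
      funext i
      rw [← hcast, hZ]
      simp⟩
  have hG : Function.Injective G := by
    rintro ⟨t, c⟩ ⟨s, d⟩ h
    have h' : ∀ j, (Z t j : ZMod ℓ) + c * u j = (Z s j : ZMod ℓ) + d * u j := fun j =>
      congrFun (congrArg Subtype.val h) j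
    let e : ℤ := (d - c : ZMod ℓ).val
    have he : (e : ZMod ℓ) = d - c := by simp [e]
    have hdiv : ∀ j, ∃ z' : ℤ, Z t j - Z s j - e * m j = (ℓ : ℤ) * z' := fun j => by
      have : ((Z t j - Z s j - e * m j : ℤ) : ZMod ℓ) = 0 := by
        push_cast
        rw [he]
        linear_combination h' j
      exact (ZMod.intCast_zmod_eq_zero_iff_dvd _ ℓ).1 this
    choose z' hz' using hdiv
    have key : (ℓ : ℤ) • (X t - X s - A.mulVec z') = 0 := by
      have e1 : Z t - Z s = e • m + (ℓ : ℤ) • z' := funext fun j => by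
        simp only [Pi.sub_apply, Pi.add_apply, Pi.smul_apply, smul_eq_mul]
        linarith [hz' j]
      have e2 := congrArg A.mulVec e1
      rw [Matrix.mulVec_sub, Matrix.mulVec_add, Matrix.mulVec_smul, Matrix.mulVec_smul, hAm, smul_zero,
        zero_add, hZ, hZ] at e2
      rw [smul_sub, smul_sub, e2, sub_self]
    have key2 : X t - X s = A.mulVec z' := by
      have := (smul_eq_zero.1 key).resolve_left (by exact_mod_cast hℓ.pos.ne')
      exact sub_eq_zero.1 this
    have hts : t = s := Subtype.ext (by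
      rw [← hX t, ← hX s]
      exact (Submodule.Quotient.eq _).2 ⟨z', key2.symm⟩)
    subst hts
    have hu0 := h' ⟨0, hn⟩
    exact Prod.ext rfl (mul_right_cancel₀ (hne0 _ (hℓm ⟨0, hn⟩)) (add_left_cancel hu0))
  have hfin : Finite (Submodule.torsionBy ℤ Q (ℓ : ℤ)) :=
    Finite.of_injective (fun t => G (t, 0)) fun t s h => congrArg Prod.fst (hG h)
  have hcard := Nat.card_le_card_of_injective G hG
  rw [Nat.card_prod, Nat.card_zmod, Module.natCard_eq_pow_finrank (K := ZMod ℓ) (V := LinearMap.ker (Matrix.mulVecLin a)), Nat.card_zmod] at hcard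
  rcases Nat.lt_or_ge (E.card + 1) n with hlt | hge
  · have hpos : 0 < Nat.card (Submodule.torsionBy ℤ Q (ℓ : ℤ)) :=
      Nat.card_pos_iff.2 ⟨⟨0⟩, hfin⟩
    have h2 := Nat.pow_le_pow_right hℓ.pos (show Module.finrank (ZMod ℓ) (LinearMap.ker (Matrix.mulVecLin a)) ≤ 0 by omega)
    rw [pow_zero] at h2
    have h6 : ℓ ≤ Nat.card (Submodule.torsionBy ℤ Q (ℓ : ℤ)) * ℓ := Nat.le_mul_of_pos_left _ hpos
    have := hℓ.one_lt
    omega
  · have h6 : Nat.card (Submodule.torsionBy ℤ Q (ℓ : ℤ)) * ℓ ≤ ℓ ^ (E.card + 1 - n) * ℓ := by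
      rw [← pow_succ]
      exact hcard.trans (Nat.pow_le_pow_right hℓ.pos (by omega))
    exact Nat.le_of_mul_le_mul_right h6 hℓ.pos

end Groth.Agent.NumType
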